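import Groth.Agent.AlgSp.K615.Pt
import Mathlib.AlgebraicGeometry.Morphisms.Integral

/-!
# Integral morphisms of sheaves (helper615)

Formal properties of `AlgSp.IsIntegralMor`: base change, composition, cancellation, isomorphisms, and the form for maps
`h_U ⟶ h_V`.
-/

set_option autoImplicit false
universe u v
open CategoryTheory CategoryTheory.Limits AlgebraicGeometry Opposite AlgSp

namespace K615.Int

variable {S : Scheme.{u}}

/-- The underlying square of schemes of a pullback square in `Over S`. -/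
theorem isPullback_left {P A B C : Over S} {fst : P ⟶ A} {snd : P ⟶ B} {f : A ⟶ C} {g : B ⟶ C}
    (sq : IsPullback fst snd f g) : IsPullback fst.left snd.left f.left g.left :=
  sq.map (Over.forget S)

theorem isPullback_yon {P A B C : Over S} {fst : P ⟶ A} {snd : P ⟶ B} {f : A ⟶ C} {g : B ⟶ C}
    (sq : IsPullback fst snd f g) :
    IsPullback ((yon S).map fst) ((yon S).map snd) ((yon S).map f) ((yon S).map g) :=
  sq.map (yon S)

/-- `yon S` reflects pullback squares. -/
theorem isPullback_of_yon {P A B C : Over S} {fst : P ⟶ A} {snd : P ⟶ B} {f : A ⟶ C} {g : B ⟶ C}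
    (sq : IsPullback ((yon S).map fst) ((yon S).map snd) ((yon S).map f) ((yon S).map g)) :
    IsPullback fst snd f g :=
  IsPullback.of_map (yon S) ((yon S).map_injective (by
    rw [Functor.map_comp, Functor.map_comp, sq.w])) sq

theorem isAffine_of_isPullback {P A B C : Over S} {fst : P ⟶ A} {snd : P ⟶ B} {f : A ⟶ C} {g : B ⟶ C}
    (sq : IsPullback fst snd f g) (hA : IsAffine A.left) (hB : IsAffine B.left) (hC : IsAffine C.left) :
    IsAffine P.left :=
  .of_isIso (isPullback_left sq).isoPullback.hom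

theorem of_isPullback {P X Y Z : Sp S} {fst : P ⟶ X} {snd : P ⟶ Y} {f : X ⟶ Z} {g : Y ⟶ Z}
    (sq : IsPullback fst snd f g) (hf : IsIntegralMor f) : IsIntegralMor snd := by
  intro T hT t
  obtain ⟨W, i, a, sqW, hW, hi⟩ := hf hT (t ≫ g)
  exact ⟨W, i, _, IsPullback.of_right' sqW sq, hW, hi⟩

/-- A morphism of schemes with affine target is integral (in the scheme sense, so the source is affine) iff it is integral as
a morphism of sheaves. -/
theorem yon_map {U V : Over S} (g : U ⟶ V) (hg : IsIntegralHom g.left) : IsIntegralMor ((yon S).map g) := by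
  intro T hT t
  obtain ⟨t, rfl⟩ := (yon S).map_surjective t
  have sq := IsPullback.of_hasPullback g t
  have : IsIntegralHom (pullback.snd g t).left :=
    MorphismProperty.of_isPullback (P := @IsIntegralHom) (isPullback_left sq) hg
  exact ⟨_, _, _, isPullback_yon sq, isAffine_of_isAffineHom (pullback.snd g t).left, this⟩

theorem comp {X Y Z : Sp S} (f : X ⟶ Y) (g : Y ⟶ Z) (hf : IsIntegralMor f) (hg : IsIntegralMor g) :
    IsIntegralMor (f ≫ g) := by
  intro T hT t
  obtain ⟨W, i, a, sqW, hW, hi⟩ := hg hT t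
  obtain ⟨W', i', a', sqW', hW', hi'⟩ := hf hW a
  refine ⟨W', i' ≫ i, a', ?_, hW', ?_⟩
  · rw [(yon S).map_comp]
    exact sqW'.paste_vert sqW
  · rw [Over.comp_left]
    infer_instance

/-- Cancellation: if `f ≫ g` and `g` are integral, so is `f`. -/
theorem of_comp {X Y Z : Sp S} (f : X ⟶ Y) (g : Y ⟶ Z) (hfg : IsIntegralMor (f ≫ g)) (hg : IsIntegralMor g) :
    IsIntegralMor f := by
  intro T hT t
  obtain ⟨W, i, a, sqW, hW, hi⟩ := hfg hT (t ≫ g)
  obtain ⟨V, j, b, sqV, hV, hj⟩ := hg hT (t ≫ g)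
  -- the section `T ⟶ V`
  let s' : (yon S).obj T ⟶ (yon S).obj V := sqV.lift t (𝟙 _) (by rw [Category.id_comp])
  have hs1 : s' ≫ b = t := sqV.lift_fst _ _ _
  have hs2 : s' ≫ (yon S).map j = 𝟙 _ := sqV.lift_snd _ _ _
  obtain ⟨s, hs⟩ := (yon S).map_surjective s'
  -- the map `W ⟶ V`
  let k' : (yon S).obj W ⟶ (yon S).obj V := sqV.lift (a ≫ f) ((yon S).map i) (by
    rw [Category.assoc, sqW.w])
  have hk1 : k' ≫ b = a ≫ f := sqV.lift_fst _ _ _
  have hk2 : k' ≫ (yon S).map j = (yon S).map i := sqV.lift_snd _ _ _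
  obtain ⟨k, hk⟩ := (yon S).map_surjective k'
  have hkj : k ≫ j = i := (yon S).map_injective (by rw [Functor.map_comp, hk, hk2])
  have sq1 : IsPullback a k' f b := by
    refine IsPullback.of_bot ?_ hk1.symm sqV
    rw [hk2]
    exact sqW
  have sq2 := IsPullback.of_hasPullback k s
  have sq3 : IsPullback ((yon S).map (pullback.fst k s)) ((yon S).map (pullback.snd k s)) k' s' := by
    rw [← hk, ← hs]
    exact isPullback_yon sq2
  have hkint : IsIntegralHom k.left := by
    have : IsIntegralHom (k.left ≫ j.left) := by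
      rw [← Over.comp_left, hkj]; exact hi
    exact .of_comp _ j.left
  refine ⟨pullback k s, pullback.snd k s, (yon S).map (pullback.fst k s) ≫ a, ?_,
    isAffine_of_isPullback sq2 hW hT hV,
    MorphismProperty.of_isPullback (P := @IsIntegralHom) (isPullback_left sq2) hkint⟩
  have := sq3.paste_horiz sq1
  rwa [hs1] at this

theorem of_isIso {X Y : Sp S} (f : X ⟶ Y) [IsIso f] : IsIntegralMor f := by
  intro T hT t
  refine ⟨T, 𝟙 T, t ≫ inv f, ?_, hT, by dsimp; infer_instance⟩
  exact IsPullback.of_vert_isIso ⟨by simp⟩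

theorem iso_comp {X Y Z : Sp S} (e : X ⟶ Y) [IsIso e] (f : Y ⟶ Z) (hf : IsIntegralMor f) :
    IsIntegralMor (e ≫ f) := comp _ _ (of_isIso e) hf

/-- An integral morphism to an affine scheme `h_U` has affine source: `X ≅ h_W` with `W ⟶ U` integral. -/
theorem exists_iso_of_isAffine {X : Sp S} {U : Over S} (hU : IsAffine U.left) (f : X ⟶ (yon S).obj U)
    (hf : IsIntegralMor f) : ∃ (W : Over S) (i : W ⟶ U) (e : (yon S).obj W ≅ X),
      e.hom ≫ f = (yon S).map i ∧ IsAffine W.left ∧ IsIntegralHom i.left := by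
  obtain ⟨W, i, a, sq, hW, hi⟩ := hf hU (𝟙 _)
  have : IsIso a := sq.isIso_fst_of_isIso
  exact ⟨W, i, asIso a, by simpa using sq.w, hW, hi⟩

end K615.Int
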