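import Groth.Agent.AlgSp.K615.Pt

/-!
# Glueing sheaves over a sheaf from descent data on points (helper615)

Given maps of sheaves `a i : U i ⟶ X`, sheaves `ν i : N i ⟶ U i` and a descent datum in terms of points (`DD`), there is a
sheaf `glued ⟶ X` with cartesian squares `N i = glued ×_X U i`.
-/

set_option autoImplicit false
universe u
open CategoryTheory CategoryTheory.Limits AlgebraicGeometry Opposite AlgSp

namespace K615.Glue

variable {S : Scheme.{u}}

/-- A descent datum for `ν i : N i ⟶ U i` along `a i : U i ⟶ X`, in terms of `T`-points: a point `n` of `N i` and a point `u` of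
`U j` with the same image in `X` give a point of `N j` over `u`. -/
structure DD {X : Sp S} {ι : Type (u + 1)} (U : ι → Sp S) (a : ∀ i, U i ⟶ X) (N : ι → Sp S)
    (ν : ∀ i, N i ⟶ U i) where
  tr : ∀ {T : Over S} (i j : ι) (n : (yon S).obj T ⟶ N i) (u : (yon S).obj T ⟶ U j),
    n ≫ ν i ≫ a i = u ≫ a j → ((yon S).obj T ⟶ N j)
  tr_ν : ∀ {T : Over S} (i j : ι) (n : (yon S).obj T ⟶ N i) (u : (yon S).obj T ⟶ U j)
    (h : n ≫ ν i ≫ a i = u ≫ a j), tr i j n u h ≫ ν j = u
  tr_nat : ∀ {T T' : Over S} (g : T' ⟶ T) (i j : ι) (n : (yon S).obj T ⟶ N i) (u : (yon S).obj T ⟶ U j)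
    (h : n ≫ ν i ≫ a i = u ≫ a j) (h' : ((yon S).map g ≫ n) ≫ ν i ≫ a i = ((yon S).map g ≫ u) ≫ a j),
    tr i j ((yon S).map g ≫ n) ((yon S).map g ≫ u) h' = (yon S).map g ≫ tr i j n u h
  tr_self : ∀ {T : Over S} (i : ι) (n : (yon S).obj T ⟶ N i) (u : (yon S).obj T ⟶ U i)
    (h : n ≫ ν i ≫ a i = u ≫ a i), n ≫ ν i = u → tr i i n u h = n
  tr_tr : ∀ {T : Over S} (i j k : ι) (n : (yon S).obj T ⟶ N i) (u : (yon S).obj T ⟶ U j)
    (u' : (yon S).obj T ⟶ U k) (h : n ≫ ν i ≫ a i = u ≫ a j) (h' : tr i j n u h ≫ ν j ≫ a j = u' ≫ a k)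
    (h'' : n ≫ ν i ≫ a i = u' ≫ a k), tr j k (tr i j n u h) u' h' = tr i k n u' h''

variable {X : Sp S} {ι : Type (u + 1)} {U : ι → Sp S} {a : ∀ i, U i ⟶ X} {N : ι → Sp S}
  {ν : ∀ i, N i ⟶ U i} (D : DD U a N ν)

/-- Sections of the glued sheaf over `T`. -/
structure Sec (T : Over S) where
  x : (yon S).obj T ⟶ X
  σ : ∀ (i : ι) (T' : Over S) (g : T' ⟶ T) (u : (yon S).obj T' ⟶ U i), u ≫ a i = (yon S).map g ≫ x →
    ((yon S).obj T' ⟶ N i)
  hν : ∀ (i : ι) (T' : Over S) (g : T' ⟶ T) (u : (yon S).obj T' ⟶ U i) (h : u ≫ a i = (yon S).map g ≫ x),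
    σ i T' g u h ≫ ν i = u
  hnat : ∀ (i : ι) (T' T'' : Over S) (g : T' ⟶ T) (k : T'' ⟶ T') (u : (yon S).obj T' ⟶ U i)
    (h : u ≫ a i = (yon S).map g ≫ x) (h' : ((yon S).map k ≫ u) ≫ a i = (yon S).map (k ≫ g) ≫ x),
    σ i T'' (k ≫ g) ((yon S).map k ≫ u) h' = (yon S).map k ≫ σ i T' g u h
  htr : ∀ (i j : ι) (T' : Over S) (g : T' ⟶ T) (u : (yon S).obj T' ⟶ U i) (u' : (yon S).obj T' ⟶ U j)
    (h : u ≫ a i = (yon S).map g ≫ x) (h' : u' ≫ a j = (yon S).map g ≫ x)
    (h'' : σ i T' g u h ≫ ν i ≫ a i = u' ≫ a j), D.tr i j (σ i T' g u h) u' h'' = σ j T' g u' h'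

variable {D}

theorem Sec.ext' {T : Over S} {s s' : Sec D T} (hx : s.x = s'.x)
    (hσ : ∀ (i : ι) (T' : Over S) (g : T' ⟶ T) (u : (yon S).obj T' ⟶ U i) (h : u ≫ a i = (yon S).map g ≫ s.x)
      (h' : u ≫ a i = (yon S).map g ≫ s'.x), s.σ i T' g u h = s'.σ i T' g u h') : s = s' := by
  obtain ⟨x, σ, hν, hnat, htr⟩ := s
  obtain ⟨x', σ', hν', hnat', htr'⟩ := s'
  dsimp only at hx hσ
  subst hx
  have : σ = σ' := by
    funext i T' g u h
    exact hσ i T' g u h h
  subst this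
  rfl

theorem Sec.σ_congr {T : Over S} {s s' : Sec D T} (hs : s = s') {i : ι} {T' : Over S} {g g' : T' ⟶ T}
    (hg : g = g') {u u' : (yon S).obj T' ⟶ U i} (hu : u = u') (h : u ≫ a i = (yon S).map g ≫ s.x)
    (h' : u' ≫ a i = (yon S).map g' ≫ s'.x) : s.σ i T' g u h = s'.σ i T' g' u' h' := by
  subst hs; subst hg; subst hu; rfl

theorem DD.tr_congr {T : Over S} {i j : ι} {n n' : (yon S).obj T ⟶ N i} (hn : n = n')
    {u u' : (yon S).obj T ⟶ U j} (hu : u = u') (h : n ≫ ν i ≫ a i = u ≫ a j)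
    (h' : n' ≫ ν i ≫ a i = u' ≫ a j) : D.tr i j n u h = D.tr i j n' u' h' := by
  subst hn; subst hu; rfl

/-- Restriction of sections. -/
def Sec.res {T T₁ : Over S} (f : T₁ ⟶ T) (s : Sec D T) : Sec D T₁ where
  x := (yon S).map f ≫ s.x
  σ i T' g u h := s.σ i T' (g ≫ f) u (by rw [h, (yon S).map_comp, Category.assoc])
  hν i T' g u h := s.hν _ _ _ _ _
  hnat i T' T'' g k u h h' := by
    have := s.hnat i T' T'' (g ≫ f) k u (by rw [h, (yon S).map_comp, Category.assoc]) (by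
      rw [Category.assoc, h, (yon S).map_comp, (yon S).map_comp, Category.assoc, Category.assoc])
    rw [← this]
    exact Sec.σ_congr rfl (Category.assoc _ _ _) rfl _ _
  htr i j T' g u u' h h' h'' := s.htr _ _ _ _ _ _ _ _ _

/-- The underlying presheaf of the glued sheaf. -/
def gluedPsh (D : DD U a N ν) : (Over S)ᵒᵖ ⥤ Type (u + 1) where
  obj T := Sec D T.unop
  map f := TypeCat.ofHom (Sec.res f.unop)
  map_id T := by
    ext s
    refine Sec.ext' ?_ ?_
    · change (yon S).map (𝟙 _) ≫ s.x = s.x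
      rw [(yon S).map_id, Category.id_comp]
    · intro i T' g u h h'
      exact Sec.σ_congr rfl (Category.comp_id _) rfl _ _
  map_comp f f' := by
    ext s
    refine Sec.ext' ?_ ?_
    · change (yon S).map (f'.unop ≫ f.unop) ≫ s.x = (yon S).map f'.unop ≫ (yon S).map f.unop ≫ s.x
      rw [(yon S).map_comp, Category.assoc]
    · intro i T' g u h h'
      exact Sec.σ_congr rfl (Category.assoc _ _ _).symm rfl _ _

theorem Sec.res_x {T T₁ : Over S} (f : T₁ ⟶ T) (s : Sec D T) : (s.res f).x = (yon S).map f ≫ s.x := rfl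

theorem Sec.res_σ {T T₁ : Over S} (f : T₁ ⟶ T) (s : Sec D T) (i : ι) (T' : Over S) (g : T' ⟶ T₁)
    (u : (yon S).obj T' ⟶ U i) (h : u ≫ a i = (yon S).map g ≫ (s.res f).x)
    (h' : u ≫ a i = (yon S).map (g ≫ f) ≫ s.x) : (s.res f).σ i T' g u h = s.σ i T' (g ≫ f) u h' := rfl

/-- The value of `σ` on a restriction. -/
theorem Sec.map_σ {T : Over S} (s : Sec D T) (i : ι) {T' T'' : Over S} (g : T' ⟶ T) (k : T'' ⟶ T')
    (u : (yon S).obj T' ⟶ U i) (h : u ≫ a i = (yon S).map g ≫ s.x)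
    (h' : ((yon S).map k ≫ u) ≫ a i = (yon S).map (𝟙 T'') ≫ (s.res (k ≫ g)).x) :
    (yon S).map k ≫ s.σ i T' g u h = (s.res (k ≫ g)).σ i T'' (𝟙 _) ((yon S).map k ≫ u) h' := by
  have h'' : ((yon S).map k ≫ u) ≫ a i = (yon S).map (k ≫ g) ≫ s.x := by
    rw [Category.assoc, h, (yon S).map_comp, Category.assoc]
  rw [← s.hnat i T' T'' g k u h h'']
  exact Sec.σ_congr rfl (Category.id_comp _).symm rfl _ _

section Sheaf

variable {T : Over S} {R : Sieve T} (fam : Presieve.FamilyOfElements (gluedPsh D) (R : Presieve T))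

/-- A member of a family of sections over a sieve. -/
def mem {T' : Over S} (g : T' ⟶ T) (hg : R g) : Sec D T' := fam g hg

theorem mem_congr {T' : Over S} {g g' : T' ⟶ T} (e : g = g') (hg : R g) (hg' : R g') :
    mem fam g hg = mem fam g' hg' := by
  subst e; rfl

/-- The value at the identity of a member of the family. -/
def val {T' : Over S} (g : T' ⟶ T) (hg : R g) (i : ι) (u : (yon S).obj T' ⟶ U i)
    (h : u ≫ a i = (mem fam g hg).x) : (yon S).obj T' ⟶ N i :=
  (mem fam g hg).σ i T' (𝟙 _) u (by rw [(yon S).map_id, Category.id_comp, h])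

theorem val_ν {T' : Over S} (g : T' ⟶ T) (hg : R g) (i : ι) (u : (yon S).obj T' ⟶ U i)
    (h : u ≫ a i = (mem fam g hg).x) : val fam g hg i u h ≫ ν i = u := Sec.hν _ _ _ _ _ _

theorem val_congr {T' : Over S} {g g' : T' ⟶ T} (e : g = g') (hg : R g) (hg' : R g') (i : ι)
    {u u' : (yon S).obj T' ⟶ U i} (hu : u = u') (h : u ≫ a i = (mem fam g hg).x)
    (h' : u' ≫ a i = (mem fam g' hg').x) : val fam g hg i u h = val fam g' hg' i u' h' := by
  subst e; subst hu; rfl

theorem val_tr {T' : Over S} (g : T' ⟶ T) (hg : R g) (i j : ι) (u : (yon S).obj T' ⟶ U i)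
    (u' : (yon S).obj T' ⟶ U j) (h : u ≫ a i = (mem fam g hg).x) (h' : u' ≫ a j = (mem fam g hg).x)
    (h'' : val fam g hg i u h ≫ ν i ≫ a i = u' ≫ a j) :
    D.tr i j (val fam g hg i u h) u' h'' = val fam g hg j u' h' :=
  Sec.htr _ _ _ _ _ _ _ _ _ _

variable (hfam : ∀ (T' T'' : Over S) (g : T' ⟶ T) (k : T'' ⟶ T') (hg : R g),
  mem fam (k ≫ g) (R.downward_closed hg k) = Sec.res k (mem fam g hg))
include hfam

theorem val_nat {T' T'' : Over S} (g : T' ⟶ T) (k : T'' ⟶ T') (hg : R g) (hkg : R (k ≫ g)) (i : ι)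
    (u : (yon S).obj T' ⟶ U i) (h : u ≫ a i = (mem fam g hg).x)
    (h' : ((yon S).map k ≫ u) ≫ a i = (mem fam (k ≫ g) hkg).x) :
    val fam (k ≫ g) hkg i ((yon S).map k ≫ u) h' = (yon S).map k ≫ val fam g hg i u h := by
  have e := hfam _ _ g k hg
  have h1 : ((yon S).map k ≫ u) ≫ a i = (yon S).map (k ≫ 𝟙 _) ≫ (mem fam g hg).x := by
    rw [Category.comp_id, Category.assoc, h]
  have h2 : ((yon S).map k ≫ u) ≫ a i = (yon S).map (𝟙 T'' ≫ k) ≫ (mem fam g hg).x := by
    rw [Category.id_comp, Category.assoc, h]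
  have h3 : ((yon S).map k ≫ u) ≫ a i = (yon S).map (𝟙 T'') ≫ (Sec.res k (mem fam g hg)).x := by
    rw [(yon S).map_id, Category.id_comp, Sec.res_x, Category.assoc, h]
  calc val fam (k ≫ g) hkg i ((yon S).map k ≫ u) h'
      = (Sec.res k (mem fam g hg)).σ i T'' (𝟙 _) ((yon S).map k ≫ u) h3 := Sec.σ_congr e rfl rfl _ _
    _ = (mem fam g hg).σ i T'' (𝟙 T'' ≫ k) ((yon S).map k ≫ u) h2 := rfl
    _ = (mem fam g hg).σ i T'' (k ≫ 𝟙 _) ((yon S).map k ≫ u) h1 :=
        Sec.σ_congr rfl (by rw [Category.comp_id, Category.id_comp]) rfl _ _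
    _ = (yon S).map k ≫ val fam g hg i u h := Sec.hnat _ _ _ _ _ _ _ _ _

theorem key (hR : R ∈ J S T) {x : (yon S).obj T ⟶ X}
    (hx : ∀ (T' : Over S) (g : T' ⟶ T) (hg : R g), (mem fam g hg).x = (yon S).map g ≫ x)
    (i : ι) {T' : Over S} (g : T' ⟶ T) (u : (yon S).obj T' ⟶ U i)
    (h : u ≫ a i = (yon S).map g ≫ x) : ∃ z : (yon S).obj T' ⟶ N i, ∀ (T'' : Over S) (k : T'' ⟶ T')
      (hk : R (k ≫ g)) (h' : ((yon S).map k ≫ u) ≫ a i = (mem fam (k ≫ g) hk).x),
        (yon S).map k ≫ z = val fam (k ≫ g) hk i ((yon S).map k ≫ u) h' := by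
  have hh : ∀ (T'' : Over S) (k : T'' ⟶ T') (hk : R (k ≫ g)),
      ((yon S).map k ≫ u) ≫ a i = (mem fam (k ≫ g) hk).x := fun T'' k hk => by
    rw [hx, Category.assoc, h, (yon S).map_comp, Category.assoc]
  obtain ⟨z, hz⟩ := Pt.exists_glue (R.pullback g) ((J S).pullback_stable g hR)
    (fun T'' k hk => val fam (k ≫ g) hk i ((yon S).map k ≫ u) (hh T'' k hk)) (by
    intro T₁ T₂ k l hk
    have e1 : (l ≫ k) ≫ g = l ≫ k ≫ g := Category.assoc _ _ _
    have hk' : R (l ≫ k ≫ g) := R.downward_closed hk l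
    have h1 : ((yon S).map l ≫ (yon S).map k ≫ u) ≫ a i = (mem fam (l ≫ k ≫ g) hk').x := by
      rw [hx, Category.assoc, Category.assoc, h, (yon S).map_comp, (yon S).map_comp, Category.assoc,
        Category.assoc]
    exact (val_congr fam e1 _ hk' i (by rw [(yon S).map_comp, Category.assoc]) _ h1).trans
      (val_nat fam hfam (k ≫ g) l hk hk' i ((yon S).map k ≫ u) _ h1))
  exact ⟨z, fun T'' k hk h' => hz T'' k hk⟩

omit hfam in
theorem res_val {s : Sec D T} {T' : Over S} (g : T' ⟶ T) (hg : R g)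
    (hs : Sec.res g s = mem fam g hg) (i : ι) (u : (yon S).obj T' ⟶ U i)
    (h : u ≫ a i = (yon S).map g ≫ s.x) (h' : u ≫ a i = (mem fam g hg).x) :
    s.σ i T' g u h = val fam g hg i u h' := by
  have h1 : u ≫ a i = (yon S).map (𝟙 _) ≫ (s.res g).x := by
    rw [(yon S).map_id, Category.id_comp, Sec.res_x, h]
  calc s.σ i T' g u h = s.σ i T' (𝟙 _ ≫ g) u (by rw [Category.id_comp, h]) :=
        Sec.σ_congr rfl (Category.id_comp _).symm rfl _ _
    _ = (s.res g).σ i T' (𝟙 _) u h1 := rfl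
    _ = val fam g hg i u h' := Sec.σ_congr hs rfl rfl _ _

theorem mem_val {T' T'' : Over S} (g : T' ⟶ T) (hg : R g) (k : T'' ⟶ T') (hkg : R (k ≫ g)) (i : ι)
    (u : (yon S).obj T'' ⟶ U i) (h : u ≫ a i = (yon S).map k ≫ (mem fam g hg).x)
    (h' : u ≫ a i = (mem fam (k ≫ g) hkg).x) :
    (mem fam g hg).σ i T'' k u h = val fam (k ≫ g) hkg i u h' := by
  have h1 : u ≫ a i = (yon S).map (𝟙 _) ≫ (Sec.res k (mem fam g hg)).x := by
    rw [(yon S).map_id, Category.id_comp, Sec.res_x, h]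
  calc (mem fam g hg).σ i T'' k u h = (mem fam g hg).σ i T'' (𝟙 _ ≫ k) u (by rw [Category.id_comp, h]) :=
        Sec.σ_congr rfl (Category.id_comp _).symm rfl _ _
    _ = (Sec.res k (mem fam g hg)).σ i T'' (𝟙 _) u h1 := rfl
    _ = val fam (k ≫ g) hkg i u h' := Sec.σ_congr (hfam _ _ g k hg).symm rfl rfl _ _

end Sheaf

theorem isSheafFor (D : DD U a N ν) {T : Over S} (R : Sieve T) (hR : R ∈ J S T) :
    Presieve.IsSheafFor (gluedPsh D) (R : Presieve T) := by
  intro fam hfam0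
  rw [Presieve.compatible_iff_sieveCompatible] at hfam0
  have hfam : ∀ (T' T'' : Over S) (g : T' ⟶ T) (k : T'' ⟶ T') (hg : R g),
      mem fam (k ≫ g) (R.downward_closed hg k) = Sec.res k (mem fam g hg) :=
    fun T' T'' g k hg => hfam0 g k hg
  obtain ⟨x, hx'⟩ := Pt.exists_glue R hR (fun T' g hg => (mem fam g hg).x) (by
    intro T' T'' g k hg
    rw [hfam _ _ g k hg, Sec.res_x])
  have hx : ∀ (T' : Over S) (g : T' ⟶ T) (hg : R g), (mem fam g hg).x = (yon S).map g ≫ x :=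
    fun T' g hg => (hx' T' g hg).symm
  have hh : ∀ (i : ι) (T' : Over S) (g : T' ⟶ T) (u : (yon S).obj T' ⟶ U i)
      (_ : u ≫ a i = (yon S).map g ≫ x) (T'' : Over S) (k : T'' ⟶ T') (hk : R (k ≫ g)),
      ((yon S).map k ≫ u) ≫ a i = (mem fam (k ≫ g) hk).x := fun i T' g u h T'' k hk => by
    rw [hx, Category.assoc, h, (yon S).map_comp, Category.assoc]
  let σ : ∀ (i : ι) (T' : Over S) (g : T' ⟶ T) (u : (yon S).obj T' ⟶ U i), u ≫ a i = (yon S).map g ≫ x →
    ((yon S).obj T' ⟶ N i) := fun i T' g u h => (key fam hfam hR hx i g u h).choose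
  have hσ : ∀ (i : ι) (T' : Over S) (g : T' ⟶ T) (u : (yon S).obj T' ⟶ U i)
      (h : u ≫ a i = (yon S).map g ≫ x) (T'' : Over S) (k : T'' ⟶ T')
      (hk : R (k ≫ g)), (yon S).map k ≫ σ i T' g u h =
        val fam (k ≫ g) hk i ((yon S).map k ≫ u) (hh i T' g u h T'' k hk) :=
    fun i T' g u h T'' k hk => (key fam hfam hR hx i g u h).choose_spec T'' k hk _
  let s : Sec D T :=
    { x := x
      σ := σ
      hν := by
        intro i T' g u h
        refine Pt.pt_ext (R.pullback g) ((J S).pullback_stable g hR) _ _ fun T'' k hk => ?_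
        rw [← Category.assoc, hσ i T' g u h T'' k hk, val_ν]
      hnat := by
        intro i T' T'' g k u h h'
        refine Pt.pt_ext (R.pullback (k ≫ g)) ((J S).pullback_stable _ hR) _ _ fun T₂ l hl => ?_
        have hl' : R ((l ≫ k) ≫ g) := by rw [Category.assoc]; exact hl
        have e1 : (yon S).map l ≫ (yon S).map k ≫ σ i T' g u h = (yon S).map (l ≫ k) ≫ σ i T' g u h := by
          rw [(yon S).map_comp, Category.assoc]
        rw [hσ i T'' (k ≫ g) _ h' T₂ l hl, e1, hσ i T' g u h T₂ (l ≫ k) hl']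
        exact val_congr fam (Category.assoc _ _ _).symm _ _ i (by rw [(yon S).map_comp, Category.assoc]) _ _
      htr := by
        intro i j T' g u u' h h' h''
        refine Pt.pt_ext (R.pullback g) ((J S).pullback_stable _ hR) _ _ fun T'' k hk => ?_
        rw [hσ j T' g u' h' T'' k hk, ← D.tr_nat k i j _ _ h'' (by
          rw [Category.assoc, Category.assoc, h''])]
        rw [← val_tr fam (k ≫ g) hk i j _ _ (hh i T' g u h T'' k hk) _ (by
          rw [← Category.assoc, val_ν, Category.assoc, Category.assoc, h, h'])]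
        exact DD.tr_congr (hσ i T' g u h T'' k hk) rfl _ _ }
  have hs : ∀ (T' : Over S) (g : T' ⟶ T) (hg : R g), Sec.res g s = mem fam g hg := by
    intro T' g hg
    refine Sec.ext' (hx _ g hg).symm fun i T'' k u h h' => ?_
    have hkg : R (k ≫ g) := R.downward_closed hg k
    have h1 : u ≫ a i = (mem fam (k ≫ g) hkg).x := by
      rw [hfam _ _ g k hg, Sec.res_x, h']
    have h2 : u ≫ a i = (yon S).map (k ≫ g) ≫ x := by rw [h1, hx]
    rw [mem_val fam hfam g hg k hkg i u h' h1]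
    change σ i T'' (k ≫ g) u h2 = _
    have h3 : R (𝟙 _ ≫ k ≫ g) := by rw [Category.id_comp]; exact hkg
    have h4 : (yon S).map (𝟙 T'') ≫ σ i T'' (k ≫ g) u h2 = σ i T'' (k ≫ g) u h2 := by
      rw [(yon S).map_id, Category.id_comp]
    rw [← h4, hσ i T'' (k ≫ g) u h2 T'' (𝟙 _) h3]
    exact val_congr fam (Category.id_comp _) _ _ i (by rw [(yon S).map_id, Category.id_comp]) _ _
  refine ⟨s, fun T' g hg => hs T' g hg, fun t ht => ?_⟩
  have ht' : ∀ (T' : Over S) (g : T' ⟶ T) (hg : R g), Sec.res g t = mem fam g hg := fun T' g hg => ht g hg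
  refine Sec.ext' ?_ fun i T' g u h h' => ?_
  · refine Pt.pt_ext R hR _ _ fun T' g hg => ?_
    rw [← Sec.res_x, ht' _ g hg, hx]
  · refine Pt.pt_ext (R.pullback g) ((J S).pullback_stable _ hR) _ _ fun T'' k hk => ?_
    have h1 : ((yon S).map k ≫ u) ≫ a i = (yon S).map (k ≫ g) ≫ t.x := by
      rw [Category.assoc, h, (yon S).map_comp, Category.assoc]
    rw [hσ i T' g u h' T'' k hk, ← t.hnat i T' T'' g k u h h1]
    exact res_val fam (k ≫ g) hk (ht' _ _ hk) i _ h1 _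

/-- The glued sheaf. -/
def glued (D : DD U a N ν) : Sp S :=
  ⟨gluedPsh D, (isSheaf_iff_isSheaf_of_type _ _).2 fun {_T} R hR => isSheafFor D R hR⟩

/-- The section attached to a point of the glued sheaf. -/
def toSec {T : Over S} (s : (yon S).obj T ⟶ glued D) : Sec D T := (J S).uliftYonedaEquiv s

/-- The point of the glued sheaf attached to a section. -/
def ofSec {T : Over S} (s : Sec D T) : (yon S).obj T ⟶ glued D := (J S).uliftYonedaEquiv.symm s

theorem toSec_ofSec {T : Over S} (s : Sec D T) : toSec (ofSec s) = s := Equiv.apply_symm_apply _ _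

theorem ofSec_toSec {T : Over S} (s : (yon S).obj T ⟶ glued D) : ofSec (toSec s) = s :=
  Equiv.symm_apply_apply _ _

theorem toSec_comp {T T' : Over S} (g : T' ⟶ T) (s : (yon S).obj T ⟶ glued D) :
    toSec ((yon S).map g ≫ s) = (toSec s).res g :=
  (GrothendieckTopology.uliftYonedaEquiv_naturality (J S) s g).symm

theorem toSec_injective {T : Over S} {s s' : (yon S).obj T ⟶ glued D} (h : toSec s = toSec s') : s = s' :=
  (J S).uliftYonedaEquiv.injective h

variable (D) in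
/-- The structure map `glued ⟶ X`. -/
noncomputable def π : glued D ⟶ X :=
  Pt.homOfPt (fun _ s => (toSec s).x) (fun T T' g s => by rw [toSec_comp, Sec.res_x])

theorem comp_π {T : Over S} (s : (yon S).obj T ⟶ glued D) : s ≫ π D = (toSec s).x :=
  Pt.comp_homOfPt _ _ _ _

variable (D) in
/-- The section attached to a point of `N i`. -/
def secOf (i : ι) {T : Over S} (n : (yon S).obj T ⟶ N i) : Sec D T where
  x := n ≫ ν i ≫ a i
  σ j T' g u h := D.tr i j ((yon S).map g ≫ n) u (by rw [h]; simp only [Category.assoc])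
  hν j T' g u h := D.tr_ν _ _ _ _ _
  hnat j T' T'' g k u h h' := by
    rw [← D.tr_nat k i j _ _ _ (by simp only [Category.assoc, h])]
    exact DD.tr_congr (by rw [(yon S).map_comp, Category.assoc]) rfl _ _
  htr j k T' g u u' h h' h'' := D.tr_tr _ _ _ _ _ _ _ _ _

variable (D) in
/-- The map `N i ⟶ glued`. -/
noncomputable def m (i : ι) : N i ⟶ glued D :=
  Pt.homOfPt (fun _ n => ofSec (secOf D i n)) (fun T T' g n => by
    apply toSec_injective
    rw [toSec_comp, toSec_ofSec, toSec_ofSec]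
    refine Sec.ext' ?_ fun j T'' k u h h' => ?_
    · change (((yon S).map g ≫ n) ≫ ν i ≫ a i) = (yon S).map g ≫ n ≫ ν i ≫ a i
      rw [Category.assoc]
    · exact DD.tr_congr (by rw [(yon S).map_comp, Category.assoc]) rfl _ _)

theorem comp_m (i : ι) {T : Over S} (n : (yon S).obj T ⟶ N i) : n ≫ m D i = ofSec (secOf D i n) :=
  Pt.comp_homOfPt _ _ _ _

theorem toSec_m (i : ι) {T : Over S} (n : (yon S).obj T ⟶ N i) : toSec (n ≫ m D i) = secOf D i n := by
  rw [comp_m, toSec_ofSec]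

theorem w (i : ι) : m D i ≫ π D = ν i ≫ a i := by
  apply Pt.hom_ext
  intro T n
  rw [← Category.assoc, comp_π, toSec_m]
  rfl

/-- The section attached to a point `u` of `U i` over the image of a section `s`. -/
theorem secOf_σ (i : ι) {T : Over S} (s : Sec D T) (u : (yon S).obj T ⟶ U i)
    (h : u ≫ a i = (yon S).map (𝟙 _) ≫ s.x) : secOf D i (s.σ i T (𝟙 _) u h) = s := by
  have h0 : u ≫ a i = s.x := by rw [h, (yon S).map_id, Category.id_comp]
  refine Sec.ext' ?_ fun j T' g u' h1 h2 => ?_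
  · change s.σ i T (𝟙 _) u h ≫ ν i ≫ a i = s.x
    rw [← Category.assoc, s.hν, h0]
  · have h3 : ((yon S).map g ≫ u) ≫ a i = (yon S).map (g ≫ 𝟙 _) ≫ s.x := by
      rw [Category.assoc, h0, Category.comp_id]
    have h4 : ((yon S).map g ≫ u) ≫ a i = (yon S).map g ≫ s.x := by
      rw [Category.assoc, h0]
    have e : (yon S).map g ≫ s.σ i T (𝟙 _) u h = s.σ i T' g ((yon S).map g ≫ u) h4 := by
      rw [← s.hnat i T T' (𝟙 _) g u h h3]
      exact Sec.σ_congr rfl (Category.comp_id _) rfl _ _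
    have h5 : s.σ i T' g ((yon S).map g ≫ u) h4 ≫ ν i ≫ a i = u' ≫ a j := by
      rw [← Category.assoc, s.hν, h4, h2]
    rw [← s.htr i j T' g _ u' h4 h2 h5]
    exact DD.tr_congr e rfl _ _

/-- The transition maps identify points of the glued sheaf. -/
theorem tr_m {T : Over S} (i j : ι) (n : (yon S).obj T ⟶ N i) (u : (yon S).obj T ⟶ U j)
    (h : n ≫ ν i ≫ a i = u ≫ a j) : D.tr i j n u h ≫ m D j = n ≫ m D i := by
  apply toSec_injective
  rw [toSec_m, toSec_m]
  have h1 : u ≫ a j = (yon S).map (𝟙 _) ≫ (secOf D i n).x := by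
    rw [(yon S).map_id, Category.id_comp, ← h]
    rfl
  have e := secOf_σ j (secOf D i n) u h1
  rw [← e]
  have h2 : ((yon S).map (𝟙 T) ≫ n) ≫ ν i ≫ a i = u ≫ a j := by
    rw [(yon S).map_id, Category.id_comp, h]
  have e2 : (secOf D i n).σ j T (𝟙 _) u h1 = D.tr i j n u h :=
    (DD.tr_congr (by rw [(yon S).map_id, Category.id_comp]) rfl h2 h : _)
  rw [e, ← e2, e]

/-- The glued sheaf restricts to `N i` over `U i`. -/
theorem isPullback (i : ι) : IsPullback (m D i) (ν i) (π D) (a i) := by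
  refine Pt.isPullback_of_pt (w i) ?_ ?_
  · intro T n n' h1 h2
    have h3 := congrArg toSec h1
    rw [toSec_m, toSec_m] at h3
    have hh : ∀ n : (yon S).obj T ⟶ N i, (n ≫ ν i) ≫ a i = (yon S).map (𝟙 _) ≫ (secOf D i n).x := by
      intro n
      change _ = (yon S).map (𝟙 _) ≫ n ≫ ν i ≫ a i
      rw [(yon S).map_id, Category.id_comp, Category.assoc]
    have e : ∀ n : (yon S).obj T ⟶ N i, (secOf D i n).σ i T (𝟙 _) (n ≫ ν i) (hh n) = n := by
      intro n
      have h4 : ((yon S).map (𝟙 T) ≫ n) ≫ ν i ≫ a i = (n ≫ ν i) ≫ a i := by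
        rw [(yon S).map_id, Category.id_comp, Category.assoc]
      have h5 : n ≫ ν i ≫ a i = (n ≫ ν i) ≫ a i := (Category.assoc _ _ _).symm
      calc (secOf D i n).σ i T (𝟙 _) (n ≫ ν i) (hh n)
          = D.tr i i ((yon S).map (𝟙 T) ≫ n) (n ≫ ν i) h4 := rfl
        _ = D.tr i i n (n ≫ ν i) h5 :=
            DD.tr_congr (by rw [(yon S).map_id, Category.id_comp]) rfl _ _
        _ = n := D.tr_self i n _ h5 rfl
    rw [← e n, ← e n']
    exact Sec.σ_congr h3 rfl h2 _ _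
  · intro T s u h
    have h0 : (toSec s).x = u ≫ a i := by rw [← comp_π, h]
    have h1 : u ≫ a i = (yon S).map (𝟙 _) ≫ (toSec s).x := by
      rw [h0, (yon S).map_id, Category.id_comp]
    refine ⟨(toSec s).σ i T (𝟙 _) u h1, ?_, Sec.hν _ _ _ _ _ _⟩
    apply toSec_injective
    rw [toSec_m, secOf_σ]

end K615.Glue
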