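import Mathlib.RingTheory.Smooth.IntegralClosure
import Mathlib.RingTheory.Flat.Basic
import Mathlib.RingTheory.RingHom.Smooth
import Mathlib.Algebra.Category.Ring.Constructions
import Mathlib.RingTheory.IsTensorProduct

/-!
# Integral closures in equalizers commute with smooth base change (helper615)
-/

set_option autoImplicit false
universe u
open TensorProduct

namespace K615.Alg

section Tensor

variable {A A' B C D : Type u} [CommRing A] [CommRing A'] [CommRing B] [CommRing C] [CommRing D] [Algebra A A']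
  [Algebra A B] [Algebra A C] [Algebra A D]

theorem mem_range_of_integral [Algebra.Smooth A A'] (c : B →ₐ[A] C) (p1 p2 : C →ₐ[A] D)
    (hi : ∀ y, IsIntegral A (c y)) (he : ∀ y, p1 (c y) = p2 (c y))
    (hB : ∀ x, IsIntegral A x → p1 x = p2 x → ∃ y, c y = x) (x : A' ⊗[A] C) (hx : IsIntegral A' x)
    (hx' : p1.toLinearMap.lTensor A' x = p2.toLinearMap.lTensor A' x) :
    ∃ z, c.toLinearMap.lTensor A' z = x := by
  let L := integralClosure A C
  let ιB : B →ₗ[A] L := (c.codRestrict L hi).toLinearMap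
  let δ : L →ₗ[A] D := (p1.toLinearMap - p2.toLinearMap) ∘ₗ L.val.toLinearMap
  have hex : Function.Exact ιB δ := by
    intro ℓ
    constructor
    · intro h
      have h' : p1 ℓ.1 = p2 ℓ.1 := sub_eq_zero.1 h
      obtain ⟨y, hy⟩ := hB ℓ.1 ℓ.2 h'
      exact ⟨y, Subtype.ext hy⟩
    · rintro ⟨b, rfl⟩
      exact sub_eq_zero.2 (he b)
  obtain ⟨y, hy⟩ := (TensorProduct.toIntegralClosure_bijective_of_smooth (R := A) (S := A') (B := C)).2
    ⟨x, hx⟩
  have hy' : L.val.toLinearMap.lTensor A' y = x := congrArg Subtype.val hy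
  have h0 : δ.lTensor A' y = 0 := by
    rw [LinearMap.lTensor_comp, LinearMap.comp_apply, hy', LinearMap.lTensor_sub, LinearMap.sub_apply, hx',
      sub_self]
  have hex' := Module.Flat.lTensor_exact A' hex
  obtain ⟨z, hz⟩ := (hex' y).1 h0
  refine ⟨z, ?_⟩
  rw [← hy', ← hz, ← LinearMap.comp_apply, ← LinearMap.lTensor_comp]
  rfl

end Tensor

open CategoryTheory

/-- The pushout form: `A → A'` smooth, `B ⊆ C` the elements integral over `A` with `p1 = p2 : C → D`; all primed rings are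
pushouts along `A → A'`.  Then `B' → C'` is injective and its image is the set of elements integral over `A'` on which
`p1' = p2'`. -/
theorem pushout_form {A A' B B' C C' D D' : CommRingCat.{u}} (a : A ⟶ A') (ha : a.hom.Smooth)
    {b : A ⟶ B} {b' : A' ⟶ B'} {c : B ⟶ C} {c' : B' ⟶ C'} {p1 p2 : C ⟶ D} {p1' p2' : C' ⟶ D'}
    {βB : B ⟶ B'} {βC : C ⟶ C'} {βD : D ⟶ D'}
    (sqB : IsPushout a b b' βB) (sqC : IsPushout a (b ≫ c) (b' ≫ c') βC)
    (sqD : IsPushout a (b ≫ c ≫ p1) (b' ≫ c' ≫ p1') βD)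
    (hc : βB ≫ c' = c ≫ βC) (h1 : βC ≫ p1' = p1 ≫ βD) (h2 : βC ≫ p2' = p2 ≫ βD)
    (hp : c ≫ p1 = c ≫ p2) (hp' : c' ≫ p1' = c' ≫ p2') (hb : b.hom.IsIntegral)
    (hinj : Function.Injective c) (hB : ∀ x : C, RingHom.IsIntegralElem (b ≫ c).hom x →
      p1 x = p2 x → ∃ y, c y = x) :
    Function.Injective c' ∧ ∀ x : C', RingHom.IsIntegralElem (b' ≫ c').hom x → p1' x = p2' x →
      ∃ y, c' y = x := by
  let _ : Algebra A A' := a.hom.toAlgebra
  let _ : Algebra A B := b.hom.toAlgebra
  let _ : Algebra A C := (b ≫ c).hom.toAlgebra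
  let _ : Algebra A D := (b ≫ c ≫ p1).hom.toAlgebra
  let _ : Algebra A' B' := b'.hom.toAlgebra
  let _ : Algebra A' C' := (b' ≫ c').hom.toAlgebra
  let _ : Algebra A' D' := (b' ≫ c' ≫ p1').hom.toAlgebra
  let _ : Algebra B B' := βB.hom.toAlgebra
  let _ : Algebra C C' := βC.hom.toAlgebra
  let _ : Algebra D D' := βD.hom.toAlgebra
  let _ : Algebra A B' := (a ≫ b').hom.toAlgebra
  let _ : Algebra A C' := (a ≫ b' ≫ c').hom.toAlgebra
  let _ : Algebra A D' := (a ≫ b' ≫ c' ≫ p1').hom.toAlgebra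
  have : IsScalarTower A A' B' := .of_algebraMap_eq' rfl
  have : IsScalarTower A A' C' := .of_algebraMap_eq' rfl
  have : IsScalarTower A A' D' := .of_algebraMap_eq' rfl
  have : IsScalarTower A B B' := .of_algebraMap_eq' (congrArg (fun k => k.hom) sqB.w)
  have : IsScalarTower A C C' := .of_algebraMap_eq' (congrArg (fun k => k.hom) sqC.w)
  have : IsScalarTower A D D' := .of_algebraMap_eq' (congrArg (fun k => k.hom) sqD.w)
  have hsm : Algebra.Smooth A A' := ha
  have pB : Algebra.IsPushout A A' B B' := CommRingCat.isPushout_iff_isPushout.1 sqB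
  have pC : Algebra.IsPushout A A' C C' := CommRingCat.isPushout_iff_isPushout.1 sqC
  have pD : Algebra.IsPushout A A' D D' := CommRingCat.isPushout_iff_isPushout.1 sqD
  let cA : B →ₐ[A] C := ⟨c.hom, fun _ => rfl⟩
  let p1A : C →ₐ[A] D := ⟨p1.hom, fun _ => rfl⟩
  let p2A : C →ₐ[A] D := ⟨p2.hom, fun r => by
    change (b ≫ c ≫ p2).hom r = (b ≫ c ≫ p1).hom r
    rw [hp]⟩
  let eB := Algebra.IsPushout.equiv A A' B B'
  let eC := Algebra.IsPushout.equiv A A' C C'
  let eD := Algebra.IsPushout.equiv A A' D D'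
  have eB_tmul : ∀ (r : A') (x : B), eB (r ⊗ₜ x) = b' r * βB x := fun r x =>
    Algebra.IsPushout.equiv_tmul A A' B B' r x
  have eC_tmul : ∀ (r : A') (x : C), eC (r ⊗ₜ x) = c' (b' r) * βC x := fun r x =>
    Algebra.IsPushout.equiv_tmul A A' C C' r x
  have eD_tmul : ∀ (r : A') (x : D), eD (r ⊗ₜ x) = p1' (c' (b' r)) * βD x := fun r x =>
    Algebra.IsPushout.equiv_tmul A A' D D' r x
  have hc_ : ∀ x, c' (βB x) = βC (c x) := fun x => congrArg (fun k => k.hom x) hc
  have h1_ : ∀ x, p1' (βC x) = βD (p1 x) := fun x => congrArg (fun k => k.hom x) h1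
  have h2_ : ∀ x, p2' (βC x) = βD (p2 x) := fun x => congrArg (fun k => k.hom x) h2
  have hp'_ : ∀ x, p1' (c' x) = p2' (c' x) := fun x => congrArg (fun k => k.hom x) hp'
  have hcomm : ∀ z : A' ⊗[A] B, c' (eB z) = eC (cA.toLinearMap.lTensor A' z) := by
    intro z
    induction z with
    | zero => simp
    | add x y hx hy => simp only [map_add, hx, hy]
    | tmul r x =>
      rw [eB_tmul, map_mul, hc_]
      exact (eC_tmul r (c x)).symm
  have hcomm1 : ∀ z : A' ⊗[A] C, p1' (eC z) = eD (p1A.toLinearMap.lTensor A' z) := by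
    intro z
    induction z with
    | zero => simp
    | add x y hx hy => simp only [map_add, hx, hy]
    | tmul r x =>
      rw [eC_tmul, map_mul, h1_]
      exact (eD_tmul r (p1 x)).symm
  have hcomm2 : ∀ z : A' ⊗[A] C, p2' (eC z) = eD (p2A.toLinearMap.lTensor A' z) := by
    intro z
    induction z with
    | zero => simp
    | add x y hx hy => simp only [map_add, hx, hy]
    | tmul r x =>
      rw [eC_tmul, map_mul, h2_, ← hp'_]
      exact (eD_tmul r (p2 x)).symm
  constructor
  · intro x y hxy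
    obtain ⟨x, rfl⟩ := eB.surjective x
    obtain ⟨y, rfl⟩ := eB.surjective y
    rw [hcomm, hcomm] at hxy
    congr 1
    exact Module.Flat.lTensor_preserves_injective_linearMap (M := A') cA.toLinearMap hinj
      (eC.injective hxy)
  · intro x hx hx'
    obtain ⟨y, rfl⟩ := eC.surjective x
    rw [hcomm1, hcomm2] at hx'
    have hy : IsIntegral A' y := by
      have : IsIntegral A' (eC y) := hx
      simpa using this.map eC.symm
    have hi : ∀ y, IsIntegral A (cA y) := by
      intro y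
      obtain ⟨P, hP, hP'⟩ := hb y
      refine ⟨P, hP, ?_⟩
      change Polynomial.eval₂ (c.hom.comp b.hom) (c.hom y) P = 0
      rw [← Polynomial.hom_eval₂, hP', map_zero]
    obtain ⟨z, hz⟩ := mem_range_of_integral cA p1A p2A hi
      (fun y => congrArg (fun k => k.hom y) hp) hB y hy (eD.injective hx')
    exact ⟨eB z, by rw [hcomm, hz]⟩

end K615.Alg
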