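import Groth.Agent.AlgSp.K615.Pt

/-!
# Affine étale charts of algebraic spaces cover (helper615)

* `sieve_mem`: a sieve on `T : Over S` whose flat locally finitely presented members are jointly surjective is an fppf covering.
* `charts_jsurj`: the affine étale charts of an algebraic space are jointly locally surjective.
* `charts_refine`: the overlap of two étale charts is covered by affine étale charts.
-/

set_option autoImplicit false
universe u v
open CategoryTheory CategoryTheory.Limits AlgebraicGeometry Opposite AlgSp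

namespace K615.Cov

variable {S : Scheme.{u}}

/-- A sieve on `T` is covering if its flat, locally finitely presented members are jointly surjective. -/
theorem sieve_mem {T : Over S} (R : Sieve T)
    (h : ∀ t : T.left, ∃ (T' : Over S) (g : T' ⟶ T), R g ∧ Flat g.left ∧ LocallyOfFinitePresentation g.left ∧
      t ∈ Set.range g.left) : R ∈ J S T := by
  change R ∈ (Scheme.fppfTopology.over S) T
  rw [GrothendieckTopology.mem_over_iff]
  choose T' g hR hf hl ht using h
  have h1 : Presieve.ofArrows (fun t => (T' t).left) (fun t => (g t).left) ∈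
      Scheme.fppfPrecoverage T.left := by
    rw [Scheme.fppfPrecoverage, Scheme.ofArrows_mem_precoverage_iff]
    exact ⟨fun t => ⟨t, ht t⟩, fun t => ⟨hf t, hl t⟩⟩
  refine GrothendieckTopology.superset_covering _ ?_ (Precoverage.generate_mem_toGrothendieck h1)
  rw [Sieve.generate_le_iff]
  rintro _ _ ⟨t⟩
  rw [Sieve.overEquiv_iff]
  have : (Over.homMk (g t).left : Over.mk ((g t).left ≫ T.hom) ⟶ T) =
      (Over.homMk (𝟙 _) (by simp) : Over.mk ((g t).left ≫ T.hom) ⟶ T' t) ≫ g t := by
    ext; simp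
  rw [this]
  exact R.downward_closed (hR t) _

/-- The open subscheme of the scheme `U` over `S`, as a scheme over `S`. -/
noncomputable def opn (U : Over S) (W : U.left.Opens) : Over S := Over.mk (W.ι ≫ U.hom)

/-- The inclusion of an open subscheme, over `S`. -/
noncomputable def opnι (U : Over S) (W : U.left.Opens) : opn U W ⟶ U := Over.homMk W.ι

theorem opnι_left (U : Over S) (W : U.left.Opens) : (opnι U W).left = W.ι := rfl

instance isOpenImmersion_opnι (U : Over S) (W : U.left.Opens) : IsOpenImmersion (opnι U W).left :=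
  inferInstanceAs (IsOpenImmersion W.ι)

theorem range_opnι (U : Over S) (W : U.left.Opens) : Set.range (opnι U W).left = (W : Set U.left) :=
  Scheme.Opens.range_ι W

/-- A morphism of schemes over `S` landing in an open subscheme. -/
noncomputable def opnLift {T U : Over S} (g : T ⟶ U) (W : U.left.Opens) (h : Set.range g.left ⊆ (W : Set U.left)) :
    T ⟶ opn U W :=
  Over.homMk (IsOpenImmersion.lift (opnι U W).left g.left (by rw [range_opnι]; exact h)) (by
    rw [← Over.w (opnι U W), IsOpenImmersion.lift_fac_assoc]; exact Over.w g)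

theorem opnLift_opnι {T U : Over S} (g : T ⟶ U) (W : U.left.Opens) (h : Set.range g.left ⊆ (W : Set U.left)) :
    opnLift g W h ≫ opnι U W = g := by
  ext : 1
  exact IsOpenImmersion.lift_fac _ _ _

theorem repWith_etale_comp {U V : Over S} {X : Sp S} (g : U ⟶ V) [hg : Etale g.left] (a : (yon S).obj V ⟶ X)
    (ha : RepWith @Etale a) : RepWith @Etale ((yon S).map g ≫ a) :=
  (repWith_isMultiplicative (S := S) @Etale).comp_mem _ _ ((repWith_yon_map_iff _ _).2 hg) ha

/-- A representable étale and surjective morphism is locally surjective. -/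
theorem exists_lift {F G : Sp S} (p : F ⟶ G) (h1 : RepWith @Etale p) (h2 : RepWith @Surjective p) (T : Over S)
    (x : (yon S).obj T ⟶ G) : ∃ R ∈ J S T, ∀ (T' : Over S) (g : T' ⟶ T), R g →
      ∃ y : (yon S).obj T' ⟶ F, y ≫ p = (yon S).map g ≫ x := by
  obtain ⟨V, snd, fst, sq⟩ := h1.1 x
  have e1 : Etale snd.left := h1.2 x fst snd sq
  have e2 : Surjective snd.left := h2.2 x fst snd sq
  let R : Sieve T :=
    { arrows := fun T' g => ∃ y : (yon S).obj T' ⟶ F, y ≫ p = (yon S).map g ≫ x
      downward_closed := by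
        rintro T' T'' g ⟨y, hy⟩ k
        exact ⟨(yon S).map k ≫ y, by rw [Category.assoc, hy, (yon S).map_comp, Category.assoc]⟩ }
  refine ⟨R, sieve_mem R fun t => ?_, fun T' g hg => hg⟩
  obtain ⟨v, hv⟩ := e2.surj t
  exact ⟨V, snd, ⟨fst, sq.w⟩, inferInstance, inferInstance, v, hv⟩

/-- Every `T`-point of an algebraic space factors, locally on `T`, through an affine étale chart. -/
theorem charts_exists {X : Sp S} (hX : IsAlgSpace X) (T : Over S) (x : (yon S).obj T ⟶ X) :
    ∃ R ∈ J S T, ∀ (T' : Over S) (g : T' ⟶ T), R g → ∃ (W : Over S) (a : (yon S).obj W ⟶ X)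
      (y : (yon S).obj T' ⟶ (yon S).obj W), IsAffine W.left ∧ RepWith @Etale a ∧ y ≫ a = (yon S).map g ≫ x := by
  obtain ⟨U, p, hp1, hp2⟩ := hX.atlas
  let R : Sieve T :=
    { arrows := fun T' g => ∃ (W : Over S) (a : (yon S).obj W ⟶ X)
        (y : (yon S).obj T' ⟶ (yon S).obj W), IsAffine W.left ∧ RepWith @Etale a ∧ y ≫ a = (yon S).map g ≫ x
      downward_closed := by
        rintro T' T'' g ⟨W, a, y, hW, ha, hy⟩ k
        exact ⟨W, a, (yon S).map k ≫ y, hW, ha, by rw [Category.assoc, hy, (yon S).map_comp, Category.assoc]⟩ }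
  refine ⟨R, sieve_mem R fun t => ?_, fun T' g hg => hg⟩
  obtain ⟨V, snd, fst, sq⟩ := hp1.1 x
  have h1 : Etale snd.left := hp1.2 x fst snd sq
  have h2 : Surjective snd.left := hp2.2 x fst snd sq
  obtain ⟨v, hv⟩ := h2.surj t
  obtain ⟨m, rfl⟩ := (yon S).map_surjective fst
  obtain ⟨_, ⟨W, hW, rfl⟩, hmW, -⟩ := U.left.isBasis_affineOpens.exists_subset_of_mem_open
    (Set.mem_univ (m.left v)) isOpen_univ
  let V' : V.left.Opens := m.left ⁻¹ᵁ W
  have hle : Set.range (opnι V V' ≫ m).left ⊆ (W : Set U.left) := by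
    rintro _ ⟨z, rfl⟩
    exact z.2
  refine ⟨opn V V', opnι V V' ≫ snd, ⟨opn U W, (yon S).map (opnι U W) ≫ p,
    (yon S).map (opnLift (opnι V V' ≫ m) W hle), hW, repWith_etale_comp (opnι U W)  p hp1, ?_⟩, ?_, ?_, ?_⟩
  · rw [← Category.assoc, ← (yon S).map_comp, opnLift_opnι, (yon S).map_comp, Category.assoc, sq.w,
      (yon S).map_comp, Category.assoc]
  · rw [Over.comp_left]; infer_instance
  · rw [Over.comp_left]; infer_instance
  · exact ⟨⟨v, hmW⟩, hv⟩

/-- The index type of all affine étale charts of a sheaf. -/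
structure Chart (X : Sp S) where
  U : Over S
  a : (yon S).obj U ⟶ X
  affine : IsAffine U.left
  etale : RepWith @Etale a

theorem charts_jsurj {X : Sp S} (hX : IsAlgSpace X) :
    Pt.JSurj (fun c : Chart X => (yon S).obj c.U) (fun c => c.a) := by
  intro T x
  obtain ⟨R, hR, H⟩ := charts_exists hX T x
  refine ⟨R, hR, fun T' g hg => ?_⟩
  obtain ⟨W, a, y, hW, ha, hy⟩ := H T' g hg
  exact ⟨⟨W, a, hW, ha⟩, y, hy⟩

/-- The overlap of two étale charts is covered by affine étale charts. -/
theorem charts_refine {X : Sp S} {U U' : Over S} (a : (yon S).obj U ⟶ X) (a' : (yon S).obj U' ⟶ X)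
    (ha : RepWith @Etale a) (ha' : RepWith @Etale a') (T : Over S) (u : (yon S).obj T ⟶ (yon S).obj U)
    (u' : (yon S).obj T ⟶ (yon S).obj U') (h : u ≫ a = u' ≫ a') : ∃ R ∈ J S T,
        ∀ (T' : Over S) (k : T' ⟶ T), R k → ∃ (W : Over S) (e : W ⟶ U) (e' : W ⟶ U') (t : T' ⟶ W),
            IsAffine W.left ∧ Etale e.left ∧ Etale e'.left ∧ (yon S).map e ≫ a = (yon S).map e' ≫ a' ∧
            (yon S).map t ≫ (yon S).map e = (yon S).map k ≫ u ∧
            (yon S).map t ≫ (yon S).map e' = (yon S).map k ≫ u' := by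
  obtain ⟨P, snd, fst, sq⟩ := ha.1 a'
  have h1 : Etale snd.left := ha.2 a' fst snd sq
  obtain ⟨m, rfl⟩ := (yon S).map_surjective fst
  have h2 : Etale m.left := ha'.2 a (yon S |>.map snd) m sq.flip
  obtain ⟨q, hq⟩ := (yon S).map_surjective (sq.lift u u' h)
  have hq1 : (yon S).map q ≫ (yon S).map m = u := by rw [hq, sq.lift_fst]
  have hq2 : (yon S).map q ≫ (yon S).map snd = u' := by rw [hq, sq.lift_snd]
  let R : Sieve T :=
    { arrows := fun T' k => ∃ (W : Over S) (e : W ⟶ U) (e' : W ⟶ U') (t : T' ⟶ W),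
            IsAffine W.left ∧ Etale e.left ∧ Etale e'.left ∧ (yon S).map e ≫ a = (yon S).map e' ≫ a' ∧
            (yon S).map t ≫ (yon S).map e = (yon S).map k ≫ u ∧
            (yon S).map t ≫ (yon S).map e' = (yon S).map k ≫ u'
      downward_closed := by
        rintro T' T'' g ⟨W, e, e', t, hW, he, he', hea, h1, h2⟩ k
        refine ⟨W, e, e', k ≫ t, hW, he, he', hea, ?_, ?_⟩
        · rw [(yon S).map_comp, Category.assoc, h1, (yon S).map_comp, Category.assoc]
        · rw [(yon S).map_comp, Category.assoc, h2, (yon S).map_comp, Category.assoc] }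
  refine ⟨R, sieve_mem R fun t => ?_, fun T' g hg => hg⟩
  obtain ⟨_, ⟨W, hW, rfl⟩, hmW, -⟩ := P.left.isBasis_affineOpens.exists_subset_of_mem_open
    (Set.mem_univ (q.left t)) isOpen_univ
  let V' : T.left.Opens := q.left ⁻¹ᵁ W
  have hle : Set.range (opnι T V' ≫ q).left ⊆ (W : Set P.left) := by
    rintro _ ⟨z, rfl⟩
    exact z.2
  refine ⟨opn T V', opnι T V', ⟨opn P W, opnι P W ≫ m, opnι P W ≫ snd,
    opnLift (opnι T V' ≫ q) W hle, hW, ?_, ?_, ?_, ?_, ?_⟩, ?_, ?_, ?_⟩
  · rw [Over.comp_left]; infer_instance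
  · rw [Over.comp_left]; infer_instance
  · rw [(yon S).map_comp, (yon S).map_comp, Category.assoc, Category.assoc, sq.w]
  · rw [← (yon S).map_comp, ← Category.assoc (opnLift _ _ _), opnLift_opnι, Category.assoc,
      (yon S).map_comp, (yon S).map_comp, hq1]
  · rw [← (yon S).map_comp, ← Category.assoc (opnLift _ _ _), opnLift_opnι, Category.assoc,
      (yon S).map_comp, (yon S).map_comp, hq2]
  · infer_instance
  · infer_instance
  · exact ⟨⟨t, hmW⟩, rfl⟩

end K615.Cov
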