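import Groth.Agent.AlgSp.K615.Norm
import Groth.Agent.AlgSp.K615.Cov
import Groth.Agent.AlgSp.K615.Alg
import Mathlib.AlgebraicGeometry.Morphisms.Descent

/-!
# Relative normalization over an affine scheme (helper615)

`AffCov q p1 p2`: affine schemes `V`, `W` with `q : h_V ⟶ Y` locally surjective and `W` covering `V ×_Y V`.
`NChar`: the ring of functions of `N` is the integral closure of the functions of `U` in `{c ∈ Γ(V) | p1 c = p2 c}`.
-/

set_option autoImplicit false
universe u v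
open CategoryTheory CategoryTheory.Limits AlgebraicGeometry Opposite AlgSp

namespace K615.Aff

variable {S : Scheme.{u}}

/-- An affine presentation of a sheaf `Y`: affine schemes `V` and `W` with `q : h_V ⟶ Y` locally surjective and `W`
locally surjective onto `V ×_Y V`. -/
structure AffCov {Y : Sp S} {V W : Over S} (q : (yon S).obj V ⟶ Y) (p1 p2 : W ⟶ V) : Prop where
  affV : IsAffine V.left
  affW : IsAffine W.left
  w : (yon S).map p1 ≫ q = (yon S).map p2 ≫ q
  surj : ∀ (T : Over S) (y : (yon S).obj T ⟶ Y), ∃ R ∈ J S T, ∀ (T' : Over S) (g : T' ⟶ T), R g →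
    ∃ v : T' ⟶ V, (yon S).map v ≫ q = (yon S).map g ≫ y
  lift : ∀ (T : Over S) (v v' : T ⟶ V), (yon S).map v ≫ q = (yon S).map v' ≫ q →
    ∃ R ∈ J S T, ∀ (T' : Over S) (g : T' ⟶ T), R g → ∃ w : T' ⟶ W, w ≫ p1 = g ≫ v ∧ w ≫ p2 = g ≫ v'

theorem AffCov.jsurj {Y : Sp S} {V W : Over S} {q : (yon S).obj V ⟶ Y} {p1 p2 : W ⟶ V}
    (h : AffCov q p1 p2) : Pt.JSurj (fun _ : Unit => (yon S).obj V) (fun _ => q) := by
  intro T y
  obtain ⟨R, hR, H⟩ := h.surj T y
  refine ⟨R, hR, fun T' g hg => ?_⟩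
  obtain ⟨v, hv⟩ := H T' g hg
  exact ⟨(), _, hv⟩

theorem AffCov.ext {Y Z : Sp S} {V W : Over S} {q : (yon S).obj V ⟶ Y} {p1 p2 : W ⟶ V}
    (h : AffCov q p1 p2) {k k' : Y ⟶ Z} (hk : q ≫ k = q ≫ k') : k = k' :=
  h.jsurj.ext fun _ => hk

theorem AffCov.exists_desc {Y Z : Sp S} {V W : Over S} {q : (yon S).obj V ⟶ Y} {p1 p2 : W ⟶ V}
    (h : AffCov q p1 p2) (k : (yon S).obj V ⟶ Z) (hk : (yon S).map p1 ≫ k = (yon S).map p2 ≫ k) :
    ∃ m : Y ⟶ Z, q ≫ m = k := by
  obtain ⟨m, hm⟩ := h.jsurj.exists_desc (fun _ => k) (by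
    intro T _ _ y y' hy
    obtain ⟨v, rfl⟩ := (yon S).map_surjective y
    obtain ⟨v', rfl⟩ := (yon S).map_surjective y'
    obtain ⟨R, hR, H⟩ := h.lift T v v' hy
    apply Pt.pt_ext R hR
    intro T' g hg
    obtain ⟨w, hw1, hw2⟩ := H T' g hg
    rw [← Category.assoc, ← Category.assoc, ← (yon S).map_comp, ← (yon S).map_comp, ← hw1, ← hw2,
      (yon S).map_comp, (yon S).map_comp, Category.assoc, Category.assoc, hk])
  exact ⟨m, hm ()⟩

/-- Base change of an affine presentation. -/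
theorem AffCov.of_isPullback {Y Y' : Sp S} {V W V' W' U U' : Over S} {q : (yon S).obj V ⟶ Y} {p1 p2 : W ⟶ V}
    (h : AffCov q p1 p2) {fY : Y ⟶ (yon S).obj U} {e : U' ⟶ U} {y : Y' ⟶ Y} {fY' : Y' ⟶ (yon S).obj U'}
    (hU : IsAffine U.left) (hU' : IsAffine U'.left)
    (sqY : IsPullback y fY' fY ((yon S).map e)) {v : V ⟶ U} (hv : q ≫ fY = (yon S).map v)
    {a : V' ⟶ V} {v' : V' ⟶ U'} (sqV : IsPullback a v' v e)
    {b : W' ⟶ W} {w' : W' ⟶ U'} (sqW : IsPullback b w' (p1 ≫ v) e)
    {q' : (yon S).obj V' ⟶ Y'} (hq1 : q' ≫ y = (yon S).map a ≫ q) (hq2 : q' ≫ fY' = (yon S).map v')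
    {p1' p2' : W' ⟶ V'} (h1 : p1' ≫ a = b ≫ p1) (h2 : p2' ≫ a = b ≫ p2) (h1' : p1' ≫ v' = w')
    (h2' : p2' ≫ v' = w') : AffCov q' p1' p2' where
  affV := Int.isAffine_of_isPullback sqV h.affV hU' hU
  affW := Int.isAffine_of_isPullback sqW h.affW hU' hU
  w := by
    apply sqY.hom_ext
    · rw [Category.assoc, hq1, ← Category.assoc, ← (yon S).map_comp, h1, (yon S).map_comp, Category.assoc, h.w,
        Category.assoc, hq1, ← Category.assoc ((yon S).map p2'), ← (yon S).map_comp, h2, (yon S).map_comp,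
        Category.assoc]
    · rw [Category.assoc, hq2, ← (yon S).map_comp, h1', Category.assoc, hq2, ← (yon S).map_comp, h2']
  surj := by
    intro T z
    obtain ⟨R, hR, H⟩ := h.surj T (z ≫ y)
    refine ⟨R, hR, fun T' g hg => ?_⟩
    obtain ⟨t, ht⟩ := H T' g hg
    obtain ⟨z', hz'⟩ := (yon S).map_surjective (z ≫ fY')
    have hc : t ≫ v = (g ≫ z') ≫ e := (yon S).map_injective (by
      rw [(yon S).map_comp, ← hv, ← Category.assoc, ht, Category.assoc, Category.assoc, sqY.w,
        (yon S).map_comp, (yon S).map_comp, hz', Category.assoc, Category.assoc])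
    refine ⟨sqV.lift t (g ≫ z') hc, ?_⟩
    apply sqY.hom_ext
    · rw [Category.assoc, hq1, ← Category.assoc, ← (yon S).map_comp, sqV.lift_fst, ht, Category.assoc]
    · rw [Category.assoc, hq2, ← (yon S).map_comp, sqV.lift_snd, (yon S).map_comp, hz', Category.assoc]
  lift := by
    intro T t t' ht
    have e1 : (yon S).map (t ≫ a) ≫ q = (yon S).map (t' ≫ a) ≫ q := by
      rw [(yon S).map_comp, (yon S).map_comp, Category.assoc, Category.assoc, ← hq1, ← Category.assoc, ht,
        Category.assoc]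
    have e2 : t ≫ v' = t' ≫ v' := (yon S).map_injective (by
      rw [(yon S).map_comp, (yon S).map_comp, ← hq2, ← Category.assoc, ht, Category.assoc])
    obtain ⟨R, hR, H⟩ := h.lift T (t ≫ a) (t' ≫ a) e1
    refine ⟨R, hR, fun T' g hg => ?_⟩
    obtain ⟨w, hw1, hw2⟩ := H T' g hg
    have hc : w ≫ p1 ≫ v = (g ≫ t ≫ v') ≫ e := by
      rw [← Category.assoc, hw1, Category.assoc, Category.assoc, Category.assoc, Category.assoc, sqV.w]
    refine ⟨sqW.lift w (g ≫ t ≫ v') hc, ?_, ?_⟩
    · apply sqV.hom_ext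
      · rw [Category.assoc, h1, ← Category.assoc, sqW.lift_fst, hw1, Category.assoc]
      · rw [Category.assoc, h1', sqW.lift_snd, Category.assoc]
    · apply sqV.hom_ext
      · rw [Category.assoc, h2, ← Category.assoc, sqW.lift_fst, hw2, Category.assoc]
      · rw [Category.assoc, h2', sqW.lift_snd, e2, Category.assoc]

/-- `N` is affine and its functions are the functions on `V` that are integral over `U` and have the same two
pullbacks to `W`. -/
structure NChar {U V W N : Over S} (n : V ⟶ N) (ν : N ⟶ U) (p1 p2 : W ⟶ V) : Prop where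
  affN : IsAffine N.left
  integral : IsIntegralHom ν.left
  eq : p1 ≫ n = p2 ≫ n
  inj : Function.Injective n.left.appTop
  surj : ∀ x : Γ(V.left, ⊤), RingHom.IsIntegralElem (n ≫ ν).left.appTop.hom x →
    p1.left.appTop x = p2.left.appTop x → ∃ y, n.left.appTop y = x

/-- Morphisms to an affine scheme are determined after composing with `n` injective on global functions. -/
theorem eq_of_comp_eq {V N M : Scheme.{u}} [IsAffine M] (n : V ⟶ N) (hn : Function.Injective n.appTop)
    (h h' : N ⟶ M) (e : n ≫ h = n ≫ h') : h = h' := by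
  apply ext_of_isAffine
  ext x
  apply hn
  have := congrArg (fun k => k.appTop x) e
  simpa using this

/-- Factorization through `n : V ⟶ N` injective on global functions, target affine. -/
theorem exists_factor {V N M : Scheme.{u}} [IsAffine M] (n : V ⟶ N) (hn : Function.Injective n.appTop)
    (κ : V ⟶ M) (h : ∀ y, ∃ x, n.appTop x = κ.appTop y) : ∃ m : N ⟶ M, n ≫ m = κ := by
  choose φ hφ using h
  let φ' : Γ(M, ⊤) ⟶ Γ(N, ⊤) := CommRingCat.ofHom
    { toFun := φ
      map_one' := hn (by rw [hφ, map_one, map_one])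
      map_mul' := fun x y => hn (by rw [hφ, map_mul, map_mul, hφ, hφ])
      map_zero' := hn (by rw [hφ, map_zero, map_zero])
      map_add' := fun x y => hn (by rw [hφ, map_add, map_add, hφ, hφ]) }
  have e : φ' ≫ n.appTop = κ.appTop := by
    ext x; exact hφ x
  refine ⟨N.toSpecΓ ≫ Spec.map φ' ≫ M.isoSpec.inv, ?_⟩
  have h1 : n ≫ N.toSpecΓ = V.toSpecΓ ≫ Spec.map n.appTop := Scheme.toSpecΓ_naturality n
  have h2 : κ ≫ M.toSpecΓ = V.toSpecΓ ≫ Spec.map κ.appTop := Scheme.toSpecΓ_naturality κ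
  rw [← Category.assoc, h1, Category.assoc, ← Category.assoc (Spec.map n.appTop), ← Spec.map_comp, e,
    ← Category.assoc, ← h2, Category.assoc]
  have : M.toSpecΓ ≫ M.isoSpec.inv = 𝟙 _ := M.isoSpec.hom_inv_id
  rw [this, Category.comp_id]

theorem NChar.isRel {U V W N : Over S} {n : V ⟶ N} {ν : N ⟶ U} {p1 p2 : W ⟶ V} (h : NChar n ν p1 p2)
    (hU : IsAffine U.left) {Y : Sp S} {q : (yon S).obj V ⟶ Y} (hc : AffCov q p1 p2) {fY : Y ⟶ (yon S).obj U}
    (hv : q ≫ fY = (yon S).map (n ≫ ν)) {g : Y ⟶ (yon S).obj N} (hg : q ≫ g = (yon S).map n) :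
    IsRelNormalization fY ((yon S).map ν) g := by
  refine ⟨hc.ext ?_, Int.yon_map ν h.integral, fun Z hZ π k hπ hk => ?_⟩
  · rw [← Category.assoc, hg, hv, (yon S).map_comp]
  obtain ⟨M, μ, e, he, hM, hμ⟩ := Int.exists_iso_of_isAffine hU π hπ
  have he' : e.inv ≫ (yon S).map μ = π := by rw [← he, Iso.inv_hom_id_assoc]
  obtain ⟨κ, hκ⟩ := (yon S).map_surjective (q ≫ k ≫ e.inv)
  have hκμ : κ ≫ μ = n ≫ ν := (yon S).map_injective (by
    rw [(yon S).map_comp, hκ, Category.assoc, Category.assoc, he', hk, hv])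
  have hκp : p1 ≫ κ = p2 ≫ κ := (yon S).map_injective (by
    rw [(yon S).map_comp, (yon S).map_comp, hκ, ← Category.assoc, hc.w, Category.assoc])
  have key : ∀ y, ∃ x, n.left.appTop x = κ.left.appTop y := by
    intro y
    apply h.surj
    · obtain ⟨P, hP, hP'⟩ := (IsIntegralHom.isIntegral_app μ.left ⊤ (isAffineOpen_top _)) y
      refine ⟨P, hP, ?_⟩
      have e1 : (n ≫ ν).left.appTop = μ.left.appTop ≫ κ.left.appTop := by
        rw [← hκμ, Over.comp_left, Scheme.Hom.comp_appTop]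
      rw [e1, CommRingCat.hom_comp, ← Polynomial.hom_eval₂]
      exact (congrArg _ hP').trans (map_zero _)
    · have := congrArg (fun k => k.left.appTop y) hκp
      simpa using this
  obtain ⟨m, hm⟩ := exists_factor n.left h.inj κ.left key
  have hmμ : m ≫ μ.left = ν.left := by
    apply eq_of_comp_eq n.left h.inj
    rw [← Category.assoc, hm, ← Over.comp_left, hκμ, Over.comp_left]
  let m' : N ⟶ M := Over.homMk m (by
    rw [← Over.w μ, ← Category.assoc, hmμ, Over.w ν])
  have hm'1 : n ≫ m' = κ := by ext : 1; exact hm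
  have hm'2 : m' ≫ μ = ν := by ext : 1; exact hmμ
  refine ⟨(yon S).map m' ≫ e.hom, ⟨?_, ?_⟩, ?_⟩
  · apply hc.ext
    rw [← Category.assoc, hg, ← Category.assoc, ← (yon S).map_comp, hm'1, hκ, Category.assoc, Category.assoc,
      e.inv_hom_id, Category.comp_id]
  · rw [Category.assoc, he, ← (yon S).map_comp, hm'2]
  · rintro k' ⟨hk1, hk2⟩
    obtain ⟨l, hl⟩ := (yon S).map_surjective (k' ≫ e.inv)
    have : l = m' := by
      ext : 1
      apply eq_of_comp_eq n.left h.inj
      rw [← Over.comp_left, ← Over.comp_left, hm'1]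
      congr 1
      apply (yon S).map_injective
      rw [(yon S).map_comp, hl, ← hg, Category.assoc, ← Category.assoc g, hk1, hκ]
    rw [← this, hl, Category.assoc, e.inv_hom_id, Category.comp_id]

/-- Smooth base change of `NChar`. -/
theorem NChar.of_isPullback {U V W N U' V' W' N' : Over S} {n : V ⟶ N} {ν : N ⟶ U} {p1 p2 : W ⟶ V}
    (h : NChar n ν p1 p2) (hU : IsAffine U.left) (hU' : IsAffine U'.left) (hV : IsAffine V.left)
    (hW : IsAffine W.left) {e : U' ⟶ U} (he : Smooth e.left)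
    {c : N' ⟶ N} {ν' : N' ⟶ U'} (sqN : IsPullback c ν' ν e)
    {a : V' ⟶ V} {v' : V' ⟶ U'} (sqV : IsPullback a v' (n ≫ ν) e)
    {b : W' ⟶ W} {w' : W' ⟶ U'} (sqW : IsPullback b w' (p1 ≫ n ≫ ν) e)
    {n' : V' ⟶ N'} (hn1 : n' ≫ c = a ≫ n) (hn2 : n' ≫ ν' = v')
    {p1' p2' : W' ⟶ V'} (h1 : p1' ≫ a = b ≫ p1) (h2 : p2' ≫ a = b ≫ p2) (h1' : p1' ≫ v' = w')
    (h2' : p2' ≫ v' = w') : NChar n' ν' p1' p2' := by
  have hN := h.affN
  have hi := h.integral
  have hN' : IsAffine N'.left := Int.isAffine_of_isPullback sqN h.affN hU' hU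
  have heq : p1' ≫ n' = p2' ≫ n' := by
    apply sqN.hom_ext
    · rw [Category.assoc, hn1, ← Category.assoc, h1, Category.assoc, h.eq, Category.assoc, hn1,
        ← Category.assoc p2', h2, Category.assoc]
    · rw [Category.assoc, hn2, Category.assoc, hn2, h1', h2']
  have pB := (isPushout_appTop_of_isPullback (Int.isPullback_left sqN)).flip
  have pC := (isPushout_appTop_of_isPullback (Int.isPullback_left sqV)).flip
  have pD := (isPushout_appTop_of_isPullback (Int.isPullback_left sqW)).flip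
  have hsm : e.left.appTop.hom.Smooth := by
    have := Scheme.Hom.smooth_appLE e.left (isAffineOpen_top U.left) (isAffineOpen_top U'.left) le_top
    rw [Scheme.Hom.appTop, Scheme.Hom.app_eq_appLE]
    exact this
  have := Alg.pushout_form e.left.appTop hsm (b := ν.left.appTop) (b' := ν'.left.appTop)
    (c := n.left.appTop) (c' := n'.left.appTop) (p1 := p1.left.appTop) (p2 := p2.left.appTop)
    (p1' := p1'.left.appTop) (p2' := p2'.left.appTop) pB
    (by
      rw [← Scheme.Hom.comp_appTop, ← Scheme.Hom.comp_appTop, ← Over.comp_left, ← Over.comp_left, hn2]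
      exact pC)
    (by
      rw [← Scheme.Hom.comp_appTop, ← Scheme.Hom.comp_appTop, ← Scheme.Hom.comp_appTop,
        ← Scheme.Hom.comp_appTop, ← Over.comp_left, ← Over.comp_left, ← Over.comp_left, ← Over.comp_left,
        Category.assoc, Category.assoc, hn2, h1']
      exact pD)
    (by rw [← Scheme.Hom.comp_appTop, ← Scheme.Hom.comp_appTop, ← Over.comp_left, ← Over.comp_left, hn1])
    (by rw [← Scheme.Hom.comp_appTop, ← Scheme.Hom.comp_appTop, ← Over.comp_left, ← Over.comp_left, h1])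
    (by rw [← Scheme.Hom.comp_appTop, ← Scheme.Hom.comp_appTop, ← Over.comp_left, ← Over.comp_left, h2])
    (by rw [← Scheme.Hom.comp_appTop, ← Scheme.Hom.comp_appTop, ← Over.comp_left, ← Over.comp_left, h.eq])
    (by rw [← Scheme.Hom.comp_appTop, ← Scheme.Hom.comp_appTop, ← Over.comp_left, ← Over.comp_left, heq])
    (IsIntegralHom.isIntegral_app ν.left ⊤ (isAffineOpen_top _)) h.inj (by
      intro x hx hx'
      apply h.surj x _ hx'
      rwa [Over.comp_left, Scheme.Hom.comp_appTop])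
  exact ⟨hN', MorphismProperty.of_isPullback (P := @IsIntegralHom) (Int.isPullback_left sqN) hi, heq, this.1,
    fun x hx hx' => this.2 x (by rwa [Over.comp_left, Scheme.Hom.comp_appTop] at hx) hx'⟩

end K615.Aff
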