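import Groth.Agent.AlgSp.K615.UNorm
import Groth.Agent.AlgSp.K615.Glue
import Groth.Agent.AlgSp.K617.FinLoc
import Groth.Agent.AlgSp.K600.LimSpace

/-!
# Glueing relative normalizations (helper615)
-/

set_option autoImplicit false
universe u v
open CategoryTheory CategoryTheory.Limits AlgebraicGeometry Opposite AlgSp

namespace K615.Desc

open K615.Norm K615.Aff K615.UN

variable {S : Scheme.{u}}

theorem isAlgSpace_of_integral {F G : Sp S} {f : F ⟶ G} (hf : IsIntegralMor f) (hG : IsAlgSpace G) : IsAlgSpace F :=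
  K600.LimSpace.isAlgSpace_of_representable (K617.FinLoc.isIntegralMor_iff.1 hf).1 hG

/-- Universal property of a relative normalization with respect to integral morphisms over other bases. -/
theorem existsUnique_map {W YW N : Sp S} {fW : YW ⟶ W} {νW : N ⟶ W} {g : YW ⟶ N} (hW : IsAlgSpace W)
    (hn : IsRelNormalization fW νW g) {M V : Sp S} {μ : M ⟶ V} (hμ : IsIntegralMor μ) (w : W ⟶ V) (z : YW ⟶ M)
    (hz : z ≫ μ = fW ≫ w) : ∃! t : N ⟶ M, g ≫ t = z ∧ t ≫ μ = νW ≫ w := by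
  have sq := IsPullback.of_hasPullback μ w
  have h1 : IsIntegralMor (pullback.snd μ w) := Int.of_isPullback sq hμ
  obtain ⟨h, ⟨hh1, hh2⟩, hu⟩ := hn.2.2 (isAlgSpace_of_integral h1 hW) (pullback.snd μ w) (sq.lift z fW hz) h1
    (sq.lift_snd _ _ _)
  refine ⟨h ≫ pullback.fst μ w, ⟨?_, ?_⟩, ?_⟩
  · rw [← Category.assoc, hh1, sq.lift_fst]
  · rw [Category.assoc, sq.w, ← Category.assoc, hh2]
  · rintro t ⟨ht1, ht2⟩
    have : sq.lift t νW ht2 = h := by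
      refine hu _ ⟨?_, sq.lift_snd _ _ _⟩
      apply sq.hom_ext
      · rw [Category.assoc, sq.lift_fst, sq.lift_fst, ht1]
      · rw [Category.assoc, sq.lift_snd, sq.lift_snd, hn.1]
    rw [← this, sq.lift_fst]

theorem jsurj_of_points {ι : Type v} {X : Sp S} {U : ι → Sp S} {a : ∀ i, U i ⟶ X}
    (ha : ∀ i, RepWith @Etale (a i)) (hcov : ∀ x : Points X, ∃ i, x ∈ Set.range (Points.map (a i))) :
    Pt.JSurj U a := by
  intro T x
  let R : Sieve T :=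
    { arrows := fun T' g => ∃ (i : ι) (y : (yon S).obj T' ⟶ U i), y ≫ a i = (yon S).map g ≫ x
      downward_closed := by
        rintro T' T'' g ⟨i, y, hy⟩ k
        exact ⟨i, (yon S).map k ≫ y, by rw [Category.assoc, hy, (yon S).map_comp, Category.assoc]⟩ }
  refine ⟨R, Cov.sieve_mem R fun t => ?_, fun T' g hg => hg⟩
  obtain ⟨i, y, hy⟩ := hcov (Points.ofPt x t)
  obtain ⟨V, v, fst, sqV⟩ := (ha i).1 x
  have hv : Etale v.left := (ha i).2 x fst v sqV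
  obtain ⟨v', -, hv'⟩ := K610.Base.exists_of_isPullback_yon sqV y t hy
  exact ⟨V, v, ⟨i, fst, sqV.w⟩, inferInstance, inferInstance, v', hv'⟩

theorem points_of_charts {X : Sp S} (hX : IsAlgSpace X) (x : Points X) :
    ∃ c : Cov.Chart X, x ∈ Set.range (Points.map c.a) := by
  obtain ⟨U, p, hp1, hp2⟩ := hX.atlas
  obtain ⟨u, rfl⟩ := K610.Base.surjective_ofPt hp2 x
  obtain ⟨_, ⟨W, hW, rfl⟩, hu, -⟩ := U.left.isBasis_affineOpens.exists_subset_of_mem_open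
    (Set.mem_univ u) isOpen_univ
  refine ⟨⟨Cov.opn U W, (yon S).map (Cov.opnι U W) ≫ p, hW, Cov.repWith_etale_comp _ p hp1⟩,
    Points.ofScheme (Cov.opn U W) ⟨u, hu⟩, ?_⟩
  rw [← Points.ofPt_eq_map_ofScheme, K610.Base.ofPt_map_comp]
  rfl

/-- Local relative normalizations of `f` along the étale family `a i : U i ⟶ X`. -/
structure Loc {X Y : Sp S} (f : Y ⟶ X) {ι : Type (u + 1)} (U : ι → Sp S) (a : ∀ i, U i ⟶ X) where
  hU : ∀ i, IsAlgSpace (U i)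
  ha : ∀ i, RepWith @Etale (a i)
  Y' : ι → Sp S
  y : ∀ i, Y' i ⟶ Y
  f' : ∀ i, Y' i ⟶ U i
  sq : ∀ i, IsPullback (y i) (f' i) f (a i)
  N : ι → Sp S
  ν : ∀ i, N i ⟶ U i
  g : ∀ i, Y' i ⟶ N i
  un : ∀ i, UNorm (f' i) (ν i) (g i)

section Loc

variable {X Y : Sp S} {f : Y ⟶ X} {ι : Type (u + 1)} {U : ι → Sp S} {a : ∀ i, U i ⟶ X} (L : Loc f U a)

theorem isEtaleMor_of_repWith {F G : Sp S} {w : F ⟶ G} (hw : RepWith @Etale w) : IsEtaleMor w :=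
  fun _ _ hφ => MorphismProperty.comp_mem _ _ _ hφ hw

/-- Restriction of the local normalization along an étale `w : W ⟶ U i`. -/
theorem Loc.unW (i : ι) {W : Sp S} (w : W ⟶ U i) (hw : RepWith @Etale w) :
    UNorm (pullback.snd (L.f' i) w) (pullback.snd (L.ν i) w)
      (pullback.lift (pullback.fst (L.f' i) w ≫ L.g i) (pullback.snd (L.f' i) w) (by
        rw [Category.assoc, (L.un i).w, pullback.condition])) :=
  (L.un i).baseChange (isEtaleMor_of_repWith hw) (IsPullback.of_hasPullback _ _) (IsPullback.of_hasPullback _ _)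
    (pullback.lift_snd _ _ _) (pullback.lift_fst _ _ _)

/-- Existence of transition maps. -/
theorem Loc.exists_t (i j : ι) :
    ∃ t : pullback (L.ν i) (pullback.fst (a i) (a j)) ⟶ L.N j,
      t ≫ L.ν j = pullback.snd _ _ ≫ pullback.snd (a i) (a j) ∧
      ∀ (Z : Sp S) (z : Z ⟶ pullback (L.ν i) (pullback.fst (a i) (a j))) (z1 : Z ⟶ L.Y' i) (z2 : Z ⟶ L.Y' j),
        z1 ≫ L.g i = z ≫ pullback.fst _ _ → z2 ≫ L.f' j = z ≫ pullback.snd _ _ ≫ pullback.snd _ _ →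
        z1 ≫ L.y i = z2 ≫ L.y j → z ≫ t = z2 ≫ L.g j := by
  have sqR := IsPullback.of_hasPullback (a i) (a j)
  have hw : RepWith @Etale (pullback.fst (a i) (a j)) := MorphismProperty.of_isPullback sqR.flip (L.ha j)
  have hR : IsAlgSpace (pullback (a i) (a j)) := K600.LimSpace.isAlgSpace_of_representable hw.1 (L.hU i)
  have sqY := IsPullback.of_hasPullback (L.f' i) (pullback.fst (a i) (a j))
  have sqN := IsPullback.of_hasPullback (L.ν i) (pullback.fst (a i) (a j))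
  have hun := L.unW i _ hw
  let z₀ : pullback (L.f' i) (pullback.fst (a i) (a j)) ⟶ L.Y' j :=
    (L.sq j).lift (pullback.fst _ _ ≫ L.y i) (pullback.snd _ _ ≫ pullback.snd _ _) (by
      rw [Category.assoc, (L.sq i).w, ← Category.assoc, sqY.w, Category.assoc, sqR.w, Category.assoc])
  have hz1 : z₀ ≫ L.y j = pullback.fst _ _ ≫ L.y i := (L.sq j).lift_fst _ _ _
  have hz2 : z₀ ≫ L.f' j = pullback.snd _ _ ≫ pullback.snd _ _ := (L.sq j).lift_snd _ _ _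
  obtain ⟨t, ⟨ht1, ht2⟩, -⟩ := existsUnique_map hR (hun.isRel hR) (L.un j).integral (pullback.snd (a i) (a j))
    (z₀ ≫ L.g j) (by rw [Category.assoc, (L.un j).w, hz2])
  refine ⟨t, ht2, fun Z z z1 z2 h1 h2 h3 => ?_⟩
  have h4 : z1 ≫ L.f' i = (z ≫ pullback.snd _ _) ≫ pullback.fst (a i) (a j) := by
    rw [Category.assoc, ← sqN.w, ← Category.assoc, ← h1, Category.assoc, (L.un i).w]
  let k : Z ⟶ pullback (L.f' i) (pullback.fst (a i) (a j)) := sqY.lift z1 (z ≫ pullback.snd _ _) h4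
  have hk1 : k ≫ pullback.fst _ _ = z1 := sqY.lift_fst _ _ _
  have hk2 : k ≫ pullback.snd _ _ = z ≫ pullback.snd _ _ := sqY.lift_snd _ _ _
  have hk : k ≫ pullback.lift (pullback.fst (L.f' i) (pullback.fst (a i) (a j)) ≫ L.g i)
      (pullback.snd (L.f' i) (pullback.fst (a i) (a j))) (by
        rw [Category.assoc, (L.un i).w, pullback.condition]) = z := by
    apply sqN.hom_ext
    · rw [Category.assoc, pullback.lift_fst, ← Category.assoc, hk1, h1]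
    · rw [Category.assoc, pullback.lift_snd, hk2]
  have hk0 : k ≫ z₀ = z2 := by
    apply (L.sq j).hom_ext
    · rw [Category.assoc, hz1, ← Category.assoc, hk1, h3]
    · rw [Category.assoc, hz2, ← Category.assoc, hk2, h2, Category.assoc]
  rw [← hk, Category.assoc, ht1, ← Category.assoc, hk0]

/-- Transition maps on `Z`-valued points. -/
noncomputable def Loc.T (i j : ι) {Z : Sp S} (n : Z ⟶ L.N i) (u : Z ⟶ U j)
    (h : n ≫ L.ν i ≫ a i = u ≫ a j) : Z ⟶ L.N j :=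
  pullback.lift n (pullback.lift (n ≫ L.ν i) u (by rw [Category.assoc, h])) (by rw [pullback.lift_fst]) ≫
    (L.exists_t i j).choose

theorem Loc.T_ν (i j : ι) {Z : Sp S} (n : Z ⟶ L.N i) (u : Z ⟶ U j)
    (h : n ≫ L.ν i ≫ a i = u ≫ a j) : L.T i j n u h ≫ L.ν j = u := by
  rw [Loc.T, Category.assoc, (L.exists_t i j).choose_spec.1, ← Category.assoc, pullback.lift_snd,
    pullback.lift_snd]

theorem Loc.T_nat (i j : ι) {Z Z' : Sp S} (k : Z' ⟶ Z) (n : Z ⟶ L.N i) (u : Z ⟶ U j)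
    (h : n ≫ L.ν i ≫ a i = u ≫ a j) (h' : (k ≫ n) ≫ L.ν i ≫ a i = (k ≫ u) ≫ a j) :
    L.T i j (k ≫ n) (k ≫ u) h' = k ≫ L.T i j n u h := by
  rw [Loc.T, Loc.T, ← Category.assoc k]
  congr 1
  apply pullback.hom_ext
  · rw [pullback.lift_fst, Category.assoc, pullback.lift_fst]
  · apply pullback.hom_ext
    · simp only [pullback.lift_fst, pullback.lift_snd, Category.assoc]
    · simp only [pullback.lift_snd, Category.assoc]

theorem Loc.T_g (i j : ι) {Z : Sp S} (z1 : Z ⟶ L.Y' i) (z2 : Z ⟶ L.Y' j) (hz : z1 ≫ L.y i = z2 ≫ L.y j)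
    (h : (z1 ≫ L.g i) ≫ L.ν i ≫ a i = (z2 ≫ L.f' j) ≫ a j) :
    L.T i j (z1 ≫ L.g i) (z2 ≫ L.f' j) h = z2 ≫ L.g j := by
  refine (L.exists_t i j).choose_spec.2 Z _ z1 z2 ?_ ?_ hz
  · rw [pullback.lift_fst]
  · rw [← Category.assoc, pullback.lift_snd, pullback.lift_snd]

theorem Loc.T_congr {i j : ι} {Z : Sp S} {n n' : Z ⟶ L.N i} (hn : n = n') {u u' : Z ⟶ U j} (hu : u = u')
    (h : n ≫ L.ν i ≫ a i = u ≫ a j) (h' : n' ≫ L.ν i ≫ a i = u' ≫ a j) :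
    L.T i j n u h = L.T i j n' u' h' := by
  subst hn; subst hu; rfl

theorem Loc.T_self (i : ι) {Z : Sp S} (n : Z ⟶ L.N i) (u : Z ⟶ U i) (h : n ≫ L.ν i ≫ a i = u ≫ a i)
    (hu : n ≫ L.ν i = u) : L.T i i n u h = n := by
  subst hu
  have h0 : 𝟙 _ ≫ L.ν i ≫ a i = L.ν i ≫ a i := Category.id_comp _
  have key : L.T i i (𝟙 _) (L.ν i) h0 = 𝟙 _ := by
    refine (existsUnique_map (L.hU i) ((L.un i).isRel (L.hU i)) (L.un i).integral (𝟙 _) (L.g i) (by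
      rw [(L.un i).w, Category.comp_id])).unique ⟨?_, ?_⟩ ⟨Category.comp_id _, ?_⟩
    · have e1 : (L.g i ≫ 𝟙 _) ≫ L.ν i ≫ a i = (L.g i ≫ L.ν i) ≫ a i := by
        rw [Category.comp_id, Category.assoc]
      have e2 : (𝟙 _ ≫ L.g i) ≫ L.ν i ≫ a i = (𝟙 _ ≫ L.f' i) ≫ a i := by
        rw [Category.id_comp, Category.id_comp, ← Category.assoc, (L.un i).w]
      rw [← L.T_nat i i (L.g i) (𝟙 _) (L.ν i) h0 e1]
      refine (L.T_congr (by rw [Category.comp_id, Category.id_comp])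
        (by rw [(L.un i).w, Category.id_comp]) _ e2).trans ((L.T_g i i (𝟙 _) (𝟙 _) rfl e2).trans ?_)
      rw [Category.id_comp]
    · rw [L.T_ν, Category.comp_id]
    · rw [Category.id_comp, Category.comp_id]
  have e3 : (n ≫ 𝟙 _) ≫ L.ν i ≫ a i = (n ≫ L.ν i) ≫ a i := by rw [Category.comp_id, Category.assoc]
  calc L.T i i n (n ≫ L.ν i) h = L.T i i (n ≫ 𝟙 _) (n ≫ L.ν i) e3 :=
        L.T_congr (Category.comp_id _).symm rfl _ _
    _ = n ≫ L.T i i (𝟙 _) (L.ν i) h0 := L.T_nat i i n (𝟙 _) (L.ν i) h0 e3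
    _ = n := by rw [key, Category.comp_id]

theorem assoc_eq {A B C C' D : Sp S} (x : A ⟶ B) {y : B ⟶ C} {z : C ⟶ D} {y' : B ⟶ C'} {z' : C' ⟶ D}
    (h : y ≫ z = y' ≫ z') : (x ≫ y) ≫ z = (x ≫ y') ≫ z' := by rw [Category.assoc, h, Category.assoc]

theorem Loc.T_T_aux (i j k : ι) {W YW NW : Sp S} (hW : IsAlgSpace W) {w : W ⟶ U i} {yW : YW ⟶ L.Y' i}
    {fW : YW ⟶ W} {nW : NW ⟶ L.N i} {νW : NW ⟶ W} {gW : YW ⟶ NW} (sqY : IsPullback yW fW (L.f' i) w)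
    (hg' : gW ≫ nW = yW ≫ L.g i) (hun : UNorm fW νW gW) {wj : W ⟶ U j}
    {wk : W ⟶ U k} (hwj : w ≫ a i = wj ≫ a j) (hwk : w ≫ a i = wk ≫ a k)
    (h : nW ≫ L.ν i ≫ a i = (νW ≫ wj) ≫ a j)
    (h' : L.T i j nW (νW ≫ wj) h ≫ L.ν j ≫ a j = (νW ≫ wk) ≫ a k)
    (h'' : nW ≫ L.ν i ≫ a i = (νW ≫ wk) ≫ a k) :
    L.T j k (L.T i j nW (νW ≫ wj) h) (νW ≫ wk) h' = L.T i k nW (νW ≫ wk) h'' := by
  obtain ⟨z2, hz21, hz22⟩ : ∃ z2 : YW ⟶ L.Y' j, z2 ≫ L.y j = yW ≫ L.y i ∧ z2 ≫ L.f' j = fW ≫ wj := by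
    have e : (yW ≫ L.y i) ≫ f = (fW ≫ wj) ≫ a j := by
      rw [Category.assoc, (L.sq i).w, ← Category.assoc, sqY.w, Category.assoc, hwj, Category.assoc]
    exact ⟨(L.sq j).lift _ _ e, (L.sq j).lift_fst _ _ _, (L.sq j).lift_snd _ _ _⟩
  obtain ⟨z3, hz31, hz32⟩ : ∃ z3 : YW ⟶ L.Y' k, z3 ≫ L.y k = yW ≫ L.y i ∧ z3 ≫ L.f' k = fW ≫ wk := by
    have e : (yW ≫ L.y i) ≫ f = (fW ≫ wk) ≫ a k := by
      rw [Category.assoc, (L.sq i).w, ← Category.assoc, sqY.w, Category.assoc, hwk, Category.assoc]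
    exact ⟨(L.sq k).lift _ _ e, (L.sq k).lift_fst _ _ _, (L.sq k).lift_snd _ _ _⟩
  have e2 : gW ≫ νW ≫ wj = z2 ≫ L.f' j := by rw [hz22, ← hun.w, Category.assoc]
  have e3 : gW ≫ νW ≫ wk = z3 ≫ L.f' k := by rw [hz32, ← hun.w, Category.assoc]
  have c1 : (gW ≫ nW) ≫ L.ν i ≫ a i = (gW ≫ νW ≫ wj) ≫ a j := assoc_eq gW h
  have c1' : (yW ≫ L.g i) ≫ L.ν i ≫ a i = (z2 ≫ L.f' j) ≫ a j := by rw [← hg', ← e2, c1]
  have f1 : gW ≫ L.T i j nW (νW ≫ wj) h = z2 ≫ L.g j := by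
    rw [← L.T_nat i j gW nW (νW ≫ wj) h c1]
    exact (L.T_congr hg' e2 _ c1').trans (L.T_g i j yW z2 hz21.symm c1')
  have c2 : (gW ≫ L.T i j nW (νW ≫ wj) h) ≫ L.ν j ≫ a j = (gW ≫ νW ≫ wk) ≫ a k := assoc_eq gW h'
  have c2' : (z2 ≫ L.g j) ≫ L.ν j ≫ a j = (z3 ≫ L.f' k) ≫ a k := by rw [← f1, ← e3, c2]
  have f2 : gW ≫ L.T j k (L.T i j nW (νW ≫ wj) h) (νW ≫ wk) h' = z3 ≫ L.g k := by
    rw [← L.T_nat j k gW (L.T i j nW (νW ≫ wj) h) (νW ≫ wk) h' c2]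
    exact (L.T_congr f1 e3 _ c2').trans (L.T_g j k z2 z3 (by rw [hz21, hz31]) c2')
  have c3 : (gW ≫ nW) ≫ L.ν i ≫ a i = (gW ≫ νW ≫ wk) ≫ a k := assoc_eq gW h''
  have c3' : (yW ≫ L.g i) ≫ L.ν i ≫ a i = (z3 ≫ L.f' k) ≫ a k := by rw [← hg', ← e3, c3]
  have f3 : gW ≫ L.T i k nW (νW ≫ wk) h'' = z3 ≫ L.g k := by
    rw [← L.T_nat i k gW nW (νW ≫ wk) h'' c3]
    exact (L.T_congr hg' e3 _ c3').trans (L.T_g i k yW z3 hz31.symm c3')
  refine (existsUnique_map hW (hun.isRel hW) (L.un k).integral wk (z3 ≫ L.g k) (by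
    rw [Category.assoc, (L.un k).w, hz32])).unique ⟨f2, ?_⟩ ⟨f3, ?_⟩
  · rw [L.T_ν]
  · rw [L.T_ν]

theorem Loc.T_T (i j k : ι) {Z : Sp S} (n : Z ⟶ L.N i) (u : Z ⟶ U j) (u' : Z ⟶ U k)
    (h : n ≫ L.ν i ≫ a i = u ≫ a j) (h' : L.T i j n u h ≫ L.ν j ≫ a j = u' ≫ a k)
    (h'' : n ≫ L.ν i ≫ a i = u' ≫ a k) : L.T j k (L.T i j n u h) u' h' = L.T i k n u' h'' := by
  obtain ⟨W, w, wj, wk, hW, hw, hwj, hwk, hl⟩ : ∃ (W : Sp S) (w : W ⟶ U i) (wj : W ⟶ U j) (wk : W ⟶ U k),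
      IsAlgSpace W ∧ RepWith @Etale w ∧ w ≫ a i = wj ≫ a j ∧ w ≫ a i = wk ≫ a k ∧
        ∀ (v : Z ⟶ U i), v ≫ a i = u ≫ a j → v ≫ a i = u' ≫ a k → ∃ l : Z ⟶ W, l ≫ w = v ∧ l ≫ wj = u ∧
          l ≫ wk = u' := by
    have sqR := IsPullback.of_hasPullback (a i) (a j)
    have hw : RepWith @Etale (pullback.fst (a i) (a j)) := MorphismProperty.of_isPullback sqR.flip (L.ha j)
    have hR : IsAlgSpace (pullback (a i) (a j)) := K600.LimSpace.isAlgSpace_of_representable hw.1 (L.hU i)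
    have sqR' := IsPullback.of_hasPullback (pullback.snd (a i) (a j) ≫ a j) (a k)
    have hw' : RepWith @Etale (pullback.fst (pullback.snd (a i) (a j) ≫ a j) (a k)) :=
      MorphismProperty.of_isPullback sqR'.flip (L.ha k)
    refine ⟨pullback (pullback.snd (a i) (a j) ≫ a j) (a k), pullback.fst _ _ ≫ pullback.fst _ _,
      pullback.fst _ _ ≫ pullback.snd _ _, pullback.snd _ _,
      K600.LimSpace.isAlgSpace_of_representable hw'.1 hR, MorphismProperty.comp_mem _ _ _ hw' hw, ?_, ?_, ?_⟩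
    · rw [Category.assoc, sqR.w, Category.assoc]
    · rw [Category.assoc, sqR.w, sqR'.w]
    · intro v h1 h2
      have e1 : sqR.lift v u h1 ≫ pullback.snd (a i) (a j) ≫ a j = u' ≫ a k := by
        rw [← Category.assoc, sqR.lift_snd, ← h1, h2]
      refine ⟨sqR'.lift (sqR.lift v u h1) u' e1, ?_, ?_, ?_⟩
      · rw [← Category.assoc, sqR'.lift_fst, sqR.lift_fst]
      · rw [← Category.assoc, sqR'.lift_fst, sqR.lift_snd]
      · rw [sqR'.lift_snd]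
  obtain ⟨YW, NW, yW, fW, nW, νW, gW, sqY, sqN, hg, hg'⟩ := exists_chart (L.un i).w w
  have hun : UNorm fW νW gW := (L.un i).baseChange (isEtaleMor_of_repWith hw) sqY sqN hg hg'
  obtain ⟨l, hl1, hl2, hl3⟩ := hl (n ≫ L.ν i) (by rw [Category.assoc, h]) (by rw [Category.assoc, h''])
  have hm0 : n ≫ L.ν i = l ≫ w := hl1.symm
  have hm1 : sqN.lift n l hm0 ≫ nW = n := sqN.lift_fst _ _ _
  have hm2 : sqN.lift n l hm0 ≫ νW = l := sqN.lift_snd _ _ _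
  have hm3 : sqN.lift n l hm0 ≫ νW ≫ wj = u := by rw [← Category.assoc, hm2, hl2]
  have hm4 : sqN.lift n l hm0 ≫ νW ≫ wk = u' := by rw [← Category.assoc, hm2, hl3]
  generalize sqN.lift n l hm0 = m at hm1 hm3 hm4
  have h0 : nW ≫ L.ν i ≫ a i = (νW ≫ wj) ≫ a j := by
    rw [← Category.assoc, sqN.w, Category.assoc, hwj, Category.assoc]
  have h0'' : nW ≫ L.ν i ≫ a i = (νW ≫ wk) ≫ a k := by
    rw [← Category.assoc, sqN.w, Category.assoc, hwk, Category.assoc]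
  have h0' : L.T i j nW (νW ≫ wj) h0 ≫ L.ν j ≫ a j = (νW ≫ wk) ≫ a k := by
    rw [← Category.assoc, L.T_ν, ← h0, h0'']
  have key := L.T_T_aux i j k hW sqY hg' hun hwj hwk h0 h0' h0''
  have d1 : (m ≫ nW) ≫ L.ν i ≫ a i = (m ≫ νW ≫ wj) ≫ a j := assoc_eq m h0
  have d2 : (m ≫ L.T i j nW (νW ≫ wj) h0) ≫ L.ν j ≫ a j = (m ≫ νW ≫ wk) ≫ a k := assoc_eq m h0'
  have d3 : (m ≫ nW) ≫ L.ν i ≫ a i = (m ≫ νW ≫ wk) ≫ a k := assoc_eq m h0''
  have g1 : L.T i j n u h = m ≫ L.T i j nW (νW ≫ wj) h0 := by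
    rw [← L.T_nat i j m nW (νW ≫ wj) h0 d1]
    exact L.T_congr hm1.symm hm3.symm _ _
  have g2 : L.T j k (L.T i j n u h) u' h' = m ≫ L.T j k (L.T i j nW (νW ≫ wj) h0) (νW ≫ wk) h0' := by
    rw [← L.T_nat j k m (L.T i j nW (νW ≫ wj) h0) (νW ≫ wk) h0' d2]
    exact L.T_congr g1 hm4.symm _ _
  have g3 : L.T i k n u' h'' = m ≫ L.T i k nW (νW ≫ wk) h0'' := by
    rw [← L.T_nat i k m nW (νW ≫ wk) h0'' d3]
    exact L.T_congr hm1.symm hm4.symm _ _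
  rw [g2, g3, key]

/-- The descent datum. -/
noncomputable def Loc.dd : Glue.DD U a L.N L.ν where
  tr i j n u h := L.T i j n u h
  tr_ν i j n u h := L.T_ν i j n u h
  tr_nat g i j n u h h' := L.T_nat i j ((yon S).map g) n u h h'
  tr_self i n u h hu := L.T_self i n u h hu
  tr_tr i j k n u u' h h' h'' := L.T_T i j k n u u' h h' h''

/-- Descent of local relative normalizations along an étale covering. -/
theorem Loc.exists_glue (hX : IsAlgSpace X) (hcov : ∀ x : Points X, ∃ i, x ∈ Set.range (Points.map (a i))) :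
    ∃ (X' : Sp S) (ν : X' ⟶ X) (f' : Y ⟶ X') (m : ∀ i, L.N i ⟶ X'), IsAlgSpace X' ∧ IsIntegralMor ν ∧
      f' ≫ ν = f ∧ (∀ i, IsPullback (m i) (L.ν i) ν (a i)) ∧ ∀ i, L.g i ≫ m i = L.y i ≫ f' := by
  have hint : IsIntegralMor (Glue.π L.dd) :=
    K617.FinLoc.integral_family L.ha hcov (Glue.isPullback (D := L.dd)) fun i => (L.un i).integral
  have hJ : Pt.JSurj L.Y' L.y := (jsurj_of_points L.ha hcov).of_isPullback f L.Y' L.y L.f' L.sq
  obtain ⟨f', hf'⟩ := hJ.exists_desc (fun i => L.g i ≫ Glue.m L.dd i) (by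
    intro T i j z z' hz
    have h1 : (z ≫ L.g i) ≫ L.ν i ≫ a i = (z' ≫ L.f' j) ≫ a j := by
      have e1 : L.g i ≫ L.ν i ≫ a i = L.y i ≫ f := by rw [← Category.assoc, (L.un i).w, (L.sq i).w]
      rw [Category.assoc, e1, Category.assoc, ← (L.sq j).w, ← Category.assoc, hz, Category.assoc]
    have h2 : L.dd.tr i j (z ≫ L.g i) (z' ≫ L.f' j) h1 = z' ≫ L.g j := L.T_g i j z z' hz h1
    have h3 := Glue.tr_m (D := L.dd) i j (z ≫ L.g i) (z' ≫ L.f' j) h1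
    rw [h2, Category.assoc, Category.assoc] at h3
    exact h3.symm)
  refine ⟨Glue.glued L.dd, Glue.π L.dd, f', Glue.m L.dd, isAlgSpace_of_integral hint hX, hint, ?_,
    Glue.isPullback, fun i => (hf' i).symm⟩
  refine hJ.ext fun i => ?_
  rw [← Category.assoc, hf', Category.assoc, Glue.w, ← Category.assoc, (L.un i).w, (L.sq i).w]

end Loc

end K615.Desc
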