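import Groth.Agent.AlgSp.K615.UNorm
import Groth.Agent.AlgSp.K609.QC

/-!
# Existence of relative normalizations over affine schemes (helper615)
-/

set_option autoImplicit false
universe u v
open CategoryTheory CategoryTheory.Limits AlgebraicGeometry Opposite AlgSp

namespace K615.Exist

open K615.Norm K615.Aff K615.UN

variable {S : Scheme.{u}}

/-- The subring of functions on `V` integral over `U` with equal pullbacks to `W`. -/
def sub {A C D : CommRingCat.{u}} (v : A ⟶ C) (p1 p2 : C ⟶ D) : Subring C where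
  carrier := {c | v.hom.IsIntegralElem c ∧ p1 c = p2 c}
  mul_mem' := fun {a b} ha hb => ⟨ha.1.mul _ hb.1, by rw [map_mul, map_mul, ha.2, hb.2]⟩
  one_mem' := ⟨RingHom.isIntegralElem_one _, by rw [map_one, map_one]⟩
  add_mem' := fun {a b} ha hb => ⟨ha.1.add _ hb.1, by rw [map_add, map_add, ha.2, hb.2]⟩
  zero_mem' := ⟨RingHom.isIntegralElem_zero _, by rw [map_zero, map_zero]⟩
  neg_mem' := fun {a} ha => ⟨ha.1.neg _, by rw [map_neg, map_neg, ha.2]⟩

/-- Existence of `N` with `NChar`. -/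
theorem exists_nChar {U V W : Over S} (v : V ⟶ U) (p1 p2 : W ⟶ V) (hU : IsAffine U.left) (hp : p1 ≫ v = p2 ≫ v) :
    ∃ (N : Over S) (n : V ⟶ N) (ν : N ⟶ U), n ≫ ν = v ∧ NChar n ν p1 p2 := by
  let B := sub v.left.appTop p1.left.appTop p2.left.appTop
  let β : Γ(U.left, ⊤) ⟶ CommRingCat.of B := CommRingCat.ofHom
    (v.left.appTop.hom.codRestrict B fun x => ⟨RingHom.isIntegralElem_map _, by
      have := congrArg (fun k => k.left.appTop x) hp
      simpa using this⟩)
  let ι : CommRingCat.of B ⟶ Γ(V.left, ⊤) := CommRingCat.ofHom B.subtype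
  have hβι : β ≫ ι = v.left.appTop := rfl
  let ν₀ : Spec (CommRingCat.of B) ⟶ U.left := Spec.map β ≫ U.left.isoSpec.inv
  let n₀ : V.left ⟶ Spec (CommRingCat.of B) := V.left.toSpecΓ ≫ Spec.map ι
  have h0 : n₀ ≫ ν₀ = v.left := by
    have h2 : v.left ≫ U.left.toSpecΓ = V.left.toSpecΓ ≫ Spec.map v.left.appTop :=
      Scheme.toSpecΓ_naturality v.left
    have : U.left.toSpecΓ ≫ U.left.isoSpec.inv = 𝟙 _ := U.left.isoSpec.hom_inv_id
    rw [Category.assoc, ← Category.assoc (Spec.map ι), ← Spec.map_comp, hβι, ← Category.assoc, ← h2,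
      Category.assoc, this, Category.comp_id]
  let N : Over S := Over.mk (ν₀ ≫ U.hom)
  let ν : N ⟶ U := Over.homMk ν₀
  let n : V ⟶ N := Over.homMk n₀ (by
    change n₀ ≫ ν₀ ≫ U.hom = V.hom
    rw [← Category.assoc, h0, Over.w v])
  have hnν : n ≫ ν = v := by ext : 1; exact h0
  have hn : n.left.appTop = (Scheme.ΓSpecIso (CommRingCat.of B)).hom ≫ ι := by
    change n₀.appTop = _
    rw [Scheme.Hom.comp_appTop, Scheme.toSpecΓ_appTop, Scheme.ΓSpecIso_naturality]
  refine ⟨N, n, ν, hnν, ⟨inferInstanceAs (IsAffine (Spec _)), ?_, ?_, ?_, ?_⟩⟩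
  · have hβ : β.hom.IsIntegral := by
      intro b
      obtain ⟨P, hP, hP'⟩ := b.2.1
      refine ⟨P, hP, ?_⟩
      have hinj : Function.Injective B.subtype := Subtype.val_injective
      apply hinj
      rw [Polynomial.hom_eval₂, map_zero]
      exact hP'
    have : IsIntegralHom (Spec.map β) := IsIntegralHom.SpecMap_iff.2 hβ
    exact inferInstanceAs (IsIntegralHom (Spec.map β ≫ U.left.isoSpec.inv))
  · ext : 1
    have : IsAffine N.left := inferInstanceAs (IsAffine (Spec _))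
    apply ext_of_isAffine
    rw [Over.comp_left, Over.comp_left, Scheme.Hom.comp_appTop, Scheme.Hom.comp_appTop, hn, Category.assoc,
      Category.assoc]
    congr 1
    ext x
    exact x.2.2
  · rw [hn]
    have h1 : Function.Injective (Scheme.ΓSpecIso (CommRingCat.of B)).hom :=
      (ConcreteCategory.bijective_of_isIso _).1
    intro x y hxy
    exact h1 (Subtype.val_injective hxy)
  · intro x hx hx'
    rw [hnν] at hx
    have hxB : x ∈ B := ⟨hx, hx'⟩
    obtain ⟨y, hy⟩ := (ConcreteCategory.bijective_of_isIso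
      (Scheme.ΓSpecIso (CommRingCat.of B)).hom).2 (⟨x, hxB⟩ : B)
    refine ⟨y, ?_⟩
    rw [hn]
    exact congrArg Subtype.val hy

/-- A quasi-compact quasi-separated morphism to `X` has affine presentations over every affine `h_U ⟶ X`. -/
theorem exists_affCov_et {X Y : Sp S} {f : Y ⟶ X} (hqc : IsQuasiCompactMor f) (hqs : IsQuasiSeparatedMor f)
    {U : Over S} (hU : IsAffine U.left) {a : (yon S).obj U ⟶ X} {YU : Sp S} {y : YU ⟶ Y}
    {fU : YU ⟶ (yon S).obj U} (sq : IsPullback y fU f a) :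
    ∃ (V W : Over S) (q : (yon S).obj V ⟶ YU) (p1 p2 : W ⟶ V), AffCov q p1 p2 ∧ RepWith @Etale q := by
  have h1 : IsQuasiCompactSp ((yon S).obj U) := ⟨U, 𝟙 _, repWith_id _ U, repWith_id _ U, inferInstance⟩
  obtain ⟨V, q, hV, hq1, hq2⟩ := K609.QC.exists_affine_chart (hqc (IsAlgSpace.yon_obj U) h1 a y fU sq)
  obtain ⟨v, hv⟩ := (yon S).map_surjective (q ≫ fU)
  have sqVV := IsPullback.of_hasPullback v v
  let t : (yon S).obj (pullback v v) ⟶ pullback f f :=
    pullback.lift ((yon S).map (pullback.fst v v) ≫ q ≫ y) ((yon S).map (pullback.snd v v) ≫ q ≫ y) (by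
      rw [Category.assoc, Category.assoc, Category.assoc, Category.assoc, sq.w, ← Category.assoc q,
        ← hv, ← Category.assoc, ← Category.assoc, ← (yon S).map_comp, ← (yon S).map_comp, sqVV.w])
  have ht1 : t ≫ pullback.fst f f = (yon S).map (pullback.fst v v) ≫ q ≫ y := pullback.lift_fst _ _ _
  have ht2 : t ≫ pullback.snd f f = (yon S).map (pullback.snd v v) ≫ q ≫ y := pullback.lift_snd _ _ _
  obtain ⟨P, snd, fst, sqP⟩ := hqs.1 t
  have hsnd : QuasiCompact snd.left := hqs.2 t fst snd sqP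
  have hVV : IsAffine (pullback v v).left := Int.isAffine_of_isPullback sqVV hV hV hU
  have hPc : CompactSpace P.left := QuasiCompact.compactSpace_of_compactSpace snd.left
  obtain ⟨W₀, w₀, hw1, hw2, hW₀⟩ := Scheme.exists_hom_isAffine_of_isZariskiLocalAtSource @Etale P.left
  let W : Over S := Over.mk (w₀ ≫ P.hom)
  let w : W ⟶ P := Over.homMk w₀ rfl
  have hwe : RepWith @Etale ((yon S).map w) := (repWith_yon_map_iff _ _).2 hw2
  have hws : RepWith @Surjective ((yon S).map w) := (repWith_yon_map_iff _ _).2 hw1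
  refine ⟨V, W, q, w ≫ snd ≫ pullback.fst v v, w ≫ snd ≫ pullback.snd v v, ⟨hV, hW₀, ?_, ?_, ?_⟩, hq1⟩
  · have hd1 : pullback.diagonal f ≫ pullback.fst f f = 𝟙 _ := pullback.lift_fst _ _ _
    have hd2 : pullback.diagonal f ≫ pullback.snd f f = 𝟙 _ := pullback.lift_snd _ _ _
    apply sq.hom_ext
    · simp only [(yon S).map_comp, Category.assoc]
      rw [← ht1, ← ht2, ← Category.assoc ((yon S).map snd), ← Category.assoc ((yon S).map snd), ← sqP.w,
        Category.assoc, Category.assoc, hd1, hd2]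
    · rw [Category.assoc, Category.assoc, ← hv, ← (yon S).map_comp, ← (yon S).map_comp, Category.assoc,
        Category.assoc, Category.assoc, Category.assoc, sqVV.w]
  · intro T z
    obtain ⟨R, hR, H⟩ := Cov.exists_lift q hq1 hq2 T z
    refine ⟨R, hR, fun T' g hg => ?_⟩
    obtain ⟨x, hx⟩ := H T' g hg
    obtain ⟨x, rfl⟩ := (yon S).map_surjective x
    exact ⟨x, hx⟩
  · intro T x x' hx
    have hxv : x ≫ v = x' ≫ v := (yon S).map_injective (by
      rw [(yon S).map_comp, (yon S).map_comp, hv, ← Category.assoc, hx, Category.assoc])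
    let l : T ⟶ pullback v v := sqVV.lift x x' hxv
    have hl1 : l ≫ pullback.fst v v = x := sqVV.lift_fst _ _ _
    have hl2 : l ≫ pullback.snd v v = x' := sqVV.lift_snd _ _ _
    have hd1 : pullback.diagonal f ≫ pullback.fst f f = 𝟙 _ := pullback.lift_fst _ _ _
    have hd2 : pullback.diagonal f ≫ pullback.snd f f = 𝟙 _ := pullback.lift_snd _ _ _
    obtain ⟨m, hm⟩ := (yon S).map_surjective (sqP.lift ((yon S).map x ≫ q ≫ y) ((yon S).map l) (by
      apply pullback.hom_ext
      · rw [Category.assoc, hd1, Category.comp_id, Category.assoc, ht1, ← Category.assoc ((yon S).map l),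
          ← (yon S).map_comp, hl1]
      · rw [Category.assoc, hd2, Category.comp_id, Category.assoc, ht2, ← Category.assoc ((yon S).map l),
          ← (yon S).map_comp, hl2, ← Category.assoc, hx, Category.assoc]))
    have hm' : m ≫ snd = l := (yon S).map_injective (by
      rw [(yon S).map_comp, hm, sqP.lift_snd])
    obtain ⟨R, hR, H⟩ := Cov.exists_lift ((yon S).map w) hwe hws T ((yon S).map m)
    refine ⟨R, hR, fun T' g hg => ?_⟩
    obtain ⟨z, hz⟩ := H T' g hg
    obtain ⟨z, rfl⟩ := (yon S).map_surjective z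
    have hz' : z ≫ w = g ≫ m := (yon S).map_injective (by
      rw [(yon S).map_comp, hz, (yon S).map_comp])
    refine ⟨z, ?_, ?_⟩
    · rw [← Category.assoc, hz', Category.assoc, ← Category.assoc m, hm', hl1]
    · rw [← Category.assoc, hz', Category.assoc, ← Category.assoc m, hm', hl2]

theorem exists_affCov {X Y : Sp S} {f : Y ⟶ X} (hqc : IsQuasiCompactMor f) (hqs : IsQuasiSeparatedMor f)
    {U : Over S} (hU : IsAffine U.left) {a : (yon S).obj U ⟶ X} {YU : Sp S} {y : YU ⟶ Y}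
    {fU : YU ⟶ (yon S).obj U} (sq : IsPullback y fU f a) :
    ∃ (V W : Over S) (q : (yon S).obj V ⟶ YU) (p1 p2 : W ⟶ V), AffCov q p1 p2 := by
  obtain ⟨V, W, q, p1, p2, h, -⟩ := exists_affCov_et hqc hqs hU sq
  exact ⟨V, W, q, p1, p2, h⟩

/-- Existence of the relative normalization over an affine scheme mapping to `X`. -/
theorem exists_affine_et {X Y : Sp S} {f : Y ⟶ X} (hqc : IsQuasiCompactMor f) (hqs : IsQuasiSeparatedMor f)
    {U : Over S} (hU : IsAffine U.left) {a : (yon S).obj U ⟶ X} {YU : Sp S} {y : YU ⟶ Y}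
    {fU : YU ⟶ (yon S).obj U} (sq : IsPullback y fU f a) :
    ∃ (V W N : Over S) (q : (yon S).obj V ⟶ YU) (p1 p2 : W ⟶ V) (n : V ⟶ N) (ν : N ⟶ U)
      (g : YU ⟶ (yon S).obj N), AffCov q p1 p2 ∧ NChar n ν p1 p2 ∧ q ≫ fU = (yon S).map (n ≫ ν) ∧
        q ≫ g = (yon S).map n ∧ UNorm fU ((yon S).map ν) g ∧ RepWith @Etale q := by
  obtain ⟨V, W, q, p1, p2, hc, hq⟩ := exists_affCov_et hqc hqs hU sq
  obtain ⟨v, hv⟩ := (yon S).map_surjective (q ≫ fU)
  obtain ⟨N, n, ν, hnν, hN⟩ := exists_nChar v p1 p2 hU ((yon S).map_injective (by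
    rw [(yon S).map_comp, (yon S).map_comp, hv, ← Category.assoc, hc.w, Category.assoc]))
  obtain ⟨g, hg⟩ := hc.exists_desc ((yon S).map n) (by
    rw [← (yon S).map_comp, ← (yon S).map_comp, hN.eq])
  have hv' : q ≫ fU = (yon S).map (n ≫ ν) := by rw [hnν, hv]
  exact ⟨V, W, N, q, p1, p2, n, ν, g, hc, hN, hv', hg, of_nChar hN hU hc hv' hg, hq⟩

theorem exists_affine {X Y : Sp S} {f : Y ⟶ X} (hqc : IsQuasiCompactMor f) (hqs : IsQuasiSeparatedMor f)
    {U : Over S} (hU : IsAffine U.left) {a : (yon S).obj U ⟶ X} {YU : Sp S} {y : YU ⟶ Y}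
    {fU : YU ⟶ (yon S).obj U} (sq : IsPullback y fU f a) :
    ∃ (V W N : Over S) (q : (yon S).obj V ⟶ YU) (p1 p2 : W ⟶ V) (n : V ⟶ N) (ν : N ⟶ U)
      (g : YU ⟶ (yon S).obj N), AffCov q p1 p2 ∧ NChar n ν p1 p2 ∧ q ≫ fU = (yon S).map (n ≫ ν) ∧
        q ≫ g = (yon S).map n ∧ UNorm fU ((yon S).map ν) g := by
  obtain ⟨V, W, N, q, p1, p2, n, ν, g, h1, h2, h3, h4, h5, -⟩ := exists_affine_et hqc hqs hU sq
  exact ⟨V, W, N, q, p1, p2, n, ν, g, h1, h2, h3, h4, h5⟩

end K615.Exist
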