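import Groth.Agent.AlgSp.K627.FpqcPts
import Groth.Agent.AlgSp.K596.Univ
import Groth.Prelude.Def_Flat

/-!
# Universal homeomorphisms of algebraic spaces, representable case (helper615)
-/

set_option autoImplicit false
universe u v
open CategoryTheory CategoryTheory.Limits AlgebraicGeometry Opposite AlgSp

namespace K615.Homeo

variable {S : Scheme.{u}}

theorem isHomeomorph_yon_map_iff {T T' : Over S} (φ : T ⟶ T') :
    IsHomeomorph (Points.map ((yon S).map φ)) ↔ IsHomeomorph φ.left := by
  rw [Points.map_yon_map_eq]
  constructor
  · intro h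
    have h2 := (Points.schemeHomeo T').symm.isHomeomorph.comp (h.comp (Points.schemeHomeo T).isHomeomorph)
    convert h2 using 1
    ext x
    simp
  · intro h
    exact (Points.schemeHomeo T').isHomeomorph.comp (h.comp (Points.schemeHomeo T).symm.isHomeomorph)

theorem isHomeomorph_points_of_iso {F G : Sp S} (e : F ≅ G) : IsHomeomorph (Points.map e.hom) := by
  refine IsHomeomorph.mk (Points.continuous_map _) ?_ ?_
  · intro U hU
    have : Points.map e.hom '' U = Points.map e.inv ⁻¹' U := by
      ext x
      constructor
      · rintro ⟨y, hy, rfl⟩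
        rw [Set.mem_preimage, ← Points.map_comp, e.hom_inv_id, Points.map_id]
        exact hy
      · intro hx
        exact ⟨_, hx, by rw [← Points.map_comp, e.inv_hom_id, Points.map_id]⟩
    rw [this]
    exact hU.preimage (Points.continuous_map _)
  · constructor
    · intro x y hxy
      have := congrArg (Points.map e.inv) hxy
      rwa [← Points.map_comp, ← Points.map_comp, e.hom_inv_id, Points.map_id, Points.map_id] at this
    · intro y
      exact ⟨Points.map e.inv y, by rw [← Points.map_comp, e.inv_hom_id, Points.map_id]⟩

theorem repWith_isUnivHomeo_iff {F G : Sp S} {f : F ⟶ G} (hf : Representable f) :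
    RepWith FlatMor.IsUnivHomeo f ↔ IsUnivHomeoMor f := by
  constructor
  · intro h
    rw [K627.FpqcPts.isUnivHomeoMor_iff]
    intro Z hZ k P a b sq
    obtain ⟨V, snd, fst, sq'⟩ := h.1 k
    have h1 : FlatMor.IsUnivHomeo snd.left := h.2 k fst snd sq'
    have h2 : IsHomeomorph snd.left := h1 _ _ _ (IsPullback.id_vert _)
    have h3 := (isHomeomorph_yon_map_iff snd).2 h2
    have hb : b = (sq.isoIsPullback _ _ sq').hom ≫ (yon S).map snd := by simp
    have h4 := h3.comp (isHomeomorph_points_of_iso (sq.isoIsPullback _ _ sq'))
    rw [hb]
    convert h4 using 1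
    ext x
    exact Points.map_comp _ _ _
  · intro h
    refine K596.Univ.repWith_of_universally (Q := topologically (fun f => IsHomeomorph f)) hf ?_
    intro U V g fst snd sq
    exact (isHomeomorph_yon_map_iff snd).1 (h (IsAlgSpace.yon_obj _) g fst _ sq)

end K615.Homeo
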