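import Groth.Agent.AlgSp.K615.RelNorm
import Groth.Agent.AlgSp.K638.RedSp
import Groth.Agent.S0573
import Groth.Agent.Ega4B.NagBasic

/-!
# Finiteness of relative normalizations over Nagata algebraic spaces (helper615)
-/

set_option autoImplicit false
universe u v
open CategoryTheory CategoryTheory.Limits AlgebraicGeometry Opposite AlgSp

namespace K615.Nagata

open K615.Norm K615.Aff K615.UN K615.Desc

variable {S : Scheme.{u}}

theorem finite_of_chart {U V N : Over S} {n : V ⟶ N} {ν : N ⟶ U} (hU : IsAffine U.left) (hV : IsAffine V.left)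
    (hN : IsAffine N.left) (hi : IsIntegralHom ν.left) (hinj : Function.Injective n.left.appTop)
    (hA : CAlg.IsNagata Γ(U.left, ⊤)) (hft : LocallyOfFiniteType (n ≫ ν).left) (hred : IsReduced V.left) :
    IsFinite ν.left := by
  rw [HasAffineProperty.iff_of_isAffine (P := @IsFinite)]
  refine ⟨hN, ?_⟩
  have h1 : (n ≫ ν).left.appTop.hom.FiniteType :=
    (HasRingHomProperty.iff_of_isAffine (P := @LocallyOfFiniteType)).1 hft
  have h2 : ν.left.appTop.hom.IsIntegral := by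
    have := (HasAffineProperty.iff_of_isAffine (P := @IsIntegralHom)).1 hi
    exact this.2
  algebraize [ν.left.appTop.hom, (n ≫ ν).left.appTop.hom, n.left.appTop.hom]
  have : IsScalarTower Γ(U.left, ⊤) Γ(N.left, ⊤) Γ(V.left, ⊤) := .of_algebraMap_eq' (by
    simp only [RingHom.algebraMap_toAlgebra]
    rw [← CommRingCat.hom_comp, ← Scheme.Hom.comp_appTop]
    rfl)
  have h3 : Module.Finite Γ(U.left, ⊤) (integralClosure Γ(U.left, ⊤) Γ(V.left, ⊤)) :=
    Groth.Agent.S0573.result _ hA _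
  have h4 : IsNoetherianRing Γ(U.left, ⊤) := hA.1
  let φ : Γ(N.left, ⊤) →ₗ[Γ(U.left, ⊤)] integralClosure Γ(U.left, ⊤) Γ(V.left, ⊤) :=
    { toFun := fun x => ⟨algebraMap _ Γ(V.left, ⊤) x,
        IsIntegral.algebraMap (R := Γ(U.left, ⊤)) (B := Γ(V.left, ⊤)) (h2 x)⟩
      map_add' := fun x y => Subtype.ext (map_add _ _ _)
      map_smul' := fun r x => Subtype.ext (by
        change algebraMap _ _ (r • x) = r • algebraMap _ _ x
        rw [Algebra.smul_def, map_mul, Algebra.smul_def, ← IsScalarTower.algebraMap_apply]) }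
  have hφ : Function.Injective φ := fun x y h => hinj (congrArg Subtype.val h)
  exact Module.Finite.of_injective φ hφ

/-- Local version of the finiteness theorem. -/
theorem finite_chart {X Y : Sp S} {f : X ⟶ Y} (hqc : IsQuasiCompactMor f) (hqs : IsQuasiSeparatedMor f)
    (hlft : LocP @LocallyOfFiniteType f) (hX : EtaleLocally (fun U => IsReduced U) X) {U : Over S}
    (hU : IsAffine U.left) {a : (yon S).obj U ⟶ Y} (ha : RepWith @Etale a) (hA : CAlg.IsNagata Γ(U.left, ⊤))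
    {XU : Sp S} {x : XU ⟶ X} {fU : XU ⟶ (yon S).obj U} (sq : IsPullback x fU f a) :
    ∃ (N : Over S) (ν : N ⟶ U) (g : XU ⟶ (yon S).obj N), IsFinite ν.left ∧ UNorm fU ((yon S).map ν) g := by
  obtain ⟨V, W, N, q, p1, p2, n, ν, g, hc, hN, h3, h4, h5, hq⟩ := Exist.exists_affine_et hqc hqs hU sq
  have hx : RepWith @Etale (q ≫ x) :=
    MorphismProperty.comp_mem _ _ _ hq (MorphismProperty.of_isPullback sq.flip ha)
  have hred : IsReduced V.left := K638.RedSp.isReduced_of_etaleLocally hX hx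
  have hft : LocallyOfFiniteType (n ≫ ν).left := hlft (q ≫ x) a (n ≫ ν) hx ha (by
    rw [Category.assoc, sq.w, ← Category.assoc, h3])
  exact ⟨N, ν, g, finite_of_chart hU hc.affV hN.affN hN.integral hN.inj hA hft hred, h5⟩

theorem finite {X Y Y' : Sp S} (hY : IsAlgSpace Y) (hY' : IsAlgSpace Y') {f : X ⟶ Y}
    (hN : EtaleLocally (fun U => ∀ V : U.Opens, IsAffineOpen V → CAlg.IsNagata ↑Γ(U, V)) Y)
    (hqs : IsQuasiSeparatedMor f) (hft : IsFiniteTypeMor f)
    (hX : EtaleLocally (fun U => IsReduced U) X) {ν : Y' ⟶ Y} {f' : X ⟶ Y'}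
    (hn : IsRelNormalization f ν f') : IsFiniteMor ν := by
  obtain ⟨X₁, ν₁, f₁, hX₁, h⟩ := RelNorm.exists_uNorm hY hft.2 hqs
  have hun : UNorm f ν f' := h.of_isRel hY hX₁ hY' hn
  obtain ⟨U, p, hp1, hp2, hU⟩ := hN
  let a : ∀ W : U.left.affineOpens, (yon S).obj (Cov.opn U W.1) ⟶ Y := fun W => (yon S).map (Cov.opnι U W.1) ≫ p
  have ha : ∀ W, RepWith @Etale (a W) := fun W => Cov.repWith_etale_comp _ p hp1
  have hcov : ∀ x : Points Y, ∃ W, x ∈ Set.range (Points.map (a W)) := by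
    intro x
    obtain ⟨u, rfl⟩ := K610.Base.surjective_ofPt hp2 x
    obtain ⟨_, ⟨W, hW, rfl⟩, hu, -⟩ := U.left.isBasis_affineOpens.exists_subset_of_mem_open
      (Set.mem_univ u) isOpen_univ
    refine ⟨⟨W, hW⟩, Points.ofScheme (Cov.opn U W) ⟨u, hu⟩, ?_⟩
    rw [← Points.ofPt_eq_map_ofScheme, K610.Base.ofPt_map_comp]
    rfl
  refine K617.FinLoc.finite_family ha hcov (fun W => IsPullback.of_hasPullback ν (a W)) fun W => ?_
  have hW : IsAffine (Cov.opn U W.1).left := W.2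
  have hA : CAlg.IsNagata Γ((Cov.opn U W.1).left, ⊤) := by
    have e : Γ((Cov.opn U W.1).left, ⊤) ≅ Γ(U.left, W.1) := W.1.topIso
    exact Groth.Agent.Ega4B.NagBasic.isNagata_of_ringEquiv e.symm.commRingCatIsoToRingEquiv (hU W.1 W.2)
  obtain ⟨YU, NU, y, fU, n, νU, g, sqY, sqN, hg, hg'⟩ := exists_chart hun.w (a W)
  have hrel := hun.charts _ (a W) hW (ha W) _ _ _ _ _ sqY sqN hg hg'
  obtain ⟨N, μ, g', hμ, hun'⟩ := finite_chart hft.2 hqs hft.1 hX hW (ha W) hA sqY
  have hrel' := hun'.isRel (IsAlgSpace.yon_obj _)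
  obtain ⟨e, he1, he2⟩ := exists_iso (isAlgSpace_of_integral hrel.2.1 (IsAlgSpace.yon_obj _))
    (IsAlgSpace.yon_obj _) hrel hrel'
  have h1 : RepWith @IsFinite ((yon S).map μ) := (repWith_yon_map_iff _ _).2 hμ
  let d := (IsPullback.of_hasPullback ν (a W)).isoIsPullback _ _ sqN
  have hd : pullback.snd ν (a W) = (d.hom ≫ e.hom) ≫ (yon S).map μ := by
    rw [Category.assoc, he2]
    exact (IsPullback.isoIsPullback_hom_snd _ _ _ _).symm
  rw [hd]
  exact K617.FinLoc.isFiniteMor_iff.2 ((MorphismProperty.cancel_left_of_respectsIso (RepWith @IsFinite) _ _).2 h1)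

end K615.Nagata
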