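import Groth.Agent.AlgSp.K615.Int

/-!
# Relative normalization: the local-to-global principle (helper615)

`LNorm f ν f' a`: after base change along `a : U ⟶ X` the factorisation `Y ⟶ X' ⟶ X` is a relative normalization.
`isRelNormalization_of_charts`: if this holds for a jointly locally surjective family of affine charts whose pairwise overlaps
are covered by such charts, then the factorisation is a relative normalization.
-/

set_option autoImplicit false
universe u v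
open CategoryTheory CategoryTheory.Limits AlgebraicGeometry Opposite AlgSp

namespace K615.Norm

variable {S : Scheme.{u}}

section Chart

variable {U : Over S} {YU NU : Sp S} {fU : YU ⟶ (yon S).obj U} {νU : NU ⟶ (yon S).obj U} {g : YU ⟶ NU}

/-- Uniqueness of maps from a relative normalization over an affine chart to anything integral over `X`. -/
theorem chart_uniq (hU : IsAffine U.left) (hn : IsRelNormalization fU νU g) {X Z : Sp S} {π : Z ⟶ X}
    (hπ : IsIntegralMor π) (a : (yon S).obj U ⟶ X) (k k' : NU ⟶ Z) (h1 : k ≫ π = νU ≫ a)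
    (h2 : k' ≫ π = νU ≫ a) (h3 : g ≫ k = g ≫ k') : k = k' := by
  obtain ⟨M, μ, m, sq, hM, hμ⟩ := hπ hU a
  have hu := hn.2.2 (IsAlgSpace.yon_obj M) ((yon S).map μ)
    (g ≫ sq.lift k νU h1) (Int.yon_map μ hμ) (by
      rw [Category.assoc, sq.lift_snd, hn.1])
  have := hu.unique (y₁ := sq.lift k νU h1) (y₂ := sq.lift k' νU h2) ⟨rfl, sq.lift_snd _ _ _⟩
    ⟨by
      apply sq.hom_ext
      · rw [Category.assoc, Category.assoc, sq.lift_fst, sq.lift_fst, h3]
      · rw [Category.assoc, Category.assoc, sq.lift_snd, sq.lift_snd], sq.lift_snd _ _ _⟩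
  rw [← sq.lift_fst k νU h1, this, sq.lift_fst]

/-- Existence of maps from a relative normalization over an affine chart to anything integral over `X`. -/
theorem chart_exists (hU : IsAffine U.left) (hn : IsRelNormalization fU νU g) {X Z : Sp S} {π : Z ⟶ X}
    (hπ : IsIntegralMor π) (a : (yon S).obj U ⟶ X) (k : YU ⟶ Z) (h1 : k ≫ π = fU ≫ a) :
    ∃ h : NU ⟶ Z, g ≫ h = k ∧ h ≫ π = νU ≫ a := by
  obtain ⟨M, μ, m, sq, hM, hμ⟩ := hπ hU a
  obtain ⟨h, ⟨hh1, hh2⟩, -⟩ := hn.2.2 (IsAlgSpace.yon_obj M) ((yon S).map μ)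
    (sq.lift k fU h1) (Int.yon_map μ hμ) (sq.lift_snd _ _ _)
  refine ⟨h ≫ m, ?_, ?_⟩
  · rw [← Category.assoc, hh1, sq.lift_fst]
  · rw [Category.assoc, sq.w, ← Category.assoc, hh2]

end Chart

section LNorm

variable {X Y X' : Sp S} (f : Y ⟶ X) (ν : X' ⟶ X) (f' : Y ⟶ X')

/-- After base change along `a : U ⟶ X`, the factorisation `Y ⟶ X' ⟶ X` is a relative normalization. -/
def LNorm {U : Sp S} (a : U ⟶ X) : Prop :=
  ∀ ⦃YU NU : Sp S⦄ (y : YU ⟶ Y) (fU : YU ⟶ U) (n : NU ⟶ X') (νU : NU ⟶ U) (g : YU ⟶ NU),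
    IsPullback y fU f a → IsPullback n νU ν a → g ≫ νU = fU → g ≫ n = y ≫ f' → IsRelNormalization fU νU g

variable {f ν f'}

theorem isRelNormalization_of_iso {Y₁ Y₂ N₁ N₂ U : Sp S} {f₁ : Y₁ ⟶ U} {f₂ : Y₂ ⟶ U} {ν₁ : N₁ ⟶ U}
    {ν₂ : N₂ ⟶ U} {g₁ : Y₁ ⟶ N₁} {g₂ : Y₂ ⟶ N₂} (e : Y₁ ≅ Y₂) (d : N₁ ≅ N₂) (he : e.hom ≫ f₂ = f₁)
    (hd : d.hom ≫ ν₂ = ν₁) (hg : g₁ ≫ d.hom = e.hom ≫ g₂) (h : IsRelNormalization f₁ ν₁ g₁) :
    IsRelNormalization f₂ ν₂ g₂ := by
  obtain ⟨h1, h2, h3⟩ := h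
  have hd' : d.inv ≫ ν₁ = ν₂ := by rw [← hd, Iso.inv_hom_id_assoc]
  have hg' : g₂ ≫ d.inv = e.inv ≫ g₁ := by
    rw [Iso.comp_inv_eq, Category.assoc, hg, Iso.inv_hom_id_assoc]
  refine ⟨?_, ?_, ?_⟩
  · rw [← hd', ← Category.assoc, hg', Category.assoc, h1, ← he, Iso.inv_hom_id_assoc]
  · rw [← hd']; exact Int.iso_comp _ _ h2
  · intro Z hZ π k hπ hk
    obtain ⟨h, ⟨hh1, hh2⟩, hu⟩ := h3 hZ π (e.hom ≫ k) hπ (by rw [Category.assoc, hk, he])
    refine ⟨d.inv ≫ h, ⟨?_, ?_⟩, ?_⟩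
    · rw [← Category.assoc, hg', Category.assoc, hh1, Iso.inv_hom_id_assoc]
    · rw [Category.assoc, hh2, hd']
    · intro h' ⟨ha, hb⟩
      rw [Iso.eq_inv_comp]
      refine hu _ ⟨?_, ?_⟩
      · rw [← Category.assoc, hg, Category.assoc, ha]
      · rw [Category.assoc, hb, hd]

/-- It is enough to test `LNorm` on one choice of the pullbacks. -/
theorem LNorm.of_one {U : Sp S} {a : U ⟶ X} {YU NU : Sp S} {y : YU ⟶ Y} {fU : YU ⟶ U} {n : NU ⟶ X'}
    {νU : NU ⟶ U} {g : YU ⟶ NU} (sqY : IsPullback y fU f a) (sqN : IsPullback n νU ν a)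
    (hg : g ≫ νU = fU) (hg' : g ≫ n = y ≫ f') (h : IsRelNormalization fU νU g) : LNorm f ν f' a := by
  intro YU' NU' y' fU' n' νU' g' sqY' sqN' h1 h2
  refine isRelNormalization_of_iso (sqY.isoIsPullback _ _ sqY') (sqN.isoIsPullback _ _ sqN')
    (by simp) (by simp) ?_ h
  apply sqN'.hom_ext
  · rw [Category.assoc, Category.assoc, IsPullback.isoIsPullback_hom_fst, hg', h2, ← Category.assoc,
      IsPullback.isoIsPullback_hom_fst]
  · rw [Category.assoc, Category.assoc, IsPullback.isoIsPullback_hom_snd, hg, h1,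
      IsPullback.isoIsPullback_hom_snd]

/-- `LNorm` along `e ≫ a` is `LNorm` along `e` of the base change along `a`. -/
theorem LNorm.of_comp {U W : Sp S} {a : U ⟶ X} {YU NU : Sp S} {y : YU ⟶ Y} {fU : YU ⟶ U} {n : NU ⟶ X'}
    {νU : NU ⟶ U} {g : YU ⟶ NU} (sqY : IsPullback y fU f a) (sqN : IsPullback n νU ν a)
    (hg' : g ≫ n = y ≫ f') (e : W ⟶ U) (h : LNorm f ν f' (e ≫ a)) :
    LNorm fU νU g e := by
  intro YW NW yW fW nW νW gW sq1 sq2 h1 h2
  refine h (yW ≫ y) fW (nW ≫ n) νW gW (sq1.paste_horiz sqY) (sq2.paste_horiz sqN) h1 ?_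
  rw [← Category.assoc, h2, Category.assoc, Category.assoc, hg']

theorem LNorm.comp {U W : Sp S} {a : U ⟶ X} {YU NU : Sp S} {y : YU ⟶ Y} {fU : YU ⟶ U} {n : NU ⟶ X'}
    {νU : NU ⟶ U} {g : YU ⟶ NU} (sqY : IsPullback y fU f a) (sqN : IsPullback n νU ν a)
    (hg : g ≫ νU = fU) (hg' : g ≫ n = y ≫ f') (e : W ⟶ U) (h : LNorm fU νU g e) :
    LNorm f ν f' (e ≫ a) := by
  intro YW NW yW fW nW νW gW sq1 sq2 h1 h2
  refine h (sqY.lift yW (fW ≫ e) (by rw [sq1.w, Category.assoc])) fW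
    (sqN.lift nW (νW ≫ e) (by rw [sq2.w, Category.assoc])) νW gW (IsPullback.of_right' sq1 sqY)
    (IsPullback.of_right' sq2 sqN) h1 ?_
  apply sqN.hom_ext
  · rw [Category.assoc, sqN.lift_fst, h2, Category.assoc, hg', ← Category.assoc, sqY.lift_fst]
  · rw [Category.assoc, sqN.lift_snd, Category.assoc, hg, sqY.lift_snd, ← Category.assoc, h1]

theorem LNorm.isRel {U : Sp S} {a : U ⟶ X} (h : LNorm f ν f' a) {YU NU : Sp S} {y : YU ⟶ Y} {fU : YU ⟶ U}
    {n : NU ⟶ X'} {νU : NU ⟶ U} {g : YU ⟶ NU} (sqY : IsPullback y fU f a) (sqN : IsPullback n νU ν a)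
    (hg : g ≫ νU = fU) (hg' : g ≫ n = y ≫ f') : IsRelNormalization fU νU g := h _ _ _ _ _ sqY sqN hg hg'

end LNorm

section LocalToGlobal

variable {X Y X' : Sp S} {f : Y ⟶ X} {ν : X' ⟶ X} {f' : Y ⟶ X'}

/-- The induced map between the chosen pullbacks. -/
theorem exists_chart (w : f' ≫ ν = f) {U : Sp S} (a : U ⟶ X) :
    ∃ (YU NU : Sp S) (y : YU ⟶ Y) (fU : YU ⟶ U) (n : NU ⟶ X') (νU : NU ⟶ U) (g : YU ⟶ NU),
      IsPullback y fU f a ∧ IsPullback n νU ν a ∧ g ≫ νU = fU ∧ g ≫ n = y ≫ f' := by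
  have sqY := IsPullback.of_hasPullback f a
  have sqN := IsPullback.of_hasPullback ν a
  refine ⟨_, _, _, _, _, _, sqN.lift (pullback.fst f a ≫ f') (pullback.snd f a) (by
    rw [Category.assoc, w, sqY.w]), sqY, sqN, sqN.lift_snd _ _ _, sqN.lift_fst _ _ _⟩

/-- Local-to-global principle, uniqueness part. -/
theorem eq_of_charts (w : f' ≫ ν = f) {ι : Type v} {U : ι → Over S} (hU : ∀ i, IsAffine (U i).left)
    {a : ∀ i, (yon S).obj (U i) ⟶ X} (ha : Pt.JSurj (fun i => (yon S).obj (U i)) a)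
    (hL : ∀ i, LNorm f ν f' (a i)) {Z : Sp S} {π : Z ⟶ X} (hπ : IsIntegralMor π) (h h' : X' ⟶ Z)
    (h1 : h ≫ π = ν) (h2 : h' ≫ π = ν) (h3 : f' ≫ h = f' ≫ h') : h = h' := by
  choose YU NU y fU n νU g sqY sqN hg hg' using fun i => exists_chart w (a i)
  refine (ha.of_isPullback ν NU n νU sqN).ext fun i => ?_
  refine chart_uniq (hU i) ((hL i).isRel (sqY i) (sqN i) (hg i) (hg' i)) hπ (a i) _ _ ?_ ?_ ?_
  · rw [Category.assoc, h1, (sqN i).w]
  · rw [Category.assoc, h2, (sqN i).w]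
  · rw [← Category.assoc, ← Category.assoc, hg' i, Category.assoc, Category.assoc, h3]

/-- **Local-to-global principle** for relative normalizations. -/
theorem isRelNormalization_of_charts (w : f' ≫ ν = f) (hν : IsIntegralMor ν) {ι : Type v} {U : ι → Over S}
    (hU : ∀ i, IsAffine (U i).left)
    {a : ∀ i, (yon S).obj (U i) ⟶ X} (ha : Pt.JSurj (fun i => (yon S).obj (U i)) a)
    (hL : ∀ i, LNorm f ν f' (a i))
    (href : ∀ (i j : ι) (T : Over S) (u : (yon S).obj T ⟶ (yon S).obj (U i))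
      (u' : (yon S).obj T ⟶ (yon S).obj (U j)), u ≫ a i = u' ≫ a j → ∃ R ∈ J S T,
        ∀ (T' : Over S) (k : T' ⟶ T), R k → ∃ (W : Over S) (e : (yon S).obj W ⟶ (yon S).obj (U i))
          (e' : (yon S).obj W ⟶ (yon S).obj (U j)) (t : (yon S).obj T' ⟶ (yon S).obj W),
            IsAffine W.left ∧ e ≫ a i = e' ≫ a j ∧ LNorm f ν f' (e ≫ a i) ∧
            t ≫ e = (yon S).map k ≫ u ∧ t ≫ e' = (yon S).map k ≫ u') :
    IsRelNormalization f ν f' := by
  refine ⟨w, hν, fun Z hZ π k hπ hk => ?_⟩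
  refine existsUnique_of_exists_of_unique ?_ fun h h' hh hh' =>
    eq_of_charts w hU ha hL hπ h h' hh.2 hh'.2 (hh.1.trans hh'.1.symm)
  choose YU NU y fU n νU g sqY sqN hg hg' using fun i => exists_chart w (a i)
  have hn : Pt.JSurj NU n := ha.of_isPullback ν NU n νU sqN
  have hy : Pt.JSurj YU y := ha.of_isPullback f YU y fU sqY
  choose h hh1 hh2 using fun i => chart_exists (hU i) ((hL i).isRel (sqY i) (sqN i) (hg i) (hg' i)) hπ (a i)
    (y i ≫ k) (by rw [Category.assoc, hk, (sqY i).w])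
  obtain ⟨m, hm⟩ := hn.exists_desc h (by
    intro T i j t t' ht
    obtain ⟨R, hR, H⟩ := href i j T (t ≫ νU i) (t' ≫ νU j) (by
      rw [Category.assoc, Category.assoc, ← (sqN i).w, ← (sqN j).w, ← Category.assoc, ht, Category.assoc])
    apply Pt.pt_ext R hR
    intro T' l hl
    obtain ⟨W, e, e', tw, hW, hab, hLW, h1, h2⟩ := H T' l hl
    obtain ⟨YW, NW, yW, fW, nW, νW, gW, sqYW, sqNW, hgW, hgW'⟩ := exists_chart w (e ≫ a i)
    -- the maps from the chart `W` to the charts `i`, `j`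
    let E : NW ⟶ NU i := (sqN i).lift nW (νW ≫ e) (by rw [sqNW.w, Category.assoc])
    let E' : NW ⟶ NU j := (sqN j).lift nW (νW ≫ e') (by rw [sqNW.w, Category.assoc, hab])
    have hE1 : E ≫ n i = nW := (sqN i).lift_fst _ _ _
    have hE2 : E ≫ νU i = νW ≫ e := (sqN i).lift_snd _ _ _
    have hE'1 : E' ≫ n j = nW := (sqN j).lift_fst _ _ _
    have hE'2 : E' ≫ νU j = νW ≫ e' := (sqN j).lift_snd _ _ _
    let F : YW ⟶ YU i := (sqY i).lift yW (fW ≫ e) (by rw [sqYW.w, Category.assoc])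
    let F' : YW ⟶ YU j := (sqY j).lift yW (fW ≫ e') (by rw [sqYW.w, Category.assoc, hab])
    have hF1 : F ≫ y i = yW := (sqY i).lift_fst _ _ _
    have hF2 : F ≫ fU i = fW ≫ e := (sqY i).lift_snd _ _ _
    have hF'1 : F' ≫ y j = yW := (sqY j).lift_fst _ _ _
    have hF'2 : F' ≫ fU j = fW ≫ e' := (sqY j).lift_snd _ _ _
    -- the point of `NW`
    let p : (yon S).obj T' ⟶ NW := sqNW.lift ((yon S).map l ≫ t ≫ n i) tw (by
      rw [Category.assoc, Category.assoc, (sqN i).w, ← Category.assoc, ← Category.assoc,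
        Category.assoc ((yon S).map l), ← h1, Category.assoc])
    have hp1 : p ≫ nW = (yon S).map l ≫ t ≫ n i := sqNW.lift_fst _ _ _
    have hp2 : p ≫ νW = tw := sqNW.lift_snd _ _ _
    have hpE : p ≫ E = (yon S).map l ≫ t := by
      apply (sqN i).hom_ext
      · rw [Category.assoc, hE1, hp1, Category.assoc]
      · rw [Category.assoc, hE2, ← Category.assoc, hp2, h1, Category.assoc]
    have hpE' : p ≫ E' = (yon S).map l ≫ t' := by
      apply (sqN j).hom_ext
      · rw [Category.assoc, hE'1, hp1, ht, Category.assoc]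
      · rw [Category.assoc, hE'2, ← Category.assoc, hp2, h2, Category.assoc]
    rw [← Category.assoc, ← Category.assoc, ← hpE, ← hpE', Category.assoc, Category.assoc]
    congr 1
    refine chart_uniq hW (hLW.isRel sqYW sqNW hgW hgW') hπ (e ≫ a i) _ _ ?_ ?_ ?_
    · rw [Category.assoc, hh2, ← Category.assoc, hE2, Category.assoc]
    · rw [Category.assoc, hh2, ← Category.assoc, hE'2, Category.assoc, hab]
    · have e1 : gW ≫ E = F ≫ g i := by
        apply (sqN i).hom_ext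
        · rw [Category.assoc, hE1, hgW', Category.assoc, hg' i, ← Category.assoc, hF1]
        · rw [Category.assoc, hE2, ← Category.assoc, hgW, Category.assoc, hg i, hF2]
      have e2 : gW ≫ E' = F' ≫ g j := by
        apply (sqN j).hom_ext
        · rw [Category.assoc, hE'1, hgW', Category.assoc, hg' j, ← Category.assoc, hF'1]
        · rw [Category.assoc, hE'2, ← Category.assoc, hgW, Category.assoc, hg j, hF'2]
      rw [← Category.assoc, ← Category.assoc, e1, e2, Category.assoc, Category.assoc, hh1, hh1,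
        ← Category.assoc, ← Category.assoc, hF1, hF'1])
  refine ⟨m, ?_, ?_⟩
  · apply hy.ext
    intro i
    rw [← Category.assoc, ← hg' i, Category.assoc, hm, hh1]
  · apply hn.ext
    intro i
    rw [← Category.assoc, hm, hh2, (sqN i).w]

end LocalToGlobal

end K615.Norm
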