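import Groth.Prelude.Def_AlgSpMor5

/-!
# `T`-points of fppf sheaves as morphisms `h_T ⟶ F` (helper615)

Working with sheaves in `AlgSp.Sp S` through their `T`-points, written as morphisms `(yon S).obj T ⟶ F`:
extensionality, construction of morphisms, local equality, glueing, jointly locally surjective families
(`JSurj`) and descent of morphisms along them.
-/

set_option autoImplicit false
universe u v
open CategoryTheory CategoryTheory.Limits AlgebraicGeometry Opposite AlgSp

namespace K615.Pt

variable {S : Scheme.{u}}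

/-- Two morphisms of sheaves agree if they agree on all `T`-points. -/
theorem hom_ext {F G : Sp S} (f g : F ⟶ G)
    (h : ∀ (T : Over S) (x : (yon S).obj T ⟶ F), x ≫ f = x ≫ g) : f = g := by
  apply Sheaf.hom_ext
  ext T x
  have := congrArg ((J S).uliftYonedaEquiv) (h T.unop ((J S).uliftYonedaEquiv.symm x))
  rw [GrothendieckTopology.uliftYonedaEquiv_comp, GrothendieckTopology.uliftYonedaEquiv_comp,
    Equiv.apply_symm_apply] at this
  exact this

/-- A natural family of maps on `T`-points defines a morphism of sheaves. -/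
noncomputable def homOfPt {F G : Sp S}
    (φ : ∀ T : Over S, ((yon S).obj T ⟶ F) → ((yon S).obj T ⟶ G))
    (hφ : ∀ (T T' : Over S) (g : T' ⟶ T) (x : (yon S).obj T ⟶ F),
      φ T' ((yon S).map g ≫ x) = (yon S).map g ≫ φ T x) : F ⟶ G :=
  ⟨{ app := fun T => TypeCat.ofHom fun x => (J S).uliftYonedaEquiv (φ T.unop ((J S).uliftYonedaEquiv.symm x))
     naturality := by
      intro T T' g
      ext x
      change (J S).uliftYonedaEquiv (φ T'.unop ((J S).uliftYonedaEquiv.symm (F.obj.map g x))) =
        G.obj.map g ((J S).uliftYonedaEquiv (φ T.unop ((J S).uliftYonedaEquiv.symm x)))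
      rw [GrothendieckTopology.uliftYonedaEquiv_symm_map, hφ,
        GrothendieckTopology.uliftYonedaEquiv_naturality'] }⟩

theorem comp_homOfPt {F G : Sp S}
    (φ : ∀ T : Over S, ((yon S).obj T ⟶ F) → ((yon S).obj T ⟶ G))
    (hφ : ∀ (T T' : Over S) (g : T' ⟶ T) (x : (yon S).obj T ⟶ F),
      φ T' ((yon S).map g ≫ x) = (yon S).map g ≫ φ T x) (T : Over S) (x : (yon S).obj T ⟶ F) :
    x ≫ homOfPt φ hφ = φ T x := by
  apply (J S).uliftYonedaEquiv.injective
  rw [GrothendieckTopology.uliftYonedaEquiv_comp]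
  change (J S).uliftYonedaEquiv (φ T ((J S).uliftYonedaEquiv.symm _)) = _
  rw [Equiv.symm_apply_apply]

/-- `T`-points of a sheaf that agree on a covering sieve are equal. -/
theorem pt_ext {F : Sp S} {T : Over S} (R : Sieve T) (hR : R ∈ J S T) (x y : (yon S).obj T ⟶ F)
    (h : ∀ (T' : Over S) (g : T' ⟶ T), R g → (yon S).map g ≫ x = (yon S).map g ≫ y) : x = y := by
  apply (J S).uliftYonedaEquiv.injective
  refine (F.property.isSheafFor R hR).isSeparatedFor.ext ?_
  intro T' g hg
  have := congrArg ((J S).uliftYonedaEquiv) (h T' g hg)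
  rw [← GrothendieckTopology.uliftYonedaEquiv_naturality,
    ← GrothendieckTopology.uliftYonedaEquiv_naturality] at this
  exact this

/-- Glueing of `T`-points along a covering sieve (compatibility in the sieve form). -/
theorem exists_glue {F : Sp S} {T : Over S} (R : Sieve T) (hR : R ∈ J S T)
    (x : ∀ (T' : Over S) (g : T' ⟶ T), R g → ((yon S).obj T' ⟶ F))
    (hx : ∀ (T' T'' : Over S) (g : T' ⟶ T) (k : T'' ⟶ T') (hg : R g),
      x T'' (k ≫ g) (R.downward_closed hg k) = (yon S).map k ≫ x T' g hg) :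
    ∃ y : (yon S).obj T ⟶ F, ∀ (T' : Over S) (g : T' ⟶ T) (hg : R g),
      (yon S).map g ≫ y = x T' g hg := by
  have hF := F.property.isSheafFor R hR
  let fam : Presieve.FamilyOfElements F.obj (R : Presieve T) :=
    fun T' g hg => (J S).uliftYonedaEquiv (x T' g hg)
  have hfam : fam.Compatible := by
    rw [Presieve.compatible_iff_sieveCompatible]
    intro T' T'' g k hg
    change (J S).uliftYonedaEquiv (x T'' (k ≫ g) _) = F.obj.map k.op ((J S).uliftYonedaEquiv (x T' g hg))
    rw [hx, GrothendieckTopology.uliftYonedaEquiv_naturality]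
  obtain ⟨y, hy, -⟩ := hF fam hfam
  refine ⟨(J S).uliftYonedaEquiv.symm y, fun T' g hg => ?_⟩
  apply (J S).uliftYonedaEquiv.injective
  rw [← GrothendieckTopology.uliftYonedaEquiv_naturality, Equiv.apply_symm_apply]
  exact hy g hg

/-- A morphism `F ⟶ G` of sheaves is an isomorphism if it is bijective on `T`-points. -/
theorem isIso_of_bijective {F G : Sp S} (f : F ⟶ G)
    (h : ∀ T : Over S, Function.Bijective fun x : (yon S).obj T ⟶ F => x ≫ f) : IsIso f := by
  let e : ∀ T : Over S, ((yon S).obj T ⟶ F) ≃ ((yon S).obj T ⟶ G) := fun T => Equiv.ofBijective _ (h T)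
  have he : ∀ T x, e T x = x ≫ f := fun T x => rfl
  have hφ : ∀ (T T' : Over S) (g : T' ⟶ T) (x : (yon S).obj T ⟶ G),
      (e T').symm ((yon S).map g ≫ x) = (yon S).map g ≫ (e T).symm x := by
    intro T T' g x
    apply (e T').injective
    rw [Equiv.apply_symm_apply, he, Category.assoc, ← he, Equiv.apply_symm_apply]
  refine ⟨homOfPt (fun T => (e T).symm) hφ, ?_, ?_⟩
  · apply hom_ext
    intro T x
    rw [← Category.assoc, comp_homOfPt, ← he, Equiv.symm_apply_apply, Category.comp_id]
  · apply hom_ext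
    intro T x
    rw [← Category.assoc, comp_homOfPt, ← he, Equiv.apply_symm_apply, Category.comp_id]

/-- A square of sheaves is a pullback square as soon as it is one on `T`-points. -/
theorem isPullback_of_pt {P X Y Z : Sp S} {fst : P ⟶ X} {snd : P ⟶ Y} {f : X ⟶ Z} {g : Y ⟶ Z}
    (w : fst ≫ f = snd ≫ g)
    (hinj : ∀ (T : Over S) (a b : (yon S).obj T ⟶ P), a ≫ fst = b ≫ fst → a ≫ snd = b ≫ snd → a = b)
    (hex : ∀ (T : Over S) (x : (yon S).obj T ⟶ X) (y : (yon S).obj T ⟶ Y), x ≫ f = y ≫ g →
      ∃ a : (yon S).obj T ⟶ P, a ≫ fst = x ∧ a ≫ snd = y) : IsPullback fst snd f g := by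
  have h1 : pullback.lift fst snd w ≫ pullback.fst f g = fst := pullback.lift_fst _ _ _
  have h2 : pullback.lift fst snd w ≫ pullback.snd f g = snd := pullback.lift_snd _ _ _
  have : IsIso (pullback.lift fst snd w) := by
    apply isIso_of_bijective
    intro T
    constructor
    · intro a b hab
      apply hinj
      · have := congrArg (· ≫ pullback.fst f g) hab
        dsimp only at this
        rwa [Category.assoc, Category.assoc, h1] at this
      · have := congrArg (· ≫ pullback.snd f g) hab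
        dsimp only at this
        rwa [Category.assoc, Category.assoc, h2] at this
    · intro y
      obtain ⟨a, ha1, ha2⟩ := hex T (y ≫ pullback.fst f g) (y ≫ pullback.snd f g) (by
        rw [Category.assoc, Category.assoc, pullback.condition])
      refine ⟨a, ?_⟩
      apply pullback.hom_ext
      · dsimp only
        rw [Category.assoc, h1, ha1]
      · dsimp only
        rw [Category.assoc, h2, ha2]
  exact IsPullback.of_iso_pullback ⟨w⟩ (asIso (pullback.lift fst snd w)) h1 h2

/-- A family of morphisms of sheaves `p i : X' i ⟶ X` is jointly locally surjective: every `T`-point of `X` lifts,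
locally on `T`, to one of the `X' i`. -/
def JSurj {ι : Type v} {X : Sp S} (X' : ι → Sp S) (p : ∀ i, X' i ⟶ X) : Prop :=
  ∀ (T : Over S) (x : (yon S).obj T ⟶ X), ∃ R ∈ J S T, ∀ (T' : Over S) (g : T' ⟶ T), R g →
    ∃ (i : ι) (y : (yon S).obj T' ⟶ X' i), y ≫ p i = (yon S).map g ≫ x

namespace JSurj

variable {ι : Type v} {X : Sp S} {X' : ι → Sp S} {p : ∀ i, X' i ⟶ X}

theorem ext (hp : JSurj X' p) {Z : Sp S} {k k' : X ⟶ Z} (h : ∀ i, p i ≫ k = p i ≫ k') : k = k' := by
  apply hom_ext
  intro T x
  obtain ⟨R, hR, H⟩ := hp T x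
  apply pt_ext R hR
  intro T' g hg
  obtain ⟨i, y, hy⟩ := H T' g hg
  rw [← Category.assoc, ← Category.assoc, ← hy, Category.assoc, Category.assoc, h]

/-- Base change of a jointly locally surjective family. -/
theorem of_isPullback (hp : JSurj X' p) {Y : Sp S} (f : Y ⟶ X) (Y' : ι → Sp S) (q : ∀ i, Y' i ⟶ Y)
    (fst : ∀ i, Y' i ⟶ X' i) (sq : ∀ i, IsPullback (q i) (fst i) f (p i)) : JSurj Y' q := by
  intro T x
  obtain ⟨R, hR, H⟩ := hp T (x ≫ f)
  refine ⟨R, hR, fun T' g hg => ?_⟩
  obtain ⟨i, y, hy⟩ := H T' g hg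
  refine ⟨i, (sq i).lift ((yon S).map g ≫ x) y (by rw [hy, Category.assoc]), (sq i).lift_fst _ _ _⟩

/-- Descent of morphisms along a jointly locally surjective family, on points. -/
theorem exists_desc (hp : JSurj X' p) {Z : Sp S} (k : ∀ i, X' i ⟶ Z)
    (hk : ∀ (T : Over S) (i j : ι) (y : (yon S).obj T ⟶ X' i) (y' : (yon S).obj T ⟶ X' j),
      y ≫ p i = y' ≫ p j → y ≫ k i = y' ≫ k j) : ∃ m : X ⟶ Z, ∀ i, p i ≫ m = k i := by
  have key : ∀ (T : Over S) (x : (yon S).obj T ⟶ X), ∃ z : (yon S).obj T ⟶ Z,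
      ∀ (T' : Over S) (g : T' ⟶ T) (i : ι) (y : (yon S).obj T' ⟶ X' i), y ≫ p i = (yon S).map g ≫ x →
        (yon S).map g ≫ z = y ≫ k i := by
    intro T x
    obtain ⟨R, hR, H⟩ := hp T x
    choose i y hy using H
    obtain ⟨z, hz⟩ := exists_glue R hR (fun T' g hg => y T' g hg ≫ k (i T' g hg)) (by
      intro T' T'' g l hg
      rw [← Category.assoc]
      apply hk
      rw [hy, Category.assoc, hy, (yon S).map_comp, Category.assoc])
    refine ⟨z, fun T' g j y' hy' => ?_⟩
    apply pt_ext (R.pullback g) ((J S).pullback_stable g hR)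
    intro T'' l hl
    replace hl : R (l ≫ g) := hl
    have := hz T'' (l ≫ g) hl
    rw [← Category.assoc, ← (yon S).map_comp, this, ← Category.assoc]
    apply hk
    rw [hy, Category.assoc, hy', (yon S).map_comp, Category.assoc]
  choose φ hφ using key
  have nat : ∀ (T T' : Over S) (g : T' ⟶ T) (x : (yon S).obj T ⟶ X),
      φ T' ((yon S).map g ≫ x) = (yon S).map g ≫ φ T x := by
    intro T T' g x
    obtain ⟨R, hR, H⟩ := hp T' ((yon S).map g ≫ x)
    apply pt_ext R hR
    intro T'' l hl
    obtain ⟨i, y, hy⟩ := H T'' l hl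
    rw [hφ T' _ T'' l i y hy, ← Category.assoc, ← (yon S).map_comp, hφ T x T'' (l ≫ g) i y]
    rw [hy, (yon S).map_comp, Category.assoc]
  refine ⟨homOfPt φ nat, fun i => ?_⟩
  apply hom_ext
  intro T y
  rw [← Category.assoc, comp_homOfPt]
  have := hφ T (y ≫ p i) T (𝟙 T) i y (by rw [(yon S).map_id, Category.id_comp])
  rw [(yon S).map_id, Category.id_comp] at this
  exact this

end JSurj

end K615.Pt
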