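import Groth.Agent.AlgSp.K615.RefVC
import Groth.Agent.AlgSp.K615.Desc
import Groth.Agent.AlgSp.K609.QC

/-!
# The refined valuative criterion: existence over an affine target (helper615)
-/

set_option autoImplicit false
universe u v
open CategoryTheory CategoryTheory.Limits AlgebraicGeometry Opposite AlgSp Topology

namespace K615.RefExist

open K615.RingPt K615.RefVC

variable {S : Scheme.{u}} {X Y U : Sp S}

/-- Two ring valued points with a common point agree on a field. -/
theorem exists_common_field {D D' : Type u} [CommRing D] [CommRing D'] {σ : Spec (.of D) ⟶ S}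
    {σ' : Spec (.of D') ⟶ S} (g : (yon S).obj (Over.mk σ) ⟶ X) (g' : (yon S).obj (Over.mk σ') ⟶ X)
    (t : ↥(Over.mk σ).left) (t' : ↥(Over.mk σ').left) (h : Points.ofPt g t = Points.ofPt g' t') :
    ∃ (Ω : Type u) (_ : Field Ω) (σ₁ : Spec (.of Ω) ⟶ S) (ψ : D →+* Ω) (β : D' →+* Ω)
      (h1 : sm ψ ≫ σ = σ₁) (h2 : sm β ≫ σ' = σ₁), res ψ h1 g = res β h2 g' := by
  obtain ⟨Ω, _, w, a, b, hab⟩ := Points.mk_eq_mk_iff.1 h
  obtain ⟨ψ, h1, e1⟩ := exists_sp (a ≫ Over.homMk ((Over.mk σ).left.fromSpecResidueField t) rfl : Over.mk w ⟶ Over.mk σ)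
  obtain ⟨β, h2, e2⟩ :=
    exists_sp (b ≫ Over.homMk ((Over.mk σ').left.fromSpecResidueField t') rfl : Over.mk w ⟶ Over.mk σ')
  refine ⟨Ω, inferInstance, w, ψ, β, h1, h2, ?_⟩
  rw [res, res, ← e1, ← e2]
  apply (J S).uliftYonedaEquiv.injective
  rw [(J S).uliftYonedaEquiv_comp, (J S).uliftYonedaEquiv_comp, (J S).uliftYonedaEquiv_uliftYoneda_map,
    (J S).uliftYonedaEquiv_uliftYoneda_map]
  exact (NatTrans.naturality_apply g.hom a.op _).trans
    (hab.trans (NatTrans.naturality_apply g'.hom b.op _).symm)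

/-- An affine chart in the form `Spec R₀`. -/
theorem exists_spec_chart (V : Over S) [IsAffine V.left] :
    ∃ (R₀ : Type u) (_ : CommRing R₀) (σ : Spec (.of R₀) ⟶ S) (e : Over.mk σ ⟶ V), IsIso e.left := by
  refine ⟨Γ(V.left, ⊤), inferInstance, V.left.isoSpec.inv ≫ V.hom,
    Over.homMk V.left.isoSpec.inv rfl, ?_⟩
  change IsIso V.left.isoSpec.inv
  infer_instance

theorem repWith_iso_comp (P : MorphismProperty Scheme.{u}) [P.IsStableUnderBaseChange] [P.IsMultiplicative]
    {T V : Over S} (e : T ⟶ V) [IsIso e.left] (p : (yon S).obj V ⟶ X)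
    (hp : RepWith P p) : RepWith P ((yon S).map e ≫ p) := by
  refine (repWith_isMultiplicative (S := S) P).comp_mem _ _ ((repWith_yon_map_iff _ _).2 ?_) hp
  exact P.of_isIso _

/-- The preimage of a dense quasi-compact family of points meets the generic points of an affine chart. -/
theorem exists_generic {h : U ⟶ X} (hh : IsQuasiCompactMor h)
    (hd : DenseRange (Points.map h)) {R₀ : Type u} [CommRing R₀] {σ₀ : Spec (.of R₀) ⟶ S}
    (w : (yon S).obj (Over.mk σ₀) ⟶ X) (hw : IsOpenMap (Points.ofPt w)) {K₁ : Type u} [Field K₁]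
    (β₁ : R₀ →+* K₁) : ∃ (L : Type u) (_ : Field L) (α : R₀ →+* L) (σL : Spec (.of L) ⟶ S) (hα : sm α ≫ σ₀ = σL)
      (t : (yon S).obj (Over.mk σL) ⟶ U), t ≫ h = res α hα w ∧ RingHom.ker α ≤ RingHom.ker β₁ := by
  have sq : IsPullback (pullback.fst h w) (pullback.snd h w) h w := IsPullback.of_hasPullback _ _
  have hqc : IsQuasiCompactSp (pullback h w) := by
    refine hh (IsAlgSpace.yon_obj _) ?_ w _ _ sq
    exact K609.QC.isQuasiCompactSp_iff_exists_affine_chart.2 ⟨Over.mk σ₀, 𝟙 _,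
      (inferInstance : IsAffine (Spec (.of R₀))), (repWith_isMultiplicative (S := S) @Etale).id_mem _,
      (repWith_isMultiplicative (S := S) @Surjective).id_mem _⟩
  obtain ⟨V, p, hV, hp1, hp2⟩ := K609.QC.exists_affine_chart hqc
  obtain ⟨E, _, σE, e, he⟩ := exists_spec_chart V
  obtain ⟨ε, hε, e1⟩ := exists_res (((yon S).map e ≫ p) ≫ pullback.snd h w)
  have hsurj : RepWith @Surjective ((yon S).map e ≫ p) := repWith_iso_comp @Surjective e p hp2
  have hdense : DenseRange (PrimeSpectrum.comap ε) := by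
    rw [DenseRange, dense_iff_inter_open]
    intro O hO hne
    have hO' : IsOpen (Points.ofPt w '' (O : Set ↥(Over.mk σ₀).left)) := hw O hO
    obtain ⟨_, ⟨o, ho, rfl⟩, y, hy⟩ := dense_iff_inter_open.1 hd _ hO' (hne.image _)
    obtain ⟨z, hz1, hz2⟩ := K610.Base.exists_of_isPullback sq y (Points.ofScheme (Over.mk σ₀) o)
      (by rw [hy, ← Points.ofPt_eq_map_ofScheme])
    obtain ⟨v, rfl⟩ := K610.Base.surjective_ofPt hsurj z
    refine ⟨o, ho, v, ?_⟩
    rw [← K610.Base.ofPt_comp, e1] at hz2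
    have := congrArg (Points.toScheme _) hz2
    rw [Points.toScheme_ofPt, Points.toScheme_ofScheme] at this
    exact this
  have : (RingHom.ker β₁).IsPrime := RingHom.ker_isPrime β₁
  obtain ⟨z, hz, hzle⟩ := Ideal.exists_minimalPrimes_le (I := ⊥) (J := RingHom.ker β₁) bot_le
  obtain ⟨q, hq⟩ := (PrimeSpectrum.denseRange_comap_iff_minimalPrimes ε).1 hdense z hz
  have e2 : (((yon S).map e ≫ p) ≫ pullback.snd h w) ≫ w = res ε hε w := by rw [e1]; rfl
  refine ⟨q.asIdeal.ResidueField, inferInstance, (algebraMap E q.asIdeal.ResidueField).comp ε,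
    sm (algebraMap E q.asIdeal.ResidueField) ≫ σE, st_comp hε rfl, res (algebraMap E q.asIdeal.ResidueField) rfl
      (((yon S).map e ≫ p) ≫ pullback.fst h w), ?_, ?_⟩
  · rw [res_comp, Category.assoc, sq.w, ← Category.assoc, e2, res_res]
  · rw [← RingHom.comap_ker, Ideal.ker_algebraMap_residueField]
    refine le_trans (le_of_eq ?_) hzle
    exact congrArg PrimeSpectrum.asIdeal hq

/-- The refined valuative criterion: existence, over an affine target. -/
theorem existVC (hX : IsAlgSpace X) {R : Type u} [CommRing R] {s : Spec (.of R) ⟶ S}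
    {f : X ⟶ (yon S).obj (Over.mk s)} {h : U ⟶ X} (hv : HV f h) (hh : IsQuasiCompactMor h)
    (hd : DenseRange (Points.map h)) : ExistVC f := by
  intro sq
  obtain ⟨c, y, hy⟩ := Desc.points_of_charts hX (Points.ofPt sq.top
    (IsLocalRing.closedPoint sq.K : Spec (CommRingCat.of sq.K)))
  have := c.affine
  obtain ⟨R₀, _, σ₀, e, he⟩ := exists_spec_chart c.U
  have hw : RepWith @Etale ((yon S).map e ≫ c.a) := repWith_iso_comp @Etale e c.a c.etale
  obtain ⟨u, rfl⟩ := (Points.schemeEquiv c.U).surjective y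
  obtain ⟨u, rfl⟩ : ∃ v, e.left v = u := by
    have : IsIso e.left := he
    have : Surjective e.left := inferInstance
    exact this.surj u
  have hy' : Points.ofPt sq.top (IsLocalRing.closedPoint sq.K : Spec (CommRingCat.of sq.K)) =
      Points.ofPt ((yon S).map e ≫ c.a) u := by
    rw [K610.Base.ofPt_map_comp, ← hy, Points.ofPt_eq_map_ofScheme]
    rfl
  obtain ⟨Ω, _, σ₁, ψ, β, h1, h2, e1⟩ := exists_common_field _ _ _ _ hy'
  obtain ⟨L, _, α, σL, hα, t, ht, hker⟩ :=
    exists_generic hh hd ((yon S).map e ≫ c.a) (K610.Base.isOpenMap_ofPt_etale hw) β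
  exact core_sq hv ((yon S).map e ≫ c.a) α hα t ht sq ψ β h1 h2 e1 hker

end K615.RefExist
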