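import Groth.Agent.AlgSp.K615.RefExist
import Groth.Agent.AlgSp.K614.UnivClosed
import Groth.Agent.AlgSp.K596.SepSurj
import Groth.Agent.AlgSp.K600.LimSpace

/-!
# The refined valuative criterion (helper615)

* `isUnivClosedMor_of_charts`: universally closed is étale local on the target.
* `isUnivClosedMor_of_HV`: the refined valuative criterion for universally closed morphisms.
-/

set_option autoImplicit false
universe u v
open CategoryTheory CategoryTheory.Limits AlgebraicGeometry Opposite AlgSp Topology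

namespace K615.RefLoc

open K615.RingPt K615.RefVC K615.RefExist K614.Val

variable {S : Scheme.{u}}

theorem isClosedMap_of_local {F G : Sp S} {f : F ⟶ G}
    (h : ∀ y : Points G, ∃ (V P : Sp S) (g : V ⟶ G) (fst : P ⟶ F) (snd : P ⟶ V), IsPullback fst snd f g ∧
      IsOpenMap (Points.map g) ∧ y ∈ Set.range (Points.map g) ∧ IsClosedMap (Points.map snd)) :
    IsClosedMap (Points.map f) := by
  intro D hD
  rw [← isOpen_compl_iff, isOpen_iff_forall_mem_open]
  intro y hy
  obtain ⟨V, P, g, fst, snd, sq, ho, ⟨v, rfl⟩, hc⟩ := h y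
  have h1 : IsOpen (Points.map g ⁻¹' (Points.map f '' D))ᶜ := by
    rw [isOpen_compl_iff, K596.Pts.preimage_image sq]
    exact hc _ (hD.preimage (Points.continuous_map fst))
  refine ⟨Points.map g '' (Points.map g ⁻¹' (Points.map f '' D))ᶜ, ?_, ho _ h1, v, hy, rfl⟩
  rintro _ ⟨w, hw, rfl⟩
  exact hw

theorem isOpenMap_of_etale {V G : Sp S} {g : V ⟶ G} (hg : RepWith @Etale g) : IsOpenMap (Points.map g) :=
  K596.Univ.isOpenMap_of_repWith (K610.Base.RepWith.univOpen hg)

/-- Every point of an algebraic space lies on an étale chart of the form `Spec R`. -/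
theorem exists_spec_chart_of_point {G : Sp S} (hG : IsAlgSpace G) (y : Points G) :
    ∃ (R : Type u) (_ : CommRing R) (s : Spec (.of R) ⟶ S) (a : (yon S).obj (Over.mk s) ⟶ G),
      RepWith @Etale a ∧ y ∈ Set.range (Points.map a) := by
  obtain ⟨c, x, rfl⟩ := Desc.points_of_charts hG y
  have := c.affine
  obtain ⟨R₀, _, σ₀, e, he⟩ := exists_spec_chart c.U
  refine ⟨R₀, inferInstance, σ₀, (yon S).map e ≫ c.a, repWith_iso_comp @Etale e c.a c.etale, ?_⟩
  have : IsIso e := by
    have : IsIso ((Over.forget S).map e) := he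
    exact isIso_of_reflects_iso e (Over.forget S)
  refine ⟨Points.map (inv ((yon S).map e)) x, ?_⟩
  rw [← Points.map_comp, IsIso.inv_hom_id_assoc]

theorem isUnivClosedMor_of_charts {F G : Sp S} {f : F ⟶ G} (hG : IsAlgSpace G)
    (h : ∀ (R : Type u) [CommRing R] (s : Spec (.of R) ⟶ S) (a : (yon S).obj (Over.mk s) ⟶ G),
      RepWith @Etale a → IsUnivClosedMor (pullback.snd f a)) : IsUnivClosedMor f := by
  intro Z Z' hZ g fst snd sq
  refine isClosedMap_of_local fun z => ?_
  obtain ⟨R, _, s, a, ha, x, hx⟩ := exists_spec_chart_of_point hG (Points.map g z)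
  have sq1 : IsPullback (pullback.fst g a) (pullback.snd g a) g a := IsPullback.of_hasPullback _ _
  have h1 : RepWith @Etale (pullback.fst g a) := MorphismProperty.of_isPullback (P := RepWith _) sq1.flip ha
  have hW : IsAlgSpace (pullback g a) := K600.LimSpace.isAlgSpace_of_representable h1.1 hZ
  have sq2 : IsPullback (pullback.fst snd (pullback.fst g a)) (pullback.snd snd (pullback.fst g a)) snd
    (pullback.fst g a) := IsPullback.of_hasPullback _ _
  have sq3 := sq2.paste_horiz sq
  rw [sq1.w] at sq3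
  obtain ⟨c, -, sq4⟩ := K596.QC.isPullback_lift_right (IsPullback.of_hasPullback f a) sq3
  obtain ⟨w, hw, -⟩ := K610.Base.exists_of_isPullback sq1 z x hx.symm
  exact ⟨_, _, _, _, _, sq2, isOpenMap_of_etale h1, ⟨w, hw⟩, h R s a ha hW _ _ _ sq4⟩

theorem hasUniq_of_push {F G F' G' : Sp S} {f' : F' ⟶ G'} {f : F ⟶ G} {a : F' ⟶ F}
    {b : G' ⟶ G} (h : IsPullback a f' f b) (sq : ValSq f') (hf : (push a b h.w sq).HasUniq) : sq.HasUniq := by
  intro l l' h1 h2 h1' h2'
  apply h.hom_ext
  · refine hf (l ≫ a) (l' ≫ a) ?_ ?_ ?_ ?_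
    · rw [← Category.assoc]; exact congrArg (· ≫ a) h1
    · change (l ≫ a) ≫ f = sq.bot ≫ b
      rw [Category.assoc, h.w, ← Category.assoc, h2]
    · rw [← Category.assoc]; exact congrArg (· ≫ a) h1'
    · change (l' ≫ a) ≫ f = sq.bot ≫ b
      rw [Category.assoc, h.w, ← Category.assoc, h2']
  · rw [h2, h2']

theorem hasLiftExt_of_push {F G F' G' : Sp S} {f' : F' ⟶ G'} {f : F ⟶ G} {a : F' ⟶ F}
    {b : G' ⟶ G} (h : IsPullback a f' f b) (sq : ValSq f') (hf : (push a b h.w sq).HasLiftExt) :
    sq.HasLiftExt := by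
  obtain ⟨e, l, h1, h2⟩ := hf
  let e' : sq.DomExt := ofPush a b h.w e
  let l' : (yon S).obj e'.ptA' ⟶ F := l
  have h1' : (yon S).map (jK e') ≫ l' = (yon S).map (pK e') ≫ sq.top ≫ a := h1
  have h2' : l' ≫ f = ((yon S).map (pA e') ≫ sq.bot) ≫ b := by
    rw [Category.assoc]; exact h2
  refine ⟨e', (hasLift_iff e').2 ⟨h.lift l' ((yon S).map (pA e') ≫ sq.bot) h2', ?_, h.lift_snd _ _ _⟩⟩
  apply h.hom_ext
  · rw [Category.assoc, h.lift_fst, h1', Category.assoc]
  · rw [Category.assoc, h.lift_snd, Category.assoc, sq.comm, ← Category.assoc, ← Category.assoc,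
      ← Functor.map_comp, ← Functor.map_comp, pK_j]

/-- The hypothesis of the refined valuative criterion is stable under base change. -/
theorem HV_of_isPullback {X Y U X' Y' U' : Sp S} {f : X ⟶ Y} {h : U ⟶ X} {f' : X' ⟶ Y'} {h' : U' ⟶ X'}
    {a : X' ⟶ X} {b : Y' ⟶ Y} {c : U' ⟶ U} (sq : IsPullback a f' f b) (w : h' ≫ a = c ≫ h) (hv : HV f h) :
    HV f' h' := by
  rintro s ⟨t, ht⟩
  obtain ⟨h1, h2⟩ := hv (push a b sq.w s) ⟨t ≫ c, by
    change (t ≫ c) ≫ h = s.top ≫ a
    rw [← ht, Category.assoc, Category.assoc, w]⟩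
  exact ⟨hasUniq_of_push sq s h1, hasLiftExt_of_push sq s h2⟩

/-- Density is stable under étale base change. -/
theorem denseRange_of_isPullback {X U X' U' : Sp S} {h : U ⟶ X} {h' : U' ⟶ X'} {a : X' ⟶ X} {c : U' ⟶ U}
    (sq : IsPullback c h' h a) (ha : IsOpenMap (Points.map a)) (hd : DenseRange (Points.map h)) :
    DenseRange (Points.map h') := by
  rw [DenseRange, dense_iff_inter_open]
  intro O hO hne
  obtain ⟨_, ⟨o, ho, rfl⟩, y, hy⟩ := dense_iff_inter_open.1 hd _ (ha O hO) (hne.image _)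
  obtain ⟨z, -, hz⟩ := K610.Base.exists_of_isPullback sq y o hy
  exact ⟨o, ho, z, hz⟩

/-- **The refined valuative criterion**: universally closed. -/
theorem isUnivClosedMor_of_HV {X Y U : Sp S} (hX : IsAlgSpace X) (hY : IsAlgSpace Y) {f : X ⟶ Y} {h : U ⟶ X}
    (hf : IsQuasiCompactMor f) (hh : IsQuasiCompactMor h) (hd : DenseRange (Points.map h)) (hv : HV f h) :
    IsUnivClosedMor f := by
  refine isUnivClosedMor_of_charts hY fun R _ s a ha => ?_
  have sq : IsPullback (pullback.fst f a) (pullback.snd f a) f a := IsPullback.of_hasPullback _ _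
  have h1 : RepWith @Etale (pullback.fst f a) := MorphismProperty.of_isPullback (P := RepWith _) sq.flip ha
  have sq' : IsPullback (pullback.fst h (pullback.fst f a)) (pullback.snd h (pullback.fst f a)) h
    (pullback.fst f a) := IsPullback.of_hasPullback _ _
  refine K614.UnivClosed.isUnivClosedMor_of_existVC (K596.QC.isQuasiCompactMor_of_isPullback sq hf) ?_
  exact existVC (K600.LimSpace.isAlgSpace_of_representable h1.1 hX) (HV_of_isPullback sq sq'.w.symm hv)
    (K596.QC.isQuasiCompactMor_of_isPullback sq' hh) (denseRange_of_isPullback sq' (isOpenMap_of_etale h1) hd)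

/-- The identity extension. -/
theorem hasLiftExt_of_hasLift {F G : Sp S} {f : F ⟶ G} (sq : ValSq f) (h : sq.HasLift) : sq.HasLiftExt := by
  obtain ⟨l, h1, h2⟩ := h
  have e : sm (RingHom.id sq.A) ≫ sq.str = sq.str := by
    rw [show sm (RingHom.id sq.A) = 𝟙 _ from Spec.map_id _, Category.id_comp]
  refine ⟨{ A' := sq.A, K' := sq.K, φ := RingHom.id _, ψ := RingHom.id _, comm := rfl, isLocalHom := inferInstance },
    res (RingHom.id sq.A) rfl l, ?_, ?_⟩
  · change res (algebraMap sq.A sq.K) rfl (res (RingHom.id sq.A) rfl l) = res (RingHom.id sq.K) _ sq.top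
    rw [res_res, ← h1]
    change _ = res (RingHom.id sq.K) _ (res (algebraMap sq.A sq.K) rfl l)
    rw [res_res]
    exact res_congr (by ext; rfl) _ _ _
  · change res (RingHom.id sq.A) rfl l ≫ f = res (RingHom.id sq.A) rfl sq.bot
    rw [res_comp, h2]

/-- The hypothesis of the refined valuative criterion for the diagonal. -/
theorem HV_diagonal {X Y U : Sp S} {f : X ⟶ Y} {h : U ⟶ X} (hv : HV f h) : HV (pullback.diagonal f) h := by
  rintro sq ⟨t, ht⟩
  refine ⟨fun l l' _ h2 _ h2' => ?_, hasLiftExt_of_hasLift sq ?_⟩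
  · exact (cancel_mono (pullback.diagonal f)).1 (h2.trans h2'.symm)
  · have h1 : res (algebraMap sq.A sq.K) rfl (sq.bot ≫ pullback.fst f f) = sq.top := by
      have := congrArg (· ≫ pullback.fst f f) sq.comm
      simp only [Category.assoc, pullback.diagonal_fst, Category.comp_id] at this
      exact this.symm
    have h2 : res (algebraMap sq.A sq.K) rfl (sq.bot ≫ pullback.snd f f) = sq.top := by
      have := congrArg (· ≫ pullback.snd f f) sq.comm
      simp only [Category.assoc, pullback.diagonal_snd, Category.comp_id] at this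
      exact this.symm
    have h3 : sq.bot ≫ pullback.fst f f = sq.bot ≫ pullback.snd f f :=
      hv.uniq rfl _ _ (h1.trans h2.symm) (by rw [Category.assoc, Category.assoc, pullback.condition]) t
        (ht.trans h1.symm)
    refine ⟨sq.bot ≫ pullback.fst f f, h1, ?_⟩
    apply pullback.hom_ext
    · simp
    · simp [h3]

theorem final {X Y U : Space S} (f : X ⟶ Y) (h : U ⟶ X)
    (hf : AlgSp.IsQuasiCompactMor f.hom) (hh : AlgSp.IsQuasiCompactMor h.hom)
    (hd : DenseRange (AlgSp.Points.map h.hom)) (hv : HV f.hom h.hom) :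
    AlgSp.IsUnivClosedMor f.hom ∧ (AlgSp.IsQuasiSeparatedMor f.hom → AlgSp.IsSeparatedMor f.hom) := by
  refine ⟨isUnivClosedMor_of_HV X.property Y.property hf hh hd hv, fun hq => ?_⟩
  rw [K596.SepSurj.isSeparatedMor_iff_isUnivClosedMor]
  exact isUnivClosedMor_of_HV X.property (K613.Chart.isAlgSpace_pullback X.property X.property Y.property _ _)
    ((K596.SepSurj.isQuasiSeparatedMor_iff_isQuasiCompactMor f).1 hq) hh hd (HV_diagonal hv)

end K615.RefLoc
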