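import Groth.Agent.AlgSp.K615.RingPt

/-!
# The refined valuative criterion, algebraic part (helper615)
-/

set_option autoImplicit false
universe u v
open CategoryTheory CategoryTheory.Limits AlgebraicGeometry Opposite AlgSp

namespace K615.RefVC

open K615.RingPt K615.ValAlg

variable {S : Scheme.{u}} {X Y U : Sp S}

/-- The hypothesis of the refined valuative criterion. -/
def HV (f : X ⟶ Y) (h : U ⟶ X) : Prop :=
  ∀ sq : ValSq f, (∃ t : (yon S).obj sq.ptK ⟶ U, t ≫ h = sq.top) → sq.HasUniq ∧ sq.HasLiftExt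

theorem HV.uniq {f : X ⟶ Y} {h : U ⟶ X} (hv : HV f h) {B M : Type u} [CommRing B] [IsDomain B] [ValuationRing B]
    [Field M] [Algebra B M] [IsFractionRing B M] {σ : Spec (.of B) ⟶ S} {σ' : Spec (.of M) ⟶ S}
    (hσ : sm (algebraMap B M) ≫ σ = σ') (l l' : (yon S).obj (Over.mk σ) ⟶ X)
    (h1 : res (algebraMap B M) hσ l = res (algebraMap B M) hσ l') (h2 : l ≫ f = l' ≫ f)
    (t : (yon S).obj (Over.mk σ') ⟶ U) (ht : t ≫ h = res (algebraMap B M) hσ l) : l = l' := by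
  subst hσ
  let sq : ValSq f :=
    { A := B
      K := M
      str := σ
      top := res (algebraMap B M) rfl l
      bot := l ≫ f
      comm := res_comp _ _ _ }
  exact (hv sq ⟨t, ht⟩).1 l l' rfl rfl h1.symm h2.symm

theorem HV.exist {f : X ⟶ Y} {h : U ⟶ X} (hv : HV f h) {C M : Type u} [CommRing C] [IsDomain C] [ValuationRing C]
    [Field M] [Algebra C M] [IsFractionRing C M] {σ : Spec (.of C) ⟶ S} {σ' : Spec (.of M) ⟶ S}
    (hσ : sm (algebraMap C M) ≫ σ = σ') (top : (yon S).obj (Over.mk σ') ⟶ X)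
    (bot : (yon S).obj (Over.mk σ) ⟶ Y) (hc : top ≫ f = res (algebraMap C M) hσ bot)
    (t : (yon S).obj (Over.mk σ') ⟶ U) (ht : t ≫ h = top) :
    ∃ (C' M' : Type u) (_ : CommRing C') (_ : IsDomain C') (_ : ValuationRing C') (_ : Field M')
      (_ : Algebra C' M') (_ : IsFractionRing C' M') (φ : C →+* C') (ψ : M →+* M')
      (_ : (algebraMap C' M').comp φ = ψ.comp (algebraMap C M)) (_ : IsLocalHom φ)
      (σ₁ : Spec (.of C') ⟶ S) (σ₁' : Spec (.of M') ⟶ S) (hφ : sm φ ≫ σ = σ₁)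
      (hM : sm (algebraMap C' M') ≫ σ₁ = σ₁') (hψ : sm ψ ≫ σ' = σ₁')
      (l : (yon S).obj (Over.mk σ₁) ⟶ X), res (algebraMap C' M') hM l = res ψ hψ top ∧ l ≫ f = res φ hφ bot := by
  subst hσ
  let sq : ValSq f :=
    { A := C
      K := M
      str := σ
      top := top
      bot := bot
      comm := hc }
  obtain ⟨e, l, h1, h2⟩ := (hv sq ⟨t, ht⟩).2
  have hψ : sm e.ψ ≫ sm (algebraMap C M) ≫ σ = sm (algebraMap e.A' e.K') ≫ sm e.φ ≫ σ := by
    rw [sm_comp_assoc, sm_comp_assoc, e.comm]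
  exact ⟨e.A', e.K', inferInstance, inferInstance, inferInstance, inferInstance, inferInstance, inferInstance,
    e.φ, e.ψ, e.comm, e.isLocalHom, sm e.φ ≫ σ, _, rfl, rfl, hψ, l, h1, h2⟩

/-- Uniqueness step. -/
theorem HV.key {f : X ⟶ Y} {h : U ⟶ X} (hv : HV f h) {R₀ L C' M' B' M₃ : Type u} [CommRing R₀] [Field L]
    [CommRing C'] [Field M'] [Algebra C' M'] [CommRing B'] [IsDomain B'] [ValuationRing B'] [Field M₃]
    [Algebra B' M₃] [IsFractionRing B' M₃] {σ₀ : Spec (.of R₀) ⟶ S} {σL : Spec (.of L) ⟶ S}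
    {σC : Spec (.of C') ⟶ S} {σM : Spec (.of M') ⟶ S} {σB : Spec (.of B') ⟶ S}
    (w : (yon S).obj (Over.mk σ₀) ⟶ X) (α : R₀ →+* L) (hα : sm α ≫ σ₀ = σL)
    (t : (yon S).obj (Over.mk σL) ⟶ U) (ht : t ≫ h = res α hα w)
    (hσM : sm (algebraMap C' M') ≫ σC = σM) (l : (yon S).obj (Over.mk σC) ⟶ X) (ν : L →+* M')
    (hν : sm ν ≫ σL = σM) (hl : res (algebraMap C' M') hσM l = res ν hν t ≫ h) (c : C' →+* B') (μ : M' →+* M₃)
    (r2 : μ.comp (algebraMap C' M') = (algebraMap B' M₃).comp c) (g : R₀ →+* B')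
    (q3 : (algebraMap B' M₃).comp g = (μ.comp ν).comp α) (s1 : sm c ≫ σC = σB) (s2 : sm g ≫ σ₀ = σB)
    (hb : res c s1 (l ≫ f) = res g s2 (w ≫ f)) : res c s1 l = res g s2 w := by
  have s6 : sm μ ≫ σM = sm (algebraMap B' M₃) ≫ σB := by
    rw [← s1, ← hσM, sm_comp_assoc, sm_comp_assoc, r2]
  have g1 : res (algebraMap B' M₃) rfl (res c s1 l) = res (μ.comp ν) (st_comp hν s6) t ≫ h := by
    have e1 : res (algebraMap B' M₃) rfl (res c s1 l) = res μ s6 (res (algebraMap C' M') hσM l) := by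
      rw [res_res, res_res]
      exact res_congr r2.symm _ _ _
    rw [e1, hl, res_comp, res_comp, res_res]
  have g3 : res (algebraMap B' M₃) rfl (res g s2 w) = res (μ.comp ν) (st_comp hν s6) t ≫ h := by
    rw [res_comp, ht, res_res, res_res]
    exact res_congr q3 _ _ _
  exact hv.uniq (σ := σB) (σ' := sm (algebraMap B' M₃) ≫ σB) rfl (res c s1 l) (res g s2 w) (g1.trans g3.symm)
    (by rw [res_comp, res_comp, hb]) (res (μ.comp ν) (st_comp hν s6) t) g1.symm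

/-- Last step. -/
theorem last {R₀ K₁ A K C' B' A'' K'' κ : Type u}
    [CommRing R₀] [CommRing K₁] [CommRing A] [CommRing K] [Algebra A K] [CommRing C'] [CommRing B']
    [CommRing A''] [CommRing K''] [Algebra A'' K''] [CommRing κ] {σ₀ : Spec (.of R₀) ⟶ S}
    {σ₁ : Spec (.of K₁) ⟶ S} {σA : Spec (.of A) ⟶ S} {σK : Spec (.of K) ⟶ S} {σC : Spec (.of C') ⟶ S}
    {σB : Spec (.of B') ⟶ S} (w : (yon S).obj (Over.mk σ₀) ⟶ X)
    (hAK : sm (algebraMap A K) ≫ σA = σK) (top : (yon S).obj (Over.mk σK) ⟶ X)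
    (ψ₁ : K →+* K₁) (β₁ : R₀ →+* K₁) (h1 : sm ψ₁ ≫ σK = σ₁) (h2 : sm β₁ ≫ σ₀ = σ₁)
    (hw : res ψ₁ h1 top = res β₁ h2 w) (l : (yon S).obj (Over.mk σC) ⟶ X) (c : C' →+* B') (g : R₀ →+* B')
    (s1 : sm c ≫ σC = σB) (s2 : sm g ≫ σ₀ = σB) (key : res c s1 l = res g s2 w)
    (c'' : C' →+* A'') (r : B' →+* K'') (r4 : r.comp c = (algebraMap A'' K'').comp c'') (δ : K₁ →+* κ)
    (κ'' : κ →+* K'') (q4 : r.comp g = (κ''.comp δ).comp β₁) (a' : A →+* A'')
    (q5 : (algebraMap A'' K'').comp a' = ((κ''.comp δ).comp ψ₁).comp (algebraMap A K))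
    (s3 : sm c'' ≫ σC = sm a' ≫ σA) :
    ∃ hψ : sm ((κ''.comp δ).comp ψ₁) ≫ σK = sm (algebraMap A'' K'') ≫ sm a' ≫ σA,
      res (algebraMap A'' K'') rfl (res c'' s3 l) = res ((κ''.comp δ).comp ψ₁) hψ top := by
  have s4 : sm ((κ''.comp δ).comp ψ₁) ≫ σK = sm (algebraMap A'' K'') ≫ sm a' ≫ σA := by
    rw [← hAK, sm_comp_assoc, sm_comp_assoc, q5]
  have s5 : sm (κ''.comp δ) ≫ σ₁ = sm (algebraMap A'' K'') ≫ sm a' ≫ σA := by
    rw [← s4, ← h1, sm_comp_assoc]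
  have s6 : sm r ≫ σB = sm (algebraMap A'' K'') ≫ sm a' ≫ σA := by
    rw [← s5, ← h2, sm_comp_assoc, ← q4, ← s2, sm_comp_assoc]
  refine ⟨s4, ?_⟩
  have g1 : res (algebraMap A'' K'') rfl (res c'' s3 l) = res r s6 (res c s1 l) := by
    rw [res_res, res_res]
    exact res_congr r4.symm _ _ _
  have g2 : res r s6 (res g s2 w) = res (κ''.comp δ) s5 (res β₁ h2 w) := by
    rw [res_res, res_res]
    exact res_congr q4 _ _ _
  rw [g1, key, g2, ← hw, res_res]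

/-- The data obtained from the composite valuation ring. -/
theorem core_data {R : Type u} [CommRing R] {s : Spec (.of R) ⟶ S} {f : X ⟶ (yon S).obj (Over.mk s)} {h : U ⟶ X}
    (hv : HV f h) {R₀ L K₁ : Type u} [CommRing R₀] [Field L] [Field K₁] {σ₀ : Spec (.of R₀) ⟶ S}
    (w : (yon S).obj (Over.mk σ₀) ⟶ X) (α : R₀ →+* L) {σL : Spec (.of L) ⟶ S} (hα : sm α ≫ σ₀ = σL)
    (t : (yon S).obj (Over.mk σL) ⟶ U) (ht : t ≫ h = res α hα w) (ρ : R →+* R₀) (hρ : sm ρ ≫ s = σ₀)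
    (hwf : w ≫ f = (yon S).map (sp ρ hρ))
    {A K : Type u} [CommRing A] [IsDomain A] [ValuationRing A] [Field K] [Algebra A K] [IsFractionRing A K]
    (β : R →+* A)
    (ψ₁ : K →+* K₁) (β₁ : R₀ →+* K₁) (hrel : (ψ₁.comp (algebraMap A K)).comp β = β₁.comp ρ)
    (hker : RingHom.ker α ≤ RingHom.ker β₁) :
    ∃ (C' M' B' M₃ A'' K'' κ : Type u) (_ : CommRing C') (_ : Field M') (_ : Algebra C' M')
      (_ : CommRing B') (_ : IsDomain B') (_ : ValuationRing B') (_ : Field M₃)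
      (_ : Algebra B' M₃) (_ : IsFractionRing B' M₃) (_ : CommRing A'') (_ : IsDomain A'')
      (_ : ValuationRing A'') (_ : Field K'') (_ : Algebra A'' K'') (_ : IsFractionRing A'' K'') (_ : CommRing κ)
      (σC : Spec (.of C') ⟶ S) (σM : Spec (.of M') ⟶ S)
      (hσM : sm (algebraMap C' M') ≫ σC = σM) (l : (yon S).obj (Over.mk σC) ⟶ X) (ν : L →+* M')
      (hν : sm ν ≫ σL = σM) (_ : res (algebraMap C' M') hσM l = res ν hν t ≫ h) (χ : R →+* C')
      (hχ : sm χ ≫ s = σC) (_ : l ≫ f = (yon S).map (sp χ hχ))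
      (c : C' →+* B') (μ : M' →+* M₃) (_ : μ.comp (algebraMap C' M') = (algebraMap B' M₃).comp c) (g : R₀ →+* B')
      (_ : (algebraMap B' M₃).comp g = (μ.comp ν).comp α) (_ : c.comp χ = g.comp ρ)
      (c'' : C' →+* A'') (r : B' →+* K'') (_ : r.comp c = (algebraMap A'' K'').comp c'') (δ : K₁ →+* κ)
      (κ'' : κ →+* K'') (_ : r.comp g = (κ''.comp δ).comp β₁) (a' : A →+* A'') (_ : IsLocalHom a')
      (_ : (algebraMap A'' K'').comp a' = ((κ''.comp δ).comp ψ₁).comp (algebraMap A K)),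
      c''.comp χ = a'.comp β := by
  obtain ⟨M, _, B, lam, γ, δ, e1, e2⟩ := exists_val α β₁ hker
  -- the valuation ring of the residue field
  obtain ⟨A₂, hA, hloc⟩ := IsLocalRing.exists_factor_valuationRing ((δ.comp ψ₁).comp (algebraMap A K))
  obtain ⟨a, ha⟩ : ∃ a : A →+* A₂, a = ((δ.comp ψ₁).comp (algebraMap A K)).codRestrict A₂.toSubring hA := ⟨_, rfl⟩
  have ha1 : A₂.subtype.comp a = (δ.comp ψ₁).comp (algebraMap A K) := by rw [ha]; rfl
  have ha2 : IsLocalHom a := by rw [ha]; exact hloc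
  obtain ⟨k, hk1, hk2⟩ := exists_lift B A₂ (γ.comp ρ) (a.comp β) (by
    rw [← RingHom.comp_assoc, e2, RingHom.comp_assoc, ← hrel]
    exact congrArg (fun g : A →+* IsLocalRing.ResidueField B => g.comp β) ha1.symm)
  -- the square over the composite
  have hlam : sm lam ≫ σL = sm (algebraMap (comp B A₂) M) ≫ sm k ≫ s := by
    rw [← hα, ← hρ, sm_comp_assoc, sm_comp_assoc, sm_comp_assoc]
    congr 2
    rw [e1, RingHom.comp_assoc, ← hk1]
    rfl
  have hcomm : (res lam hlam t ≫ h) ≫ f = res (algebraMap (comp B A₂) M) rfl ((yon S).map (sp k rfl)) := by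
    rw [res_comp, ht, res_res, res_comp, hwf, res_sp, res_sp]
    congr 1
    refine sp_congr ?_ _ _
    rw [e1, RingHom.comp_assoc, ← hk1]
    rfl
  obtain ⟨C', M', _, _, _, _, _, _, φ, ψ, hφψ, hφ, σC, σM, hσC, hσM, hσψ, l, hl1, hl2⟩ :=
    hv.exist rfl (res lam hlam t ≫ h) ((yon S).map (sp k rfl)) hcomm (res lam hlam t) rfl
  obtain ⟨B', M₃, _, _, _, _, _, _, A'', K'', _, _, _, _, _, _, c, j, μ, c'', κ'', r, a₂, r1, r2, r3, r4, r5, r6,
    r7, r8⟩ := final B A₂ φ ψ hφψ hφ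
  have q1 : c.comp (φ.comp k) = (j.comp γ).comp ρ := by
    rw [← RingHom.comp_assoc, r1, RingHom.comp_assoc, hk1, RingHom.comp_assoc]
  have q2 : c''.comp (φ.comp k) = (a₂.comp a).comp β := by
    rw [← RingHom.comp_assoc, r6, RingHom.comp_assoc, hk2, RingHom.comp_assoc]
  have q3 : (algebraMap B' M₃).comp (j.comp γ) = (μ.comp (ψ.comp lam)).comp α := by
    rw [← RingHom.comp_assoc, r3, RingHom.comp_assoc, ← e1]
    rfl
  have q4 : r.comp (j.comp γ) = (κ''.comp δ).comp β₁ := by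
    rw [← RingHom.comp_assoc, r5, RingHom.comp_assoc, e2, RingHom.comp_assoc]
  have q5 : (algebraMap A'' K'').comp (a₂.comp a) = ((κ''.comp δ).comp ψ₁).comp (algebraMap A K) := by
    rw [← RingHom.comp_assoc, r7, RingHom.comp_assoc, ha1]
    rfl
  have q6 : res (algebraMap C' M') hσM l = res (ψ.comp lam) (st_comp hlam hσψ) t ≫ h := by
    rw [hl1, res_comp, res_comp, res_res]
  have q7 : l ≫ f = (yon S).map (sp (φ.comp k) (st_comp rfl hσC)) := by
    rw [hl2, res_sp]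
  have q8 : IsLocalHom (a₂.comp a) := RingHom.isLocalHom_comp _ _
  exact ⟨C', M', B', M₃, A'', K'', IsLocalRing.ResidueField B, _, _, _, _, inferInstance, inferInstance, _,
    _, inferInstance, _, inferInstance, inferInstance, _, _, inferInstance, _, σC, σM, hσM,
    l, ψ.comp lam, st_comp hlam hσψ, q6, φ.comp k, st_comp rfl hσC, q7, c, μ, r2, j.comp γ, q3, q1, c'', r, r4, δ,
    κ'', q4, a₂.comp a, q8, q5, q2⟩

/-- The refined valuative criterion: existence, over an affine target. -/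
theorem core {R : Type u} [CommRing R] {s : Spec (.of R) ⟶ S} {f : X ⟶ (yon S).obj (Over.mk s)} {h : U ⟶ X}
    (hv : HV f h) {R₀ L K₁ : Type u} [CommRing R₀] [Field L] [Field K₁] {σ₀ : Spec (.of R₀) ⟶ S}
    (w : (yon S).obj (Over.mk σ₀) ⟶ X) (α : R₀ →+* L) {σL : Spec (.of L) ⟶ S} (hα : sm α ≫ σ₀ = σL)
    (t : (yon S).obj (Over.mk σL) ⟶ U) (ht : t ≫ h = res α hα w)
    {A K : Type u} [CommRing A] [IsDomain A] [ValuationRing A] [Field K] [Algebra A K] [IsFractionRing A K]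
    {σA : Spec (.of A) ⟶ S} {σK : Spec (.of K) ⟶ S} (hAK : sm (algebraMap A K) ≫ σA = σK)
    (top : (yon S).obj (Over.mk σK) ⟶ X) (bot : (yon S).obj (Over.mk σA) ⟶ (yon S).obj (Over.mk s))
    (hc : top ≫ f = res (algebraMap A K) hAK bot) {σ₁ : Spec (.of K₁) ⟶ S}
    (ψ₁ : K →+* K₁) (β₁ : R₀ →+* K₁) (h1 : sm ψ₁ ≫ σK = σ₁) (h2 : sm β₁ ≫ σ₀ = σ₁)
    (hw : res ψ₁ h1 top = res β₁ h2 w) (hker : RingHom.ker α ≤ RingHom.ker β₁) :
    ∃ (A' K' : Type u) (_ : CommRing A') (_ : IsDomain A') (_ : ValuationRing A') (_ : Field K')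
      (_ : Algebra A' K') (_ : IsFractionRing A' K') (φ : A →+* A') (ψ : K →+* K')
      (_ : (algebraMap A' K').comp φ = ψ.comp (algebraMap A K)) (_ : IsLocalHom φ)
      (hψ : sm ψ ≫ σK = sm (algebraMap A' K') ≫ sm φ ≫ σA)
      (l : (yon S).obj (Over.mk (sm φ ≫ σA)) ⟶ X), res (algebraMap A' K') rfl l = res ψ hψ top ∧
        l ≫ f = res φ rfl bot := by
  obtain ⟨ρ, hρ, hwf⟩ := exists_res (w ≫ f)
  obtain ⟨β, hβ, rfl⟩ := exists_res bot
  have hrel : (ψ₁.comp (algebraMap A K)).comp β = β₁.comp ρ := by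
    have e1 : res ψ₁ h1 (top ≫ f) = res β₁ h2 (w ≫ f) := by rw [← res_comp, ← res_comp, hw]
    rw [hc, hwf, res_res, res_sp, res_sp] at e1
    exact yon_sp_injective e1
  obtain ⟨C', M', B', M₃, A'', K'', κ, _, _, _, _, _, _, _, _, _, _, _, _, _, _, _, _, σC, σM, hσM, l, ν, hν, q6, χ,
    hχ, q7, c, μ, r2, g, q3, q1, c'', r, r4, δ, κ'', q4, a', q8, q5, q2⟩ :=
    core_data hv w α hα t ht ρ hρ hwf β ψ₁ β₁ hrel hker
  have s1 : sm c ≫ σC = sm g ≫ σ₀ := by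
    rw [← hχ, ← hρ, sm_comp_assoc, sm_comp_assoc, q1]
  have hb : res c s1 (l ≫ f) = res g rfl (w ≫ f) := by
    rw [q7, hwf, res_sp, res_sp]
    exact congrArg _ (sp_congr q1 _ _)
  have key := hv.key w α hα t ht hσM l ν hν q6 c μ r2 g q3 s1 rfl hb
  have s3 : sm c'' ≫ σC = sm a' ≫ σA := by
    rw [← hχ, ← hβ, sm_comp_assoc, sm_comp_assoc, q2]
  obtain ⟨hψ, hl⟩ := last w hAK top ψ₁ β₁ h1 h2 hw l c g s1 rfl key c'' r r4 δ κ'' q4 a' q5 s3
  refine ⟨A'', K'', _, inferInstance, inferInstance, _, _, inferInstance, a', (κ''.comp δ).comp ψ₁, q5, q8, hψ,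
    res c'' s3 l, hl, ?_⟩
  rw [res_comp, q7, res_sp, res_sp]
  exact congrArg _ (sp_congr q2 _ _)

/-- The refined valuative criterion: existence, over an affine target, for a square. -/
theorem core_sq {R : Type u} [CommRing R] {s : Spec (.of R) ⟶ S} {f : X ⟶ (yon S).obj (Over.mk s)} {h : U ⟶ X}
    (hv : HV f h) {R₀ L K₁ : Type u} [CommRing R₀] [Field L] [Field K₁] {σ₀ : Spec (.of R₀) ⟶ S}
    (w : (yon S).obj (Over.mk σ₀) ⟶ X) (α : R₀ →+* L) {σL : Spec (.of L) ⟶ S} (hα : sm α ≫ σ₀ = σL)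
    (t : (yon S).obj (Over.mk σL) ⟶ U) (ht : t ≫ h = res α hα w)
    (sq : ValSq f) {σ₁ : Spec (.of K₁) ⟶ S}
    (ψ₁ : sq.K →+* K₁) (β₁ : R₀ →+* K₁) (h1 : sm ψ₁ ≫ sm (algebraMap sq.A sq.K) ≫ sq.str = σ₁)
    (h2 : sm β₁ ≫ σ₀ = σ₁)
    (hw : res ψ₁ h1 sq.top = res β₁ h2 w) (hker : RingHom.ker α ≤ RingHom.ker β₁) : sq.HasLiftExt := by
  obtain ⟨A', K', _, _, _, _, _, _, φ, ψ, e1, e2, hψ, l, e3, e4⟩ :=
    core hv w α hα t ht rfl sq.top sq.bot sq.comm ψ₁ β₁ h1 h2 hw hker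
  exact ⟨{ A' := A', K' := K', φ := φ, ψ := ψ, comm := e1, isLocalHom := e2 }, l, e3, e4⟩

end K615.RefVC
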