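import Groth.Agent.AlgSp.K615.Desc
import Groth.Agent.AlgSp.K615.Exist

/-!
# Existence of relative normalizations of algebraic spaces (helper615)
-/

set_option autoImplicit false
universe u v
open CategoryTheory CategoryTheory.Limits AlgebraicGeometry Opposite AlgSp

namespace K615.RelNorm

open K615.Norm K615.Aff K615.UN K615.Desc

variable {S : Scheme.{u}}

/-- A quasi-compact quasi-separated morphism to an algebraic space has a relative normalization. -/
theorem exists_uNorm {X Y : Sp S} {f : Y ⟶ X} (hX : IsAlgSpace X) (hqc : IsQuasiCompactMor f)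
    (hqs : IsQuasiSeparatedMor f) :
    ∃ (X' : Sp S) (ν : X' ⟶ X) (f' : Y ⟶ X'), IsAlgSpace X' ∧ UNorm f ν f' := by
  have key : ∀ c : Cov.Chart X, ∃ (N : Over S) (ν : N ⟶ c.U) (g : pullback f c.a ⟶ (yon S).obj N),
      UNorm (pullback.snd f c.a) ((yon S).map ν) g := by
    intro c
    obtain ⟨V, W, N, q, p1, p2, n, ν, g, h1, h2, h3, h4, h5⟩ :=
      Exist.exists_affine hqc hqs c.affine (IsPullback.of_hasPullback f c.a)
    exact ⟨N, ν, g, h5⟩
  choose N ν g hun using key
  let L : Loc f (fun c : Cov.Chart X => (yon S).obj c.U) (fun c => c.a) :=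
    { hU := fun c => IsAlgSpace.yon_obj _
      ha := fun c => c.etale
      Y' := fun c => pullback f c.a
      y := fun c => pullback.fst f c.a
      f' := fun c => pullback.snd f c.a
      sq := fun c => IsPullback.of_hasPullback f c.a
      N := fun c => (yon S).obj (N c)
      ν := fun c => (yon S).map (ν c)
      g := g
      un := hun }
  obtain ⟨X', ν', f', m, h1, h2, h3, h4, h5⟩ := L.exists_glue hX (points_of_charts hX)
  refine ⟨X', ν', f', h1, h3, h2, fun U a hU ha => ?_⟩
  let c : Cov.Chart X := ⟨U, a, hU, ha⟩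
  exact LNorm.of_one (L.sq c) (h4 c) (L.un c).w (h5 c) ((L.un c).isRel (L.hU c))

end K615.RelNorm
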