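import Groth.Agent.AlgSp.K615.ValAlg
import Groth.Prelude.Def_AlgSpMor5

/-!
# Points of sheaves with values in rings (helper615)

Bookkeeping for maps `h_{Spec D} ⟶ F` and ring homomorphisms.
-/

set_option autoImplicit false
universe u v
open CategoryTheory CategoryTheory.Limits AlgebraicGeometry Opposite AlgSp

namespace K615.RingPt

variable {S : Scheme.{u}} {D D' D'' : Type u} [CommRing D] [CommRing D'] [CommRing D'']

/-- `Spec.map` of a ring homomorphism of types. -/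
noncomputable abbrev sm (g : D →+* D') : Spec (.of D') ⟶ Spec (.of D) := Spec.map (CommRingCat.ofHom g)

theorem sm_comp (g : D →+* D') (g' : D' →+* D'') : sm g' ≫ sm g = sm (g'.comp g) := by
  rw [← Spec.map_comp, ← CommRingCat.ofHom_comp]

theorem sm_comp_assoc {Z : Scheme.{u}} (g : D →+* D') (g' : D' →+* D'') (k : Spec (.of D) ⟶ Z) :
    sm g' ≫ sm g ≫ k = sm (g'.comp g) ≫ k := by
  rw [← Category.assoc, sm_comp]

theorem sm_injective {g g' : D →+* D'} (h : sm g = sm g') : g = g' := by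
  have := congrArg CommRingCat.Hom.hom (Spec.map_injective h)
  exact this

theorem exists_sm (k : Spec (.of D') ⟶ Spec (.of D)) : ∃ g : D →+* D', k = sm g :=
  ⟨(Spec.preimage k).hom, (Spec.map_preimage k).symm⟩

/-- The morphism `Spec D' ⟶ Spec D` over `S`. -/
noncomputable def sp (g : D →+* D') {σ : Spec (.of D) ⟶ S} {σ' : Spec (.of D') ⟶ S} (h : sm g ≫ σ = σ') :
    Over.mk σ' ⟶ Over.mk σ := Over.homMk (sm g) h

theorem sp_left (g : D →+* D') {σ : Spec (.of D) ⟶ S} {σ' : Spec (.of D') ⟶ S} (h : sm g ≫ σ = σ') :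
    (sp g h).left = sm g := rfl

theorem sp_congr {g g' : D →+* D'} (e : g = g') {σ : Spec (.of D) ⟶ S} {σ' : Spec (.of D') ⟶ S}
    (h : sm g ≫ σ = σ') (h' : sm g' ≫ σ = σ') : sp g h = sp g' h' := by
  subst e; rfl

theorem st_comp {g : D →+* D'} {g' : D' →+* D''} {σ : Spec (.of D) ⟶ S} {σ' : Spec (.of D') ⟶ S}
    {σ'' : Spec (.of D'') ⟶ S} (h : sm g ≫ σ = σ') (h' : sm g' ≫ σ' = σ'') : sm (g'.comp g) ≫ σ = σ'' := by
  rw [← sm_comp, Category.assoc, h, h']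

theorem sp_comp {g : D →+* D'} {g' : D' →+* D''} {σ : Spec (.of D) ⟶ S} {σ' : Spec (.of D') ⟶ S}
    {σ'' : Spec (.of D'') ⟶ S} (h : sm g ≫ σ = σ') (h' : sm g' ≫ σ' = σ'') :
    sp g' h' ≫ sp g h = sp (g'.comp g) (st_comp h h') := by
  ext : 1
  exact sm_comp g g'

theorem exists_sp {σ : Spec (.of D) ⟶ S} {σ' : Spec (.of D') ⟶ S} (k : Over.mk σ' ⟶ Over.mk σ) :
    ∃ (g : D →+* D') (h : sm g ≫ σ = σ'), k = sp g h := by
  obtain ⟨g, hg⟩ := exists_sm k.left
  have h : sm g ≫ σ = σ' := by rw [← hg]; exact Over.w k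
  exact ⟨g, h, by ext : 1; exact hg⟩

variable {F G : Sp S}

/-- Restriction of a ring valued point. -/
noncomputable def res (g : D →+* D') {σ : Spec (.of D) ⟶ S} {σ' : Spec (.of D') ⟶ S} (h : sm g ≫ σ = σ')
    (x : (yon S).obj (Over.mk σ) ⟶ F) : (yon S).obj (Over.mk σ') ⟶ F := (yon S).map (sp g h) ≫ x

theorem res_res {g : D →+* D'} {g' : D' →+* D''} {σ : Spec (.of D) ⟶ S} {σ' : Spec (.of D') ⟶ S}
    {σ'' : Spec (.of D'') ⟶ S} (h : sm g ≫ σ = σ') (h' : sm g' ≫ σ' = σ'')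
    (x : (yon S).obj (Over.mk σ) ⟶ F) : res g' h' (res g h x) = res (g'.comp g) (st_comp h h') x := by
  rw [res, res, res, ← Category.assoc, ← (yon S).map_comp, sp_comp]

theorem res_congr {g g' : D →+* D'} (e : g = g') {σ : Spec (.of D) ⟶ S} {σ' : Spec (.of D') ⟶ S}
    (h : sm g ≫ σ = σ') (h' : sm g' ≫ σ = σ') (x : (yon S).obj (Over.mk σ) ⟶ F) : res g h x = res g' h' x := by
  subst e; rfl

theorem res_comp {g : D →+* D'} {σ : Spec (.of D) ⟶ S} {σ' : Spec (.of D') ⟶ S} (h : sm g ≫ σ = σ')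
    (x : (yon S).obj (Over.mk σ) ⟶ F) (f : F ⟶ G) : res g h x ≫ f = res g h (x ≫ f) :=
  Category.assoc _ _ _

theorem res_sp {g : D →+* D'} {g' : D' →+* D''} {σ : Spec (.of D) ⟶ S} {σ' : Spec (.of D') ⟶ S}
    {σ'' : Spec (.of D'') ⟶ S} (h : sm g ≫ σ = σ') (h' : sm g' ≫ σ' = σ'') :
    res g' h' ((yon S).map (sp g h)) = (yon S).map (sp (g'.comp g) (st_comp h h')) := by
  rw [res, ← (yon S).map_comp, sp_comp]

theorem exists_res {σ : Spec (.of D) ⟶ S} {σ' : Spec (.of D') ⟶ S}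
    (k : (yon S).obj (Over.mk σ') ⟶ (yon S).obj (Over.mk σ)) :
    ∃ (g : D →+* D') (h : sm g ≫ σ = σ'), k = (yon S).map (sp g h) := by
  obtain ⟨k, rfl⟩ := (yon S).map_surjective k
  obtain ⟨g, h, rfl⟩ := exists_sp k
  exact ⟨g, h, rfl⟩

theorem yon_sp_injective {σ : Spec (.of D) ⟶ S} {σ' : Spec (.of D') ⟶ S} {g g' : D →+* D'}
    {h : sm g ≫ σ = σ'} {h' : sm g' ≫ σ = σ'} (e : (yon S).map (sp g h) = (yon S).map (sp g' h')) : g = g' :=
  sm_injective (congrArg (fun k => k.left) ((yon S).map_injective e))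

end K615.RingPt
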