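import Groth.Agent.AlgSp.K615.Desc
import Mathlib.AlgebraicGeometry.Normalization

/-!
# Relative normalization of schemes as algebraic spaces (helper615)
-/

set_option autoImplicit false
universe u v
open CategoryTheory CategoryTheory.Limits AlgebraicGeometry Opposite AlgSp

namespace K615.SchNorm

variable {S : Scheme.{u}}

/-- An integral morphism to `h_U` is, up to isomorphism, `h_T ⟶ h_U` with `T ⟶ U` integral. -/
theorem exists_iso {Z : Sp S} {U : Over S} (π : Z ⟶ (yon S).obj U) (hπ : IsIntegralMor π) :
    ∃ (T : Over S) (i : T ⟶ U) (e : (yon S).obj T ≅ Z), e.hom ≫ π = (yon S).map i ∧ IsIntegralHom i.left := by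
  have h := K617.FinLoc.isIntegralMor_iff.1 hπ
  obtain ⟨T, i, a, sq⟩ := h.1 (𝟙 ((yon S).obj U))
  have : IsIso a := sq.isIso_fst_of_isIso
  exact ⟨T, i, asIso a, by simpa using sq.w, h.2 _ _ _ sq⟩

/-- The universal property of the relative normalization of schemes, over `S`. -/
theorem existsUnique_over {V U N T : Over S} (g : V ⟶ U) [QuasiCompact g.left] [QuasiSeparated g.left]
    (f' : V ⟶ N) (ν : N ⟶ U) (e : N.left ≅ g.left.normalization)
    (he1 : f'.left ≫ e.hom = g.left.toNormalization) (he2 : e.hom ≫ g.left.fromNormalization = ν.left)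
    (π : T ⟶ U) (hπ : IsIntegralHom π.left) (k : V ⟶ T) (hk : k ≫ π = g) :
    ∃! h : N ⟶ T, f' ≫ h = k ∧ h ≫ π = ν := by
  have H : g.left = k.left ≫ π.left := by rw [← Over.comp_left, hk]
  have h2 : (e.hom ≫ g.left.normalizationDesc k.left π.left H) ≫ π.left = ν.left := by
    rw [Category.assoc, Scheme.Hom.normalizationDesc_comp, he2]
  have h1 : f'.left ≫ e.hom ≫ g.left.normalizationDesc k.left π.left H = k.left := by
    rw [← Category.assoc, he1, Scheme.Hom.toNormalization_normalizationDesc]
  refine ⟨Over.homMk (e.hom ≫ g.left.normalizationDesc k.left π.left H) ?_, ⟨?_, ?_⟩, ?_⟩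
  · rw [← Over.w π, ← Category.assoc, h2, Over.w]
  · ext : 1
    exact h1
  · ext : 1
    exact h2
  · rintro h ⟨ha, hb⟩
    ext : 1
    have hb' : h.left ≫ π.left = ν.left := by rw [← Over.comp_left, hb]
    have ha' : f'.left ≫ h.left = k.left := by rw [← Over.comp_left, ha]
    have he1' : g.left.toNormalization ≫ e.inv = f'.left := by rw [← he1, Category.assoc, e.hom_inv_id,
      Category.comp_id]
    have he2' : e.inv ≫ ν.left = g.left.fromNormalization := by rw [← he2, e.inv_hom_id_assoc]
    have : e.inv ≫ h.left = g.left.normalizationDesc k.left π.left H := by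
      refine Scheme.Hom.normalization.hom_ext g.left _ _ π.left ?_ ?_ ?_
      · rw [← Category.assoc, he1', ha', Scheme.Hom.toNormalization_normalizationDesc]
      · rw [Category.assoc, hb', he2']
      · rw [Scheme.Hom.normalizationDesc_comp]
    change h.left = e.hom ≫ g.left.normalizationDesc k.left π.left H
    rw [← this, e.hom_inv_id_assoc]

theorem isRel {V U N : Over S} (g : V ⟶ U)
    [QuasiCompact g.left] [QuasiSeparated g.left] (f' : V ⟶ N) (ν : N ⟶ U)
    (e : N.left ≅ g.left.normalization) (he1 : f'.left ≫ e.hom = g.left.toNormalization)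
    (he2 : e.hom ≫ g.left.fromNormalization = ν.left) :
    IsRelNormalization ((yon S).map g) ((yon S).map ν) ((yon S).map f') := by
  have hν : IsIntegralHom ν.left := by rw [← he2]; infer_instance
  refine ⟨?_, Int.yon_map ν hν, ?_⟩
  · rw [← (yon S).map_comp]
    congr 1
    ext : 1
    rw [Over.comp_left, ← he2, ← Category.assoc, he1, Scheme.Hom.toNormalization_fromNormalization]
  · intro Z hZ π k hπ hk
    obtain ⟨T, i, d, hd, hi⟩ := exists_iso π hπ
    obtain ⟨k', hk'⟩ := (yon S).map_surjective (k ≫ d.inv)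
    have hd' : d.inv ≫ (yon S).map i = π := by rw [← hd, d.inv_hom_id_assoc]
    obtain ⟨h, ⟨hh1, hh2⟩, hu⟩ := existsUnique_over g f' ν e he1 he2 i hi k' ((yon S).map_injective (by
      rw [(yon S).map_comp, hk', Category.assoc, hd', hk]))
    refine ⟨(yon S).map h ≫ d.hom, ⟨?_, ?_⟩, ?_⟩
    · rw [← Category.assoc, ← (yon S).map_comp, hh1, hk', Category.assoc, d.inv_hom_id, Category.comp_id]
    · rw [Category.assoc, hd, ← (yon S).map_comp, hh2]
    · rintro t ⟨ht1, ht2⟩
      obtain ⟨t', ht'⟩ := (yon S).map_surjective (t ≫ d.inv)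
      have : t' = h := hu t' ⟨(yon S).map_injective (by
        rw [(yon S).map_comp, ht', ← Category.assoc, ht1, hk']), (yon S).map_injective (by
        rw [(yon S).map_comp, ht', Category.assoc, hd', ht2])⟩
      rw [← this, ht', Category.assoc, d.inv_hom_id, Category.comp_id]

end K615.SchNorm
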