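import Groth.Agent.AlgSp.K615.Aff

/-!
# Relative normalizations that localize (helper615)

`UNorm f ν f'`: the factorisation `Y ⟶ X' ⟶ X` has `X' ⟶ X` integral and becomes a relative normalization over every
affine étale chart of `X`.
-/

set_option autoImplicit false
universe u v
open CategoryTheory CategoryTheory.Limits AlgebraicGeometry Opposite AlgSp

namespace K615.UN

open K615.Norm K615.Aff

variable {S : Scheme.{u}}

/-- The factorisation `Y ⟶ X' ⟶ X` of `f` is a relative normalization over all affine étale charts of `X`. -/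
structure UNorm {X Y X' : Sp S} (f : Y ⟶ X) (ν : X' ⟶ X) (f' : Y ⟶ X') : Prop where
  w : f' ≫ ν = f
  integral : IsIntegralMor ν
  charts : ∀ (U : Over S) (a : (yon S).obj U ⟶ X), IsAffine U.left → RepWith @Etale a → LNorm f ν f' a

variable {X Y X' : Sp S} {f : Y ⟶ X} {ν : X' ⟶ X} {f' : Y ⟶ X'}

/-- Over an algebraic space, `UNorm` implies the universal property. -/
theorem UNorm.isRel (h : UNorm f ν f') (hX : IsAlgSpace X) : IsRelNormalization f ν f' := by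
  refine isRelNormalization_of_charts h.w h.integral (fun c : Cov.Chart X => c.affine) (Cov.charts_jsurj hX)
    (fun c => h.charts _ _ c.affine c.etale) ?_
  intro i j T u u' huu
  obtain ⟨R, hR, H⟩ := Cov.charts_refine i.a j.a i.etale j.etale T u u' huu
  refine ⟨R, hR, fun T' k hk => ?_⟩
  obtain ⟨W, e, e', t, hW, he, he', h1, h2, h3⟩ := H T' k hk
  exact ⟨W, (yon S).map e, (yon S).map e', (yon S).map t, hW, h1,
    h.charts _ _ hW (Cov.repWith_etale_comp e i.a i.etale), h2, h3⟩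

/-- `UNorm` is stable under étale base change. -/
theorem UNorm.baseChange (h : UNorm f ν f') {W YW NW : Sp S} {w : W ⟶ X} (hw : IsEtaleMor w)
    {y : YW ⟶ Y} {fW : YW ⟶ W} {n : NW ⟶ X'} {νW : NW ⟶ W} {g : YW ⟶ NW} (sqY : IsPullback y fW f w)
    (sqN : IsPullback n νW ν w) (hg : g ≫ νW = fW) (hg' : g ≫ n = y ≫ f') : UNorm fW νW g where
  w := hg
  integral := Int.of_isPullback sqN h.integral
  charts := fun U a hU ha => LNorm.of_comp sqY sqN hg' a (h.charts U _ hU (hw a ha))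

/-- Two factorisations with the universal property are isomorphic. -/
theorem exists_iso {X₁ X₂ : Sp S} (h₁ : IsAlgSpace X₁) (h₂ : IsAlgSpace X₂) {ν₁ : X₁ ⟶ X} {ν₂ : X₂ ⟶ X}
    {f₁ : Y ⟶ X₁} {f₂ : Y ⟶ X₂} (hn₁ : IsRelNormalization f ν₁ f₁) (hn₂ : IsRelNormalization f ν₂ f₂) :
    ∃ e : X₁ ≅ X₂, f₁ ≫ e.hom = f₂ ∧ e.hom ≫ ν₂ = ν₁ := by
  obtain ⟨a, ⟨ha1, ha2⟩, -⟩ := hn₁.2.2 h₂ ν₂ f₂ hn₂.2.1 hn₂.1
  obtain ⟨b, ⟨hb1, hb2⟩, -⟩ := hn₂.2.2 h₁ ν₁ f₁ hn₁.2.1 hn₁.1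
  refine ⟨⟨a, b, ?_, ?_⟩, ha1, ha2⟩
  · refine (hn₁.2.2 h₁ ν₁ f₁ hn₁.2.1 hn₁.1).unique ⟨?_, ?_⟩ ⟨Category.comp_id _, Category.id_comp _⟩
    · rw [← Category.assoc, ha1, hb1]
    · rw [Category.assoc, hb2, ha2]
  · refine (hn₂.2.2 h₂ ν₂ f₂ hn₂.2.1 hn₂.1).unique ⟨?_, ?_⟩ ⟨Category.comp_id _, Category.id_comp _⟩
    · rw [← Category.assoc, hb1, ha1]
    · rw [Category.assoc, ha2, hb2]

theorem UNorm.of_iso {X₁ X₂ : Sp S} {ν₁ : X₁ ⟶ X} {ν₂ : X₂ ⟶ X}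
    {f₁ : Y ⟶ X₁} {f₂ : Y ⟶ X₂} (e : X₁ ≅ X₂) (he1 : f₁ ≫ e.hom = f₂) (he2 : e.hom ≫ ν₂ = ν₁)
    (h : UNorm f ν₁ f₁) : UNorm f ν₂ f₂ where
  w := by rw [← h.w, ← he1, ← he2, Category.assoc]
  integral := by
    have : ν₂ = e.inv ≫ ν₁ := by rw [← he2, Iso.inv_hom_id_assoc]
    rw [this]; exact Int.iso_comp _ _ h.integral
  charts := by
    intro U a hU ha YU NU y fU n νU g sqY sqN hg hg'
    have e1 : e.inv ≫ ν₁ = ν₂ := by rw [← he2, Iso.inv_hom_id_assoc]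
    refine h.charts U a hU ha y fU (n ≫ e.inv) νU g sqY ?_ hg ?_
    · refine IsPullback.of_iso sqN (Iso.refl _) e.symm (Iso.refl _) (Iso.refl _) ?_ ?_ ?_ ?_
      · simp
      · simp
      · simp [e1]
      · simp
    · rw [← Category.assoc, hg', Category.assoc, ← he1, Category.assoc, e.hom_inv_id, Category.comp_id]

/-- Any relative normalization is `UNorm` as soon as one `UNorm` exists. -/
theorem UNorm.of_isRel {X₁ X₂ : Sp S} (hX : IsAlgSpace X) (h₁ : IsAlgSpace X₁) (h₂ : IsAlgSpace X₂)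
    {ν₁ : X₁ ⟶ X} {ν₂ : X₂ ⟶ X} {f₁ : Y ⟶ X₁} {f₂ : Y ⟶ X₂} (hn₁ : UNorm f ν₁ f₁)
    (hn₂ : IsRelNormalization f ν₂ f₂) : UNorm f ν₂ f₂ := by
  obtain ⟨e, he1, he2⟩ := exists_iso h₁ h₂ (hn₁.isRel hX) hn₂
  exact hn₁.of_iso e he1 he2

/-- The affine case. -/
theorem of_nChar {U V W N : Over S} {n : V ⟶ N} {ν : N ⟶ U} {p1 p2 : W ⟶ V} (h : NChar n ν p1 p2)
    (hU : IsAffine U.left) {Y : Sp S} {q : (yon S).obj V ⟶ Y} (hc : AffCov q p1 p2) {fY : Y ⟶ (yon S).obj U}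
    (hv : q ≫ fY = (yon S).map (n ≫ ν)) {g : Y ⟶ (yon S).obj N} (hg : q ≫ g = (yon S).map n) :
    UNorm fY ((yon S).map ν) g := by
  have hgν : g ≫ (yon S).map ν = fY := hc.ext (by
    rw [← Category.assoc, hg, hv, (yon S).map_comp])
  refine ⟨hgν, Int.yon_map ν h.integral, ?_⟩
  intro U' a hU' ha
  obtain ⟨e, rfl⟩ := (yon S).map_surjective a
  have he : Etale e.left := (repWith_yon_map_iff _ _).1 ha
  have sqN := IsPullback.of_hasPullback ν e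
  have sqV := IsPullback.of_hasPullback (n ≫ ν) e
  have sqW := IsPullback.of_hasPullback (p1 ≫ n ≫ ν) e
  have sqY := IsPullback.of_hasPullback fY ((yon S).map e)
  have sqN' := Int.isPullback_yon sqN
  let n' := sqN.lift (pullback.fst (n ≫ ν) e ≫ n) (pullback.snd (n ≫ ν) e) (by
    rw [Category.assoc, sqV.w])
  have hn1 : n' ≫ pullback.fst ν e = pullback.fst (n ≫ ν) e ≫ n := sqN.lift_fst _ _ _
  have hn2 : n' ≫ pullback.snd ν e = pullback.snd (n ≫ ν) e := sqN.lift_snd _ _ _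
  have w2 : p2 ≫ n ≫ ν = p1 ≫ n ≫ ν := by
    rw [← Category.assoc, ← h.eq, Category.assoc]
  let p1' := sqV.lift (pullback.fst (p1 ≫ n ≫ ν) e ≫ p1) (pullback.snd (p1 ≫ n ≫ ν) e) (by
    rw [Category.assoc, sqW.w])
  let p2' := sqV.lift (pullback.fst (p1 ≫ n ≫ ν) e ≫ p2) (pullback.snd (p1 ≫ n ≫ ν) e) (by
    rw [Category.assoc, w2, sqW.w])
  have h1 : p1' ≫ pullback.fst (n ≫ ν) e = pullback.fst (p1 ≫ n ≫ ν) e ≫ p1 := sqV.lift_fst _ _ _
  have h1' : p1' ≫ pullback.snd (n ≫ ν) e = pullback.snd (p1 ≫ n ≫ ν) e := sqV.lift_snd _ _ _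
  have h2 : p2' ≫ pullback.fst (n ≫ ν) e = pullback.fst (p1 ≫ n ≫ ν) e ≫ p2 := sqV.lift_fst _ _ _
  have h2' : p2' ≫ pullback.snd (n ≫ ν) e = pullback.snd (p1 ≫ n ≫ ν) e := sqV.lift_snd _ _ _
  let q' := sqY.lift ((yon S).map (pullback.fst (n ≫ ν) e) ≫ q) ((yon S).map (pullback.snd (n ≫ ν) e)) (by
    rw [Category.assoc, hv, ← (yon S).map_comp, sqV.w, (yon S).map_comp])
  have hq1 : q' ≫ pullback.fst fY ((yon S).map e) = (yon S).map (pullback.fst (n ≫ ν) e) ≫ q :=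
    sqY.lift_fst _ _ _
  have hq2 : q' ≫ pullback.snd fY ((yon S).map e) = (yon S).map (pullback.snd (n ≫ ν) e) :=
    sqY.lift_snd _ _ _
  let g' := sqN'.lift (pullback.fst fY ((yon S).map e) ≫ g) (pullback.snd fY ((yon S).map e)) (by
    rw [Category.assoc, hgν, sqY.w])
  have hg1 : g' ≫ (yon S).map (pullback.fst ν e) = pullback.fst fY ((yon S).map e) ≫ g :=
    sqN'.lift_fst _ _ _
  have hg2 : g' ≫ (yon S).map (pullback.snd ν e) = pullback.snd fY ((yon S).map e) := sqN'.lift_snd _ _ _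
  have hc' := hc.of_isPullback hU hU' sqY hv sqV sqW hq1 hq2 h1 h2 h1' h2'
  have hN' := h.of_isPullback hU hU' hc.affV hc.affW (inferInstance : Smooth e.left) sqN sqV sqW hn1 hn2 h1 h2
    h1' h2'
  refine LNorm.of_one sqY sqN' hg2 hg1 (hN'.isRel hU' hc' ?_ ?_)
  · rw [hq2, ← hn2]
  · apply sqN'.hom_ext
    · rw [Category.assoc, hg1, ← Category.assoc, hq1, Category.assoc, hg, ← (yon S).map_comp,
        ← (yon S).map_comp, hn1]
    · rw [Category.assoc, hg2, hq2, ← (yon S).map_comp, hn2]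

end K615.UN
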