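import Groth.Agent.AlgSp.K596.Univ
import Mathlib.AlgebraicGeometry.Morphisms.UniversallyInjective

/-!
# Representable universally injective morphisms (helper615)
-/

set_option autoImplicit false
universe u
open CategoryTheory CategoryTheory.Limits AlgebraicGeometry
open AlgSp

namespace K615.UnivInj

/-- A representable universally injective morphism has universally injective base changes to schemes. -/
theorem repWith_universallyInjective {S : Scheme.{u}} {F G : Sp S} {f : F ⟶ G} (hf : Representable f)
    (hu : IsUnivInjectiveMor f) : RepWith @UniversallyInjective f := by
  have := K596.Univ.repWith_of_universally (Q := topologically (fun {α β} _ _ f => Function.Injective f)) hf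
    (fun U V g fst snd sq => ?_)
  · rw [← universallyInjective_eq] at this
    exact this
  · have h1 := hu (IsAlgSpace.yon_obj U) g fst _ sq
    change Function.Injective (Points.map _) at h1
    intro a b hab
    apply (Points.schemeEquiv V).injective
    apply h1
    change Points.map ((yon S).map snd) (Points.schemeHomeo V a) =
      Points.map ((yon S).map snd) (Points.schemeHomeo V b)
    rw [Points.map_yon_map_apply, Points.map_yon_map_apply]
    exact congrArg _ hab

end K615.UnivInj
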