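import Mathlib

/-!
# Valuation ring algebra for the refined valuative criterion (helper615)

* `exists_val`: valuation rings with prescribed extension of the generic and the residue field;
* `comp`: composite valuation rings;
* `exists_prime_over`: primes lift along dominating extensions of valuation rings;
* `valuationRing_atPrime`: localizations of valuation rings.
-/

set_option autoImplicit false
universe u v

noncomputable section

namespace K615.ValAlg

open IsLocalRing

/-- Given ring maps `α : R ⟶ L` and `β : R ⟶ K₁` to fields with `ker α ≤ ker β` there are a valuation ring `B` of an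
extension `M` of `L` and a map `R ⟶ B` inducing `α` generically and `β` on the residue field. -/
theorem exists_val {R L K₁ : Type u} [CommRing R] [Field L] [Field K₁] (α : R →+* L) (β : R →+* K₁)
    (h : RingHom.ker α ≤ RingHom.ker β) :
    ∃ (M : Type u) (_ : Field M) (B : ValuationSubring M) (lam : L →+* M) (γ : R →+* B)
      (δ : K₁ →+* ResidueField B), lam.comp α = B.subtype.comp γ ∧ (residue B).comp γ = δ.comp β := by
  let g : MvPolynomial K₁ R →+* K₁ := MvPolynomial.eval₂Hom β id
  have hg : Function.Surjective g := fun a => ⟨MvPolynomial.X a, by simp [g]⟩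
  let M := FractionRing (MvPolynomial K₁ L)
  let α' : MvPolynomial K₁ R →+* M := (algebraMap (MvPolynomial K₁ L) M).comp (MvPolynomial.map α)
  have hα' : RingHom.ker α' ≤ RingHom.ker g := by
    intro p hp
    have h1 : MvPolynomial.map α p = 0 := by
      have : algebraMap (MvPolynomial K₁ L) M (MvPolynomial.map α p) = 0 := hp
      exact (IsFractionRing.injective (MvPolynomial K₁ L) M) (by rw [this, map_zero])
    have h2 : MvPolynomial.map β p = 0 := by
      ext m
      rw [MvPolynomial.coeff_map, MvPolynomial.coeff_zero]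
      have h3 : α (p.coeff m) = 0 := by
        rw [← MvPolynomial.coeff_map, h1, MvPolynomial.coeff_zero]
      exact h h3
    rw [RingHom.mem_ker]
    change MvPolynomial.eval₂ β id p = 0
    rw [← MvPolynomial.eval_map, h2, map_zero]
  have hprime : (RingHom.ker g).IsPrime := RingHom.ker_isPrime g
  have hunit : ∀ s : (RingHom.ker g).primeCompl, IsUnit (α' s) := by
    intro s
    rw [isUnit_iff_ne_zero]
    exact fun h0 => s.2 (hα' h0)
  let a : Localization.AtPrime (RingHom.ker g) →+* M := IsLocalization.lift hunit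
  have ha : a.comp (algebraMap _ _) = α' := IsLocalization.lift_comp hunit
  obtain ⟨B, hB, hloc⟩ := exists_factor_valuationRing a
  let a' : Localization.AtPrime (RingHom.ker g) →+* B := a.codRestrict B.toSubring hB
  have hloc' : IsLocalHom a' := hloc
  let γ' : MvPolynomial K₁ R →+* B := a'.comp (algebraMap _ _)
  have hγ' : RingHom.ker g ≤ RingHom.ker ((residue B).comp γ') := by
    intro p hp
    rw [RingHom.mem_ker, RingHom.comp_apply, residue_eq_zero_iff]
    change a' (algebraMap _ _ p) ∈ _
    rw [mem_maximalIdeal, mem_nonunits_iff, isUnit_map_iff]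
    exact (IsLocalization.AtPrime.isUnit_to_map_iff (Localization.AtPrime (RingHom.ker g))
      (RingHom.ker g) p).not.2 (fun h => h hp)
  let δ : K₁ →+* ResidueField B :=
    RingHom.liftOfRightInverse g (Function.surjInv hg) (Function.rightInverse_surjInv hg)
      ⟨(residue B).comp γ', hγ'⟩
  have hδ : δ.comp g = (residue B).comp γ' := by
    refine RingHom.ext fun p => ?_
    exact RingHom.liftOfRightInverse_comp_apply g (Function.surjInv hg) (Function.rightInverse_surjInv hg)
      ⟨(residue B).comp γ', hγ'⟩ p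
  refine ⟨M, inferInstance, B, (algebraMap (MvPolynomial K₁ L) M).comp MvPolynomial.C, γ'.comp MvPolynomial.C, δ,
    ?_, ?_⟩
  · ext x
    have := RingHom.congr_fun ha (MvPolynomial.C x)
    change _ = a (algebraMap _ _ (MvPolynomial.C x))
    rw [RingHom.comp_apply] at this
    rw [this]
    simp [α']
  · rw [← RingHom.comp_assoc, ← hδ, RingHom.comp_assoc]
    congr 1
    ext x
    simp [g]

/-- The composite of the valuation ring `B` with a valuation ring `A₂` of its residue field. -/
def comp {M : Type u} [Field M] (B : ValuationSubring M) (A₂ : ValuationSubring (ResidueField B)) :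
    ValuationSubring M where
  carrier := {x | ∃ hx : x ∈ B, residue B ⟨x, hx⟩ ∈ A₂}
  mul_mem' := by
    rintro x y ⟨hx, hx'⟩ ⟨hy, hy'⟩
    refine ⟨mul_mem hx hy, ?_⟩
    have := mul_mem hx' hy'
    rwa [← map_mul] at this
  one_mem' := ⟨one_mem _, by
    have : (⟨1, one_mem B⟩ : B) = 1 := rfl
    rw [this, map_one]; exact one_mem _⟩
  add_mem' := by
    rintro x y ⟨hx, hx'⟩ ⟨hy, hy'⟩
    refine ⟨add_mem hx hy, ?_⟩
    have := add_mem hx' hy'
    rwa [← map_add] at this
  zero_mem' := ⟨zero_mem _, by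
    have : (⟨0, zero_mem B⟩ : B) = 0 := rfl
    rw [this, map_zero]; exact zero_mem _⟩
  neg_mem' := by
    rintro x ⟨hx, hx'⟩
    refine ⟨neg_mem hx, ?_⟩
    have := neg_mem hx'
    rwa [← map_neg] at this
  mem_or_inv_mem' := by
    intro x
    have key : ∀ x : M, x ∈ B → (∃ hx : x ∈ B, residue B ⟨x, hx⟩ ∈ A₂) ∨
        ∃ hx : x⁻¹ ∈ B, residue B ⟨x⁻¹, hx⟩ ∈ A₂ := by
      intro x hx
      by_cases h0 : residue B ⟨x, hx⟩ = 0
      · exact Or.inl ⟨hx, by rw [h0]; exact zero_mem _⟩
      · have hu : IsUnit (⟨x, hx⟩ : B) := by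
          exact (residue_ne_zero_iff_isUnit _).1 h0
        obtain ⟨y, hy⟩ := hu.exists_right_inv
        have hxy : x * y.1 = 1 := congrArg Subtype.val hy
        have hyx : y.1 = x⁻¹ := (eq_inv_of_mul_eq_one_right hxy)
        rcases A₂.mem_or_inv_mem (residue B ⟨x, hx⟩) with h | h
        · exact Or.inl ⟨hx, h⟩
        · have hx' : x⁻¹ ∈ B := by rw [← hyx]; exact y.2
          refine Or.inr ⟨hx', ?_⟩
          have e : (⟨x⁻¹, hx'⟩ : B) = y := Subtype.ext hyx.symm
          rw [e]
          have : residue B y = (residue B ⟨x, hx⟩)⁻¹ := by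
            rw [eq_comm, inv_eq_iff_eq_inv, ← mul_eq_one_iff_eq_inv₀]
            · rw [← map_mul, hy, map_one]
            · intro h0'
              have := congrArg (residue B) hy
              rw [map_mul, h0', mul_zero, map_one] at this
              exact zero_ne_one this
          rw [this]
          exact h
    rcases B.mem_or_inv_mem x with hx | hx
    · exact key x hx
    · rcases key x⁻¹ hx with h | h
      · exact Or.inr h
      · rw [inv_inv] at h
        exact Or.inl h

theorem comp_le {M : Type u} [Field M] (B : ValuationSubring M) (A₂ : ValuationSubring (ResidueField B)) :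
    comp B A₂ ≤ B := fun _ hx => hx.1

/-- The inclusion of the composite valuation ring. -/
def incl {M : Type u} [Field M] (B : ValuationSubring M) (A₂ : ValuationSubring (ResidueField B)) :
    comp B A₂ →+* B := ValuationSubring.inclusion _ _ (comp_le B A₂)

/-- The reduction of the composite valuation ring. -/
def red {M : Type u} [Field M] (B : ValuationSubring M) (A₂ : ValuationSubring (ResidueField B)) :
    comp B A₂ →+* A₂ :=
  ((residue B).comp (incl B A₂)).codRestrict A₂.toSubring fun x => x.2.2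

theorem subtype_red {M : Type u} [Field M] (B : ValuationSubring M) (A₂ : ValuationSubring (ResidueField B)) :
    A₂.subtype.comp (red B A₂) = (residue B).comp (incl B A₂) := rfl

theorem red_surjective {M : Type u} [Field M] (B : ValuationSubring M)
    (A₂ : ValuationSubring (ResidueField B)) : Function.Surjective (red B A₂) := by
  intro a
  obtain ⟨b, hb⟩ := residue_surjective (R := B) a.1
  exact ⟨⟨b.1, b.2, by
    change residue B b ∈ A₂
    rw [hb]; exact a.2⟩, Subtype.ext hb⟩

/-- Pairs of elements with the same residue give elements of the composite. -/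
theorem exists_lift {R M : Type u} [CommRing R] [Field M] (B : ValuationSubring M)
    (A₂ : ValuationSubring (ResidueField B)) (f : R →+* B) (g : R →+* A₂)
    (h : (residue B).comp f = A₂.subtype.comp g) :
    ∃ k : R →+* comp B A₂, (incl B A₂).comp k = f ∧ (red B A₂).comp k = g := by
  refine ⟨(B.subtype.comp f).codRestrict (comp B A₂).toSubring fun x => ⟨(f x).2, ?_⟩, rfl, ?_⟩
  · have := RingHom.congr_fun h x
    change residue B (f x) ∈ A₂
    change residue B (f x) = (g x).1 at this
    rw [this]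
    exact (g x).2
  · ext x
    exact RingHom.congr_fun h x

/-- Primes lift along injective local homomorphisms of valuation rings. -/
theorem exists_prime_over {C C' : Type u} [CommRing C] [IsDomain C] [ValuationRing C] [CommRing C'] [IsDomain C']
    (φ : C →+* C') [IsLocalHom φ] (hinj : Function.Injective φ) (𝔭 : Ideal C) [𝔭.IsPrime] :
    ∃ 𝔮 : Ideal C', ∃ _ : 𝔮.IsPrime, 𝔮.comap φ = 𝔭 := by
  have key : ∀ y ∈ 𝔭.map φ, ∃ t ∈ 𝔭, ∃ c, y = φ t * c := by
    intro y hy
    refine Submodule.span_induction ?_ ?_ ?_ ?_ hy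
    · rintro _ ⟨t, ht, rfl⟩
      exact ⟨t, ht, 1, (mul_one _).symm⟩
    · exact ⟨0, 𝔭.zero_mem, 0, by simp⟩
    · rintro _ _ _ _ ⟨t, ht, c, rfl⟩ ⟨t', ht', c', rfl⟩
      rcases ValuationRing.dvd_total t t' with ⟨r, rfl⟩ | ⟨r, rfl⟩
      · exact ⟨t, ht, c + φ r * c', by rw [map_mul]; ring⟩
      · exact ⟨t', ht', φ r * c + c', by rw [map_mul]; ring⟩
    · rintro a _ _ ⟨t, ht, c, rfl⟩
      exact ⟨t, ht, a * c, by rw [smul_eq_mul]; ring⟩
  have h1 : (𝔭.map φ).comap φ = 𝔭 := by
    refine le_antisymm (fun x hx => ?_) Ideal.le_comap_map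
    obtain ⟨t, ht, c, hc⟩ := key _ hx
    by_contra hxp
    rcases ValuationRing.dvd_total t x with h | ⟨r, rfl⟩
    · exact hxp (𝔭.mem_of_dvd h ht)
    · have hr : r ∈ 𝔭 := ((Ideal.IsPrime.mem_or_mem inferInstance ht).resolve_left hxp)
      have hx0 : φ x ≠ 0 := fun h0 => hxp (by
        have : x = 0 := hinj (by rw [h0, map_zero])
        rw [this]; exact 𝔭.zero_mem)
      have h2 : φ r * c = 1 := by
        have : φ x * (φ r * c) = φ x * 1 := by rw [mul_one, ← mul_assoc, ← map_mul, ← hc]
        exact mul_left_cancel₀ hx0 this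
      have h3 : IsUnit r := (isUnit_map_iff φ r).1 (IsUnit.of_mul_eq_one _ h2)
      exact (Ideal.IsPrime.ne_top inferInstance) (Ideal.eq_top_of_isUnit_mem 𝔭 hr h3)
  obtain ⟨𝔮, h𝔮, h⟩ := (Ideal.comap_map_eq_self_iff_of_isPrime 𝔭).1 h1
  exact ⟨𝔮, h𝔮, h⟩

theorem valuationRing_atPrime {C : Type u} [CommRing C] [IsDomain C] [ValuationRing C] (𝔮 : Ideal C) [𝔮.IsPrime] :
    ValuationRing (Localization.AtPrime 𝔮) := by
  have : PreValuationRing (Localization.AtPrime 𝔮) := by
    refine ⟨fun a b => ?_⟩
    obtain ⟨x, s, rfl⟩ := IsLocalization.exists_mk'_eq 𝔮.primeCompl a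
    obtain ⟨y, t, rfl⟩ := IsLocalization.exists_mk'_eq 𝔮.primeCompl b
    rcases ValuationRing.dvd_total (x * t) (y * s) with ⟨r, hr⟩ | ⟨r, hr⟩
    · refine ⟨algebraMap _ _ r, Or.inl ?_⟩
      rw [← IsLocalization.mk'_one (M := 𝔮.primeCompl), ← IsLocalization.mk'_mul, mul_one,
        IsLocalization.mk'_eq_iff_eq]
      congr 1
      linear_combination -hr
    · refine ⟨algebraMap _ _ r, Or.inr ?_⟩
      rw [← IsLocalization.mk'_one (M := 𝔮.primeCompl), ← IsLocalization.mk'_mul, mul_one,
        IsLocalization.mk'_eq_iff_eq]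
      congr 1
      linear_combination -hr
  exact .mk

section Final

variable {M : Type u} [Field M] (B : ValuationSubring M) (A₂ : ValuationSubring (ResidueField B))

/-- The prime of the composite whose localization is `B`. -/
def pr : Ideal (comp B A₂) := (maximalIdeal B).comap (incl B A₂)

instance : (pr B A₂).IsPrime := Ideal.IsPrime.comap _

theorem incl_injective : Function.Injective (incl B A₂) := fun _ _ h =>
  Subtype.ext (congrArg (fun b : B => b.1) h)

theorem ker_red : RingHom.ker (red B A₂) = pr B A₂ := by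
  ext x
  rw [RingHom.mem_ker, pr, Ideal.mem_comap, ← residue_eq_zero_iff]
  constructor
  · intro h
    exact congrArg Subtype.val h
  · intro h
    exact Subtype.ext h

theorem isLocalization_incl :
    letI : Algebra (comp B A₂) B := (incl B A₂).toAlgebra
    IsLocalization (pr B A₂).primeCompl B := by
  letI : Algebra (comp B A₂) B := (incl B A₂).toAlgebra
  refine ⟨⟨fun s => ?_, fun z => ?_, fun {x y} h => ⟨1, ?_⟩⟩⟩
  · have : incl B A₂ s ∉ maximalIdeal B := s.2
    rw [mem_maximalIdeal, mem_nonunits_iff, not_not] at this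
    exact this
  · rcases (comp B A₂).mem_or_inv_mem z.1 with h | h
    · exact ⟨(⟨z.1, h⟩, 1), by rw [OneMemClass.coe_one, map_one, mul_one]; rfl⟩
    · by_cases h0 : z = 0
      · exact ⟨(0, 1), by rw [h0, zero_mul, map_zero]⟩
      have hz : z.1 ≠ 0 := fun h => h0 (Subtype.ext h)
      have h1 : z * incl B A₂ ⟨z.1⁻¹, h⟩ = 1 := Subtype.ext (mul_inv_cancel₀ hz)
      have h2 : (⟨z.1⁻¹, h⟩ : comp B A₂) ∈ (pr B A₂).primeCompl := by
        change incl B A₂ ⟨z.1⁻¹, h⟩ ∉ maximalIdeal B
        rw [mem_maximalIdeal, mem_nonunits_iff, not_not]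
        exact IsUnit.of_mul_eq_one_right _ h1
      exact ⟨(1, ⟨_, h2⟩), by rw [map_one]; exact h1⟩
  · rw [OneMemClass.coe_one, one_mul, one_mul]
    exact incl_injective B A₂ h

variable {B A₂} in
theorem mem_comp_of_mem_maximalIdeal {b : B} (hb : b ∈ maximalIdeal B) : ∃ x : comp B A₂, incl B A₂ x = b := by
  refine ⟨⟨b.1, b.2, ?_⟩, rfl⟩
  have : residue B ⟨b.1, b.2⟩ = 0 := (residue_eq_zero_iff _).2 hb
  rw [this]
  exact zero_mem _

variable {C' : Type u} [CommRing C'] [IsDomain C'] (φ : comp B A₂ →+* C') (𝔮 : Ideal C')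
  [𝔮.IsPrime] (hq : 𝔮.comap φ = pr B A₂)
include hq

theorem exists_j : ∃ j : B →+* Localization.AtPrime 𝔮, j.comp (incl B A₂) = (algebraMap C' _).comp φ ∧
    IsLocalHom j := by
  letI : Algebra (comp B A₂) B := (incl B A₂).toAlgebra
  haveI := isLocalization_incl B A₂
  have hunit : ∀ s : (pr B A₂).primeCompl, IsUnit (((algebraMap C' (Localization.AtPrime 𝔮)).comp φ) s) := by
    intro s
    rw [RingHom.comp_apply]
    refine (IsLocalization.AtPrime.isUnit_to_map_iff _ 𝔮 _).2 fun h => s.2 ?_
    exact (congrArg (fun I : Ideal (comp B A₂) => s.1 ∈ I) hq).mp h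
  refine ⟨IsLocalization.lift hunit, IsLocalization.lift_comp hunit, ⟨fun b hb => ?_⟩⟩
  by_contra hnu
  obtain ⟨x, rfl⟩ := mem_comp_of_mem_maximalIdeal (A₂ := A₂) (show b ∈ maximalIdeal B from hnu)
  have h1 : IsLocalization.lift hunit (incl B A₂ x) = algebraMap C' (Localization.AtPrime 𝔮) (φ x) :=
    IsLocalization.lift_eq hunit x
  rw [h1, IsLocalization.AtPrime.isUnit_to_map_iff _ 𝔮] at hb
  apply hb
  have : x ∈ 𝔮.comap φ := by rw [hq]; exact hnu
  exact this

theorem exists_a₂ [IsLocalHom φ] [IsLocalRing C'] : ∃ a₂ : A₂ →+* C' ⧸ 𝔮,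
    a₂.comp (red B A₂) = (Ideal.Quotient.mk 𝔮).comp φ ∧ IsLocalHom a₂ := by
  have hk : RingHom.ker (red B A₂) ≤ RingHom.ker ((Ideal.Quotient.mk 𝔮).comp φ) := by
    rw [ker_red, ← hq]
    intro x hx
    rw [RingHom.mem_ker, RingHom.comp_apply, Ideal.Quotient.eq_zero_iff_mem]
    exact hx
  let a₂ : A₂ →+* C' ⧸ 𝔮 := RingHom.liftOfRightInverse (red B A₂) (Function.surjInv (red_surjective B A₂))
    (Function.rightInverse_surjInv (red_surjective B A₂)) ⟨(Ideal.Quotient.mk 𝔮).comp φ, hk⟩
  have ha : a₂.comp (red B A₂) = (Ideal.Quotient.mk 𝔮).comp φ := by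
    refine RingHom.ext fun p => ?_
    exact RingHom.liftOfRightInverse_comp_apply (red B A₂) (Function.surjInv (red_surjective B A₂))
      (Function.rightInverse_surjInv (red_surjective B A₂)) ⟨(Ideal.Quotient.mk 𝔮).comp φ, hk⟩ p
  have : Nontrivial (C' ⧸ 𝔮) := Ideal.Quotient.nontrivial_iff.2 (Ideal.IsPrime.ne_top inferInstance)
  have h1 : IsLocalHom (Ideal.Quotient.mk 𝔮) := IsLocalHom.of_surjective _ Ideal.Quotient.mk_surjective
  refine ⟨a₂, ha, ⟨fun a hu => ?_⟩⟩
  obtain ⟨x, rfl⟩ := red_surjective B A₂ a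
  have h2 : a₂ (red B A₂ x) = Ideal.Quotient.mk 𝔮 (φ x) := RingHom.congr_fun ha x
  rw [h2] at hu
  have h3 : IsUnit x := (isUnit_map_iff φ x).1 ((isUnit_map_iff (Ideal.Quotient.mk 𝔮) _).1 hu)
  exact h3.map _

end Final

theorem exists_frac_aux {C' M' B' M₃ : Type u} [CommRing C'] [IsDomain C'] [Field M'] [Algebra C' M']
    [IsFractionRing C' M'] [CommRing B'] [IsDomain B'] (c : C' →+* B') (hc : Function.Injective c) [Field M₃]
    [Algebra B' M₃] [IsFractionRing B' M₃] :
    ∃ (μ : M' →+* M₃), μ.comp (algebraMap C' M') = (algebraMap B' M₃).comp c := by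
  have hcinj : Function.Injective ((algebraMap B' M₃).comp c) :=
    (IsFractionRing.injective B' M₃).comp hc
  exact ⟨IsFractionRing.lift hcinj, RingHom.ext fun x => IsFractionRing.lift_algebraMap hcinj x⟩

theorem exists_frac {C' M' B' : Type u} [CommRing C'] [IsDomain C'] [Field M'] [Algebra C' M'] [IsFractionRing C' M']
    [CommRing B'] [IsDomain B'] (c : C' →+* B') (hc : Function.Injective c) :
    ∃ (M₃ : Type u) (_ : Field M₃) (_ : Algebra B' M₃) (_ : IsFractionRing B' M₃) (μ : M' →+* M₃),
      μ.comp (algebraMap C' M') = (algebraMap B' M₃).comp c := by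
  refine ⟨FractionRing B', inferInstance, inferInstance, inferInstance, ?_⟩
  exact exists_frac_aux c hc

theorem exists_res {C' : Type u} [CommRing C'] (𝔮 : Ideal C') [𝔮.IsPrime] :
    ∃ (K'' : Type u) (_ : Field K'') (_ : Algebra (C' ⧸ 𝔮) K'') (_ : IsFractionRing (C' ⧸ 𝔮) K'')
      (r : Localization.AtPrime 𝔮 →+* K''), IsLocalHom r ∧
      r.comp (algebraMap C' _) = (algebraMap (C' ⧸ 𝔮) K'').comp (Ideal.Quotient.mk 𝔮) :=
  ⟨𝔮.ResidueField, inferInstance, inferInstance, inferInstance, residue _, inferInstance, by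
    ext x
    rfl⟩

/-- The algebra of the refined valuative criterion. -/
theorem final {M : Type u} [Field M] (B : ValuationSubring M) (A₂ : ValuationSubring (ResidueField B))
    {C' M' : Type u} [CommRing C'] [IsDomain C'] [ValuationRing C'] [Field M'] [Algebra C' M']
    [IsFractionRing C' M'] (φ : comp B A₂ →+* C') (ψ : M →+* M')
    (hc : (algebraMap C' M').comp φ = ψ.comp (algebraMap (comp B A₂) M)) (hφ : IsLocalHom φ) :
    ∃ (B' M₃ : Type u) (_ : CommRing B') (_ : IsDomain B') (_ : ValuationRing B') (_ : Field M₃)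
      (_ : Algebra B' M₃) (_ : IsFractionRing B' M₃) (A'' K'' : Type u) (_ : CommRing A'') (_ : IsDomain A'')
      (_ : ValuationRing A'') (_ : Field K'') (_ : Algebra A'' K'') (_ : IsFractionRing A'' K'')
      (c : C' →+* B') (j : B →+* B') (μ : M' →+* M₃) (c'' : C' →+* A'') (κ'' : ResidueField B →+* K'')
      (r : B' →+* K'') (a₂ : A₂ →+* A''), c.comp φ = j.comp (incl B A₂) ∧
        μ.comp (algebraMap C' M') = (algebraMap B' M₃).comp c ∧
        (algebraMap B' M₃).comp j = (μ.comp ψ).comp B.subtype ∧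
        r.comp c = (algebraMap A'' K'').comp c'' ∧ r.comp j = κ''.comp (residue B) ∧
        c''.comp φ = a₂.comp (red B A₂) ∧ (algebraMap A'' K'').comp a₂ = κ''.comp A₂.subtype ∧ IsLocalHom a₂ := by
  have hinj : Function.Injective φ := by
    have h1 : Function.Injective ((algebraMap C' M').comp φ) := by
      rw [hc]
      exact ψ.injective.comp (IsFractionRing.injective (comp B A₂) M)
    exact Function.Injective.of_comp (f := algebraMap C' M') h1
  obtain ⟨𝔮, h𝔮, hq⟩ := exists_prime_over φ hinj (pr B A₂)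
  obtain ⟨j, hj, hjloc⟩ := exists_j B A₂ φ 𝔮 hq
  obtain ⟨a₂, ha, haloc⟩ := exists_a₂ B A₂ φ 𝔮 hq
  have hAV : ValuationRing (C' ⧸ 𝔮) :=
    Function.Surjective.valuationRing (Ideal.Quotient.mk 𝔮) Ideal.Quotient.mk_surjective
  have hcinj : Function.Injective (algebraMap C' (Localization.AtPrime 𝔮)) :=
    IsLocalization.injective (Localization.AtPrime 𝔮) (Ideal.primeCompl_le_nonZeroDivisors 𝔮)
  have hdom : IsDomain (Localization.AtPrime 𝔮) := inferInstance
  have hBV : ValuationRing (Localization.AtPrime 𝔮) := valuationRing_atPrime 𝔮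
  obtain ⟨M₃, i1, i2, i3, μ, hμ⟩ := exists_frac (M' := M') (algebraMap C' (Localization.AtPrime 𝔮)) hcinj
  obtain ⟨K'', k1, k2, k3, r, hr, hr'⟩ := exists_res 𝔮
  have hloc : IsLocalHom (r.comp j) := inferInstance
  have hκ : (ResidueField.lift (r.comp j)).comp (residue B) = r.comp j := ResidueField.lift_comp_residue _
  refine ⟨Localization.AtPrime 𝔮, M₃, inferInstance, hdom, hBV, i1, i2, i3, C' ⧸ 𝔮, K'', inferInstance,
    inferInstance, hAV, k1, k2, k3, algebraMap _ _, j, μ, Ideal.Quotient.mk 𝔮,
    ResidueField.lift (r.comp j), r, a₂, hj.symm, hμ, ?_, hr', hκ.symm, ha.symm, ?_, haloc⟩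
  · letI : Algebra (comp B A₂) B := (incl B A₂).toAlgebra
    haveI := isLocalization_incl B A₂
    refine IsLocalization.ringHom_ext (pr B A₂).primeCompl ?_
    change ((algebraMap _ _).comp j).comp (incl B A₂) = ((μ.comp ψ).comp B.subtype).comp (incl B A₂)
    rw [RingHom.comp_assoc, hj, ← RingHom.comp_assoc, ← hμ, RingHom.comp_assoc, hc]
    rfl
  · refine RingHom.ext fun a => ?_
    obtain ⟨x, rfl⟩ := red_surjective B A₂ a
    have h1 : a₂ (red B A₂ x) = Ideal.Quotient.mk 𝔮 (φ x) := RingHom.congr_fun ha x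
    have h2 : j (incl B A₂ x) = algebraMap C' _ (φ x) := RingHom.congr_fun hj x
    have h3 : A₂.subtype (red B A₂ x) = residue B (incl B A₂ x) := RingHom.congr_fun (subtype_red B A₂) x
    have h4 := RingHom.congr_fun hκ (incl B A₂ x)
    have h5 := RingHom.congr_fun hr' (φ x)
    rw [RingHom.comp_apply, RingHom.comp_apply] at h4 h5
    rw [RingHom.comp_apply, h1, RingHom.comp_apply, h3, h4, h2, h5]

end K615.ValAlg
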