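import Groth.Agent.AlgSp.K615.RelNorm
import Groth.Agent.AlgSp.K615.SchNorm
import Groth.Agent.AlgSp.K595.DescInst
import Groth.Agent.AlgSp.K595.DiagRel
import Groth.Agent.AlgSp.K596.QC
import Mathlib.AlgebraicGeometry.ZariskisMainTheorem

/-!
# Zariski's main theorem for representable quasi-finite separated morphisms (helper615)
-/

set_option autoImplicit false
universe u v
open CategoryTheory CategoryTheory.Limits AlgebraicGeometry Opposite AlgSp

namespace K615.Zmt

open K594.Elem K597.EffDesc K597.Affine K615.Norm K615.UN K615.Desc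

variable {S : Scheme.{u}}

/-- `RepWith P f` can be checked étale locally on the target when compact opens of the local fibres are
quasi-affine. -/
theorem repWith_of_local {F G : Sp S} {f : F ⟶ G} (P : MorphismProperty Scheme.{u})
    (hQ : ∀ ⦃X Y : Scheme.{u}⦄ (g : X ⟶ Y), P g → IsAffine Y → ∀ O : X.Opens, IsCompact (O : Set X) →
      (O : Scheme.{u}).IsQuasiAffine) [P.IsStableUnderBaseChange]
    [IsZariskiLocalAtTarget P] [P.DescendsAlong Fppf.{u}]
    (H : ∀ (T : Over S) (g : (yon S).obj T ⟶ G) (t : T.left),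
      ∃ (V : Over S) (v : V ⟶ T) (W : Over S) (w : W ⟶ V) (fst : (yon S).obj W ⟶ F),
        Etale v.left ∧ t ∈ Set.range v.left ∧ IsPullback fst ((yon S).map w) f ((yon S).map v ≫ g) ∧ P w.left) :
    RepWith P f := by
  refine repWith_of_etale_local _ fun U y t => ?_
  obtain ⟨V₀, v₀, W₀, w₀, fst, hv₀, ⟨t', rfl⟩, sq, hw₀⟩ := H U (secEquiv.symm y) t
  obtain ⟨V, v, hV, hv, ⟨s, hs⟩, -⟩ := exists_affine_nhd V₀ ⊤ t' trivial
  have h1 := isRep_of_isPullback sq
  have h2 := h1.baseChange (IsPullback.of_hasPullback w₀ v)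
  have sqk := (IsPullback.of_hasPullback w₀ v).map (Over.forget S)
  have hw : P (pullback.snd w₀ v).left := MorphismProperty.of_isPullback (P := P) sqk hw₀
  rw [secEquiv_precomp, Equiv.apply_symm_apply, ← map_comp_apply] at h2
  refine ⟨V, v ≫ v₀, _, _, _, ?_, ⟨s, ?_⟩, h2, hw, hQ _ hw hV⟩
  · rw [Over.comp_left]; infer_instance
  · rw [Over.comp_left, Scheme.Hom.comp_apply, hs]

theorem repWith_of_family {F G : Sp S} {f : F ⟶ G} (P : MorphismProperty Scheme.{u})
    (hQ : ∀ ⦃X Y : Scheme.{u}⦄ (g : X ⟶ Y), P g → IsAffine Y → ∀ O : X.Opens, IsCompact (O : Set X) →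
      (O : Scheme.{u}).IsQuasiAffine) [P.IsStableUnderBaseChange]
    [IsZariskiLocalAtTarget P] [P.DescendsAlong Fppf.{u}] {ι : Type v} {Gi Fi : ι → Sp S} {j : ∀ i, Gi i ⟶ G}
    (hj : ∀ i, RepWith @Etale (j i)) (hcov : ∀ x : Points G, ∃ i, x ∈ Set.range (Points.map (j i)))
    {p : ∀ i, Fi i ⟶ F} {q : ∀ i, Fi i ⟶ Gi i} (sq : ∀ i, IsPullback (p i) (q i) f (j i))
    (hq : ∀ i, RepWith P (q i)) : RepWith P f := by
  refine repWith_of_local P hQ fun T g t => ?_
  obtain ⟨i, y, hy⟩ := hcov (Points.ofPt g t)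
  obtain ⟨V, v, fst, sqV⟩ := (hj i).1 g
  have hv : Etale v.left := (hj i).2 g fst v sqV
  obtain ⟨W, w, fst', sqW⟩ := (hq i).1 fst
  have hw : P w.left := (hq i).2 fst fst' w sqW
  refine ⟨V, v, W, w, fst' ≫ p i, hv, ?_, ?_, hw⟩
  · obtain ⟨v', -, hv'⟩ := K610.Base.exists_of_isPullback_yon sqV y t hy
    exact ⟨v', hv'⟩
  · rw [← sqV.w]
    exact sqW.paste_horiz (sq i)

/-- quasi-compact open immersions -/
abbrev QcOpen : MorphismProperty Scheme.{u} := @IsOpenImmersion ⊓ @QuasiCompact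

theorem descendsAlong_qcOpen : QcOpen.{u}.DescendsAlong Fppf.{u} := by
  have h1 : MorphismProperty.DescendsAlong @IsOpenImmersion Fppf.{u} := K595.DescInst.isOpenImmersion.{u}
  have h2 : MorphismProperty.DescendsAlong @QuasiCompact Fppf.{u} := K595.DescInst.quasiCompact.{u}
  infer_instance

theorem qaff_of_open ⦃X Y : Scheme.{u}⦄ (g : X ⟶ Y) (hg : IsOpenImmersion g) (hY : IsAffine Y) (O : X.Opens)
    (hO : IsCompact (O : Set X)) : (O : Scheme.{u}).IsQuasiAffine := by
  have : CompactSpace O := isCompact_iff_compactSpace.1 hO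
  exact Scheme.IsQuasiAffine.of_isImmersion (O.ι ≫ g)

/-- Zariski's main theorem for representable morphisms. -/
theorem main {X Y Y' : Sp S} (hY : IsAlgSpace Y) (hY' : IsAlgSpace Y') {f : X ⟶ Y} (hrep : Representable f)
    (hqf : LocP (@LocallyQuasiFinite ⊓ @LocallyOfFiniteType) f) (hqc : IsQuasiCompactMor f)
    (hsep : IsSeparatedMor f) (hqs : IsQuasiSeparatedMor f) {ν : Y' ⟶ Y} {f' : X ⟶ Y'}
    (hn : IsRelNormalization f ν f') : RepWith QcOpen f' := by
  obtain ⟨X₁, ν₁, f₁, hX₁, h⟩ := RelNorm.exists_uNorm hY hqc hqs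
  have hun : UNorm f ν f' := h.of_isRel hY hX₁ hY' hn
  have key : ∀ c : Cov.Chart Y, ∃ (FX GN : Sp S) (p : FX ⟶ X) (q : FX ⟶ GN) (m : GN ⟶ Y') (νc : GN ⟶ (yon S).obj c.U),
      IsPullback p q f' m ∧ IsPullback m νc ν c.a ∧ RepWith QcOpen q := by
    intro c
    obtain ⟨V, v, fst, sq⟩ := hrep c.a
    have hv1 : QuasiCompact v.left := (K596.QC.repWith_of_isQuasiCompactMor hrep hqc).2 _ _ _ sq
    have hv2 : IsSeparated v.left := (isSeparatedMor_yon_map_iff v).1
      (K595.DiagRel.isSeparatedMor_isStableUnderBaseChange.of_isPullback sq hsep)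
    have hv3 : (@LocallyQuasiFinite ⊓ @LocallyOfFiniteType : MorphismProperty Scheme.{u}) v.left :=
      hqf fst c.a v (MorphismProperty.of_isPullback sq.flip c.etale) c.etale sq.w
    have hv4 : LocallyQuasiFinite v.left := hv3.1
    have hv5 : LocallyOfFiniteType v.left := hv3.2
    have sqN := IsPullback.of_hasPullback ν c.a
    let g : (yon S).obj V ⟶ pullback ν c.a := sqN.lift (fst ≫ f') ((yon S).map v) (by
      rw [Category.assoc, hun.w, sq.w])
    have hg1 : g ≫ pullback.fst ν c.a = fst ≫ f' := sqN.lift_fst _ _ _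
    have hg2 : g ≫ pullback.snd ν c.a = (yon S).map v := sqN.lift_snd _ _ _
    have hrel : IsRelNormalization ((yon S).map v) (pullback.snd ν c.a) g :=
      hun.charts c.U c.a c.affine c.etale _ _ _ _ _ sq sqN hg2 hg1
    let N₀ : Over S := Over.mk (v.left.fromNormalization ≫ c.U.hom)
    let n₀ : V ⟶ N₀ := Over.homMk v.left.toNormalization (by
      change v.left.toNormalization ≫ v.left.fromNormalization ≫ c.U.hom = V.hom
      rw [← Category.assoc, Scheme.Hom.toNormalization_fromNormalization, Over.w])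
    let ν₀ : N₀ ⟶ c.U := Over.homMk v.left.fromNormalization
    have hrel' : IsRelNormalization ((yon S).map v) ((yon S).map ν₀) ((yon S).map n₀) :=
      SchNorm.isRel v n₀ ν₀ (Iso.refl _) (Category.comp_id _) (Category.id_comp _)
    have hNalg : IsAlgSpace (pullback ν c.a) := isAlgSpace_of_integral hrel.2.1 (IsAlgSpace.yon_obj _)
    obtain ⟨e, he1, he2⟩ := exists_iso hNalg (IsAlgSpace.yon_obj _) hrel hrel'
    refine ⟨_, _, fst, g, pullback.fst ν c.a, pullback.snd ν c.a, ?_, sqN, ?_⟩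
    · refine IsPullback.of_bot ?_ hg1.symm sqN
      rw [hun.w, hg2]
      exact sq
    · have hn₀ : QcOpen n₀.left := ⟨inferInstanceAs (IsOpenImmersion v.left.toNormalization),
        inferInstanceAs (QuasiCompact v.left.toNormalization)⟩
      have h1 : RepWith QcOpen ((yon S).map n₀) := (repWith_yon_map_iff _ _).2 hn₀
      have h2 : g = (yon S).map n₀ ≫ e.inv := by rw [← he1, Category.assoc, e.hom_inv_id, Category.comp_id]
      rw [h2]
      exact (MorphismProperty.cancel_right_of_respectsIso (RepWith QcOpen) _ _).2 h1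
  choose FX GN p q m νc sq1 sq2 hq using key
  have := descendsAlong_qcOpen.{u}
  refine repWith_of_family (f := f') QcOpen (fun _ _ g hg => qaff_of_open g hg.1) (j := m) ?_ ?_ sq1 hq
  · intro c
    exact MorphismProperty.of_isPullback (sq2 c).flip c.etale
  · intro x
    obtain ⟨c, y, hy⟩ := points_of_charts hY (Points.map ν x)
    obtain ⟨z, hz, -⟩ := K610.Base.exists_of_isPullback (sq2 c) x y hy.symm
    exact ⟨c, z, hz⟩

theorem final {X Y Y' : Sp S} (hY : IsAlgSpace Y) (hY' : IsAlgSpace Y') {f : X ⟶ Y} (hrep : Representable f)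
    (hqf : LocP (@LocallyQuasiFinite ⊓ @LocallyOfFiniteType) f) (hqc : IsQuasiCompactMor f)
    (hsep : IsSeparatedMor f) {ν : Y' ⟶ Y} {f' : X ⟶ Y'} (hn : IsRelNormalization f ν f') :
    RepWith @IsOpenImmersion f' ∧ IsQuasiCompactMor f' ∧ IsQuasiAffineMor f := by
  have hqs : IsQuasiSeparatedMor f := by
    refine K610.Base.repWith_mono ?_ hsep
    intro _ _ g hg
    have : IsClosedImmersion g := hg
    exact (inferInstance : QuasiCompact g)
  have h := main hY hY' hrep hqf hqc hsep hqs hn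
  have h1 : RepWith @IsOpenImmersion f' := K610.Base.repWith_mono inf_le_left h
  have h2 : RepWith @QuasiCompact f' := K610.Base.repWith_mono inf_le_right h
  refine ⟨h1, K596.QC.isQuasiCompactMor_of_repWith h2, ?_⟩
  intro Z hZ g
  obtain ⟨N, j, b, sq, hN, -⟩ := hn.2.1 hZ g
  obtain ⟨W, w, fst, sqW⟩ := h.1 b
  have hw : QcOpen w.left := h.2 _ _ _ sqW
  have hw1 : IsOpenImmersion w.left := hw.1
  have hw2 : QuasiCompact w.left := hw.2
  have hWc : CompactSpace W.left := QuasiCompact.compactSpace_of_compactSpace w.left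
  refine ⟨W, w ≫ j, fst, ?_, Scheme.IsQuasiAffine.of_isImmersion w.left⟩
  rw [← hn.1, (yon S).map_comp]
  exact (sqW.flip.paste_horiz sq.flip).flip

end K615.Zmt
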